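import Cfsg.Agent.CosetEnum.Check

/-! Generated data for a solvable maximal subgroup of Fi23. -/

set_option autoImplicit false
set_option maxRecDepth 100000

namespace CfsgLib.Fi23Solv

open CfsgLib.CosetEnum (NTree slot16 slot32)

/-- transporter or refutation for one candidate image -/
inductive Case where
  | tr (w : List ℕ)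
  | ref (st : List (ℕ × ℕ × List ℕ × List ℕ)) (kind l m : ℕ)

def cases0 : List Case := [
  .tr [14, 10, 2, 1, 1],
  .tr [14, 10, 2, 1],
  .tr [14, 10, 2, 2, 1, 1],
  .tr [14, 10, 1],
  .tr [10, 2, 2, 1, 1],
  .tr [14, 10],
  .tr [10, 2, 1, 1],
  .tr [10, 2, 1],
  .tr [14, 10, 2, 2],
  .tr [2, 1],
  .tr [10, 2, 2, 1],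
  .tr [10, 2, 2],
  .tr [2, 2, 1, 1],
  .tr [2, 2, 1],
  .tr [10, 2],
  .tr [2],
  .tr [2, 1, 1],
  .tr [2, 2],
  .tr [14, 10, 1, 1],
  .tr [14, 2],
  .tr [14, 10, 2, 2, 1],
  .tr [14, 2, 2, 1, 1],
  .tr [14, 2, 1, 1],
  .tr [14],
  .tr [14, 2, 2],
  .tr [14, 1, 1],
  .tr [14, 2, 2, 1],
  .tr [10, 1],
  .tr [17, 16, 16, 14, 2, 1],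
  .tr [14, 2, 1],
  .tr [14, 1],
  .tr [10, 1, 1],
  .tr [10],
  .tr [1],
  .tr [14, 10, 2],
  .tr [17, 17, 16, 2, 1],
  .tr [17, 17, 16, 14, 2, 2, 1],
  .tr [17, 17, 16, 14, 10, 2],
  .tr [17, 17, 16, 14, 1, 1],
  .tr [17, 17, 16, 14, 10, 2, 2, 1],
  .tr [17, 17, 16, 10, 1, 1],
  .tr [17, 17, 16, 2, 2],
  .tr [1, 1],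
  .tr [17, 16, 16, 10, 2],
  .tr [17, 16, 16, 14, 10, 2, 1, 1],
  .tr [17, 16, 16, 10, 2, 2],
  .tr [17, 16, 16, 14, 10],
  .tr [17, 16, 16, 2, 2, 1],
  .tr [17, 16, 16, 14, 2, 2, 1, 1],
  .tr [16, 14, 1, 1],
  .tr [17, 16, 16, 14, 1],
  .tr [17, 16, 16],
  .tr [17, 16, 16, 10, 1, 1],
  .tr [17, 16, 16, 1, 1],
  .tr [17, 16, 16, 14, 2],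
  .tr [17, 16, 16, 14, 10, 1, 1],
  .tr [17, 16, 16, 14, 2, 2, 1],
  .tr [17, 16, 16, 2, 1],
  .tr [17, 16, 16, 14, 10, 2, 2],
  .tr [17, 16, 16, 10, 2, 1, 1],
  .tr [17, 16, 16, 14, 2, 1, 1],
  .tr [17, 16, 16, 14],
  .tr [],
  .tr [17, 17, 16, 1],
  .tr [17, 17, 16, 10, 2, 2, 1, 1],
  .tr [17, 17, 16, 14, 2, 2, 1, 1],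
  .tr [17, 17, 16, 10, 2],
  .tr [17, 17, 16],
  .tr [17, 17, 16, 14, 10, 1],
  .tr [17, 17, 16, 2, 2, 1],
  .tr [17, 17, 16, 10],
  .tr [17, 17, 16, 14, 10],
  .tr [17, 17, 16, 14],
  .tr [17, 17, 16, 2, 2, 1, 1],
  .tr [17, 17, 16, 14, 1],
  .tr [17, 17, 16, 14, 10, 2, 1, 1],
  .tr [17, 17, 16, 10, 1],
  .tr [17, 17, 16, 1, 1],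
  .tr [16, 16, 10, 2, 2, 1, 1],
  .tr [16, 16, 14, 2, 2, 1],
  .tr [16, 16, 10, 2],
  .tr [16, 16, 14, 10, 1, 1],
  .tr [16, 16, 2, 1],
  .tr [16, 16, 14, 1],
  .tr [16, 16, 1],
  .tr [17, 17, 16, 14, 2],
  .tr [17, 17, 16, 14, 10, 2, 1],
  .tr [17, 17, 16, 2],
  .tr [17, 17, 16, 14, 2, 1],
  .tr [17, 17, 16, 10, 2, 2, 1],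
  .tr [17, 17, 16, 14, 2, 2],
  .tr [17, 17, 16, 14, 10, 2, 2],
  .tr [17, 17, 16, 14, 2, 1, 1],
  .tr [17, 17, 16, 10, 2, 1, 1],
  .tr [17, 17, 16, 14, 10, 1, 1],
  .tr [17, 17, 16, 2, 1, 1],
  .tr [17, 17, 16, 14, 10, 2, 2, 1, 1],
  .tr [17, 16, 16, 10],
  .tr [17, 16, 16, 14, 10, 2, 1],
  .tr [17, 16, 16, 10, 2, 1],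
  .tr [17, 16, 16, 2, 2],
  .tr [17, 16, 16, 10, 2, 2, 1],
  .tr [17, 16, 16, 14, 10, 1],
  .tr [17, 16, 16, 10, 2, 2, 1, 1],
  .tr [17, 16, 16, 2, 2, 1, 1],
  .tr [17, 16, 16, 14, 10, 2, 2, 1],
  .tr [17, 16, 16, 14, 10, 2, 2, 1, 1],
  .tr [17, 16, 16, 2],
  .tr [17, 16, 16, 14, 1, 1],
  .tr [17, 16, 16, 1],
  .tr [17, 16, 16, 14, 10, 2],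
  .tr [17, 16, 16, 10, 1],
  .tr [17, 16, 16, 2, 1, 1],
  .tr [17, 16, 16, 14, 2, 2],
  .tr [16, 1, 1],
  .tr [16, 14, 2, 2],
  .tr [16, 14, 10, 2, 2],
  .tr [16, 10, 2, 2],
  .tr [16, 2, 2, 1, 1],
  .tr [16, 10, 2, 2, 1, 1],
  .tr [16, 2, 1, 1],
  .tr [16, 10, 2, 1],
  .tr [16, 14, 10, 2],
  .tr [16, 14, 2, 1],
  .tr [16, 14, 10, 2, 2, 1],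
  .tr [16, 14, 10, 2, 1],
  .tr [16, 10],
  .tr [16, 10, 1, 1],
  .tr [16, 2, 2],
  .tr [16, 10, 2, 2, 1],
  .tr [16, 2, 2, 1],
  .tr [16, 14, 10, 1],
  .tr [16, 14, 2, 2, 1],
  .tr [16, 14, 10, 2, 1, 1],
  .tr [16, 14, 2],
  .tr [16, 16, 14, 10, 2, 2, 1, 1],
  .tr [17, 17, 16, 10, 2, 1],
  .tr [17, 17, 16, 10, 2, 2],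
  .tr [16, 16, 2, 1, 1],
  .tr [16, 16, 14, 10, 2],
  .tr [16, 16, 14, 10, 1],
  .tr [16, 16, 10, 1],
  .tr [16, 16, 1, 1],
  .tr [16, 16, 14, 2, 1],
  .tr [16, 16, 2, 2, 1, 1],
  .tr [16, 16, 14, 2],
  .tr [16, 16, 2, 2, 1],
  .tr [16, 16, 14, 2, 2, 1, 1],
  .tr [16, 16, 14, 10, 2, 2],
  .tr [16, 16, 10, 2, 1, 1],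
  .tr [16, 16, 14, 10, 2, 1],
  .tr [16, 16, 10, 1, 1],
  .tr [16, 16],
  .tr [16, 16, 14, 10],
  .tr [16, 16, 14, 10, 2, 2, 1],
  .tr [16, 16, 10, 2, 2, 1],
  .tr [16, 16, 14, 10, 2, 1, 1],
  .tr [16, 16, 10, 2, 1],
  .tr [16, 16, 2, 2],
  .tr [16, 16, 14],
  .tr [16, 16, 2],
  .tr [16, 16, 14, 2, 1, 1],
  .tr [16, 16, 14, 2, 2],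
  .tr [16, 16, 14, 1, 1],
  .tr [16, 16, 10],
  .tr [16, 16, 10, 2, 2],
  .tr [16],
  .tr [16, 14, 10, 1, 1],
  .tr [16, 10, 1],
  .tr [16, 1],
  .tr [16, 14, 2, 1, 1],
  .tr [16, 14, 1],
  .tr [16, 10, 2],
  .tr [16, 10, 2, 1, 1],
  .tr [16, 14, 10, 2, 2, 1, 1],
  .tr [16, 14, 10],
  .tr [16, 14],
  .tr [16, 14, 2, 2, 1, 1],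
  .tr [16, 2],
  .tr [16, 2, 1],
  .tr [17, 14, 10, 1, 1],
  .tr [17, 10, 2, 1],
  .tr [17, 17, 16, 16, 10],
  .tr [17, 10, 2, 2],
  .tr [17, 17, 16, 16],
  .tr [17, 16, 14, 10, 2, 2],
  .tr [17, 17, 14, 2, 2, 1],
  .tr [17, 17, 1],
  .tr [17, 17, 10, 2, 2, 1],
  .tr [17, 17, 14, 10, 2, 1, 1],
  .tr [17, 17, 14, 10, 1],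
  .tr [17, 17, 14, 1],
  .tr [17, 17, 10, 2],
  .tr [17, 17, 14, 10, 2, 2, 1],
  .tr [17, 17],
  .tr [17, 17, 10, 2, 1, 1],
  .tr [17, 16, 10, 2, 2, 1, 1],
  .tr [17, 16, 14, 2, 2],
  .tr [17, 16, 1, 1],
  .tr [17, 16, 10, 2, 1],
  .tr [17, 16, 14, 2, 2, 1],
  .tr [17, 16, 14, 10, 2, 1, 1],
  .tr [17, 17, 1, 1],
  .tr [17, 17, 14, 10],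
  .tr [17, 17, 10, 1],
  .tr [17, 17, 10, 1, 1],
  .tr [17, 17, 14, 2, 1],
  .tr [17, 16, 14, 1, 1],
  .tr [17, 16, 2, 1],
  .tr [17, 16, 10, 1, 1],
  .tr [17, 17, 16, 16, 14, 2, 1],
  .tr [17, 14, 10, 2, 2, 1],
  .tr [17, 17, 16, 16, 14, 10],
  .tr [17, 17, 16, 16, 1],
  .tr [17, 17, 16, 16, 14, 2, 1, 1],
  .tr [17, 17, 16, 16, 14, 10, 1],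
  .tr [17, 17, 16, 16, 10, 2, 2],
  .tr [17, 1, 1],
  .tr [17, 14, 1],
  .tr [17, 10, 1, 1],
  .tr [17, 14, 2, 2, 1],
  .tr [17, 14, 10, 2],
  .tr [17, 2, 2, 1, 1],
  .tr [17, 14, 1, 1],
  .tr [17, 1],
  .tr [17, 10, 2, 2, 1, 1],
  .tr [17, 2, 1, 1],
  .tr [17, 14, 10, 2, 1],
  .tr [17, 14, 2, 2, 1, 1],
  .tr [17, 14, 10, 1],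
  .tr [17, 2, 1],
  .tr [17, 14],
  .tr [17, 10, 1],
  .tr [17, 14, 10],
  .tr [17, 10, 2, 2, 1],
  .tr [17, 17, 16, 16, 14, 10, 2, 2],
  .tr [17, 17, 16, 16, 2],
  .tr [17, 17, 16, 16, 10, 1],
  .tr [17, 17, 16, 16, 14, 1, 1],
  .tr [17, 17, 16, 16, 2, 1],
  .tr [17, 17, 16, 16, 10, 2],
  .tr [17, 17, 16, 16, 14, 2],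
  .tr [17, 17, 16, 16, 10, 1, 1],
  .tr [17, 17, 16, 16, 14, 10, 2, 2, 1],
  .tr [17, 2, 2, 1],
  .tr [17, 14, 10, 2, 2, 1, 1],
  .tr [17, 10],
  .tr [17, 14, 2, 2],
  .tr [17, 10, 2],
  .tr [17, 17, 16, 16, 14, 10, 2],
  .tr [17, 17, 16, 16, 10, 2, 2, 1],
  .tr [17, 17, 16, 16, 1, 1],
  .tr [17, 17, 16, 16, 14, 1],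
  .tr [17, 17, 16, 16, 2, 2],
  .tr [17, 16, 14, 2, 1],
  .tr [17, 16, 14, 10, 1],
  .tr [17, 16, 2, 1, 1],
  .tr [17, 16, 10],
  .tr [17, 17, 14, 10, 2],
  .tr [17, 16, 14, 10],
  .tr [17, 16, 10, 2, 2, 1],
  .tr [17, 16, 2, 2],
  .tr [17, 16],
  .tr [17, 16, 14, 10, 2],
  .tr [17, 16, 14],
  .tr [17, 17, 2, 1],
  .tr [17, 17, 14, 2, 2],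
  .tr [17, 17, 10, 2, 2],
  .tr [17, 17, 14, 10, 2, 2, 1, 1],
  .tr [17, 17, 14, 2, 1, 1],
  .tr [17, 17, 2, 1, 1],
  .tr [17, 17, 14],
  .tr [17, 17, 2, 2],
  .tr [17, 17, 2],
  .tr [17, 17, 10, 2, 2, 1, 1],
  .tr [17, 17, 14, 10, 1, 1],
  .tr [17, 17, 14, 2, 2, 1, 1],
  .tr [17, 17, 14, 10, 2, 1],
  .tr [17, 17, 2, 2, 1, 1],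
  .tr [17, 17, 14, 2],
  .tr [17, 17, 10, 2, 1],
  .tr [17, 16, 14, 10, 2, 2, 1, 1],
  .tr [17, 16, 10, 2, 1, 1],
  .tr [17, 16, 14, 2, 2, 1, 1],
  .tr [17, 16, 1],
  .tr [17, 16, 10, 1],
  .tr [17, 16, 14, 2, 1, 1],
  .tr [17, 16, 2, 2, 1],
  .tr [17, 16, 14, 10, 1, 1],
  .tr [17, 17, 2, 2, 1],
  .tr [17, 17, 14, 10, 2, 2],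
  .tr [17, 17, 10],
  .tr [17, 17, 14, 1, 1],
  .tr [17, 16, 14, 10, 2, 1],
  .tr [17, 16, 14, 1],
  .tr [17, 16, 10, 2],
  .tr [17, 16, 2],
  .tr [17, 17, 16, 16, 10, 2, 1],
  .tr [17, 17, 16, 16, 14, 10, 2, 1],
  .tr [17, 17, 16, 16, 14, 2, 2, 1],
  .tr [17, 17, 16, 16, 2, 1, 1],
  .tr [17, 14, 10, 2, 2],
  .tr [17, 17, 16, 16, 14, 10, 1, 1],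
  .tr [17, 17, 16, 16, 2, 2, 1],
  .tr [17, 17, 16, 16, 14],
  .tr [17, 17, 16, 16, 14, 2, 2, 1, 1],
  .tr [17, 17, 16, 16, 10, 2, 2, 1, 1],
  .tr [17, 2, 2],
  .tr [17, 14, 2, 1, 1],
  .tr [17, 14, 10, 2, 1, 1],
  .tr [17, 10, 2, 1, 1],
  .tr [17, 14, 2],
  .tr [17, 2],
  .tr [17],
  .tr [17, 14, 2, 1],
  .tr [17, 17, 16, 16, 14, 10, 2, 2, 1, 1],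
  .tr [17, 17, 16, 16, 10, 2, 1, 1],
  .tr [17, 17, 16, 16, 14, 2, 2],
  .tr [17, 17, 16, 16, 14, 10, 2, 1, 1],
  .tr [17, 17, 16, 16, 2, 2, 1, 1],
  .tr [17, 16, 14, 2],
  .tr [17, 16, 14, 10, 2, 2, 1],
  .tr [17, 16, 10, 2, 2],
  .tr [17, 16, 2, 2, 1, 1]]

def cases1 : List Case := [
  .tr [],
  .tr [7, 7, 1],
  .tr [7, 3, 1],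
  .tr [7, 3, 3],
  .tr [15, 7, 7, 3],
  .tr [3, 3, 1],
  .tr [15, 7, 3, 3],
  .tr [15, 3, 1, 1],
  .tr [7, 7, 3],
  .ref [(1, 0, [1, 0, 2, 3, 4, 5, 6, 7, 3, 2, 4, 3, 5, 4, 7, 3, 2, 1, 9, 6, 5, 4, 3, 2], [1, 0, 2, 3, 4, 5, 6, 7, 3, 2, 4, 3, 5, 4, 8, 7, 3, 2, 9, 6, 5, 4, 3, 7])] 1 0 2,
  .tr [15, 7, 1, 1],
  .tr [15, 3, 3, 1],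
  .ref [(1, 0, [1, 0, 2, 3, 4, 5, 6, 7, 3, 2, 4, 3, 5, 4, 7, 3, 2, 1, 9, 6, 5, 4, 3, 2], [1, 2, 3, 4, 5, 6, 7, 3, 2, 4, 3, 5, 4, 8, 7, 3, 2, 9, 6, 5, 4, 3, 7])] 1 0 2,
  .ref [(1, 0, [1, 0, 2, 3, 4, 5, 6, 7, 3, 2, 4, 3, 5, 4, 7, 3, 2, 1, 9, 6, 5, 4, 3, 2], [1, 0, 2, 3, 4, 5, 6, 7, 3, 2, 4, 3, 5, 4, 8, 7, 3, 2, 1, 9, 6, 5, 4, 3, 7])] 1 0 2,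
  .tr [15, 7, 7, 1],
  .ref [(1, 0, [1, 0, 2, 3, 4, 5, 6, 7, 3, 2, 4, 3, 5, 4, 7, 3, 2, 1, 9, 6, 5, 4, 3, 2], [1, 2, 3, 4, 5, 6, 7, 3, 2, 4, 3, 5, 4, 8, 7, 3, 2, 1, 9, 6, 5, 4, 3, 7])] 1 0 2,
  .ref [(1, 0, [1, 0, 2, 3, 4, 5, 6, 7, 3, 2, 4, 3, 5, 4, 7, 3, 2, 1, 9, 6, 5, 4, 3, 2], [1, 2, 3, 4, 5, 6, 7, 3, 4, 5, 8, 7, 3, 2, 4, 3, 7, 8, 9, 6, 5, 4, 3, 7])] 1 0 2,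
  .ref [(1, 0, [1, 0, 2, 3, 4, 5, 6, 7, 3, 2, 4, 3, 5, 4, 7, 3, 2, 1, 9, 6, 5, 4, 3, 2], [1, 2, 3, 4, 5, 6, 7, 3, 2, 4, 3, 5, 4, 8, 7, 3, 2, 1, 0, 9, 6, 5, 4, 3, 7])] 1 0 2,
  .tr [7, 7, 3, 3, 1, 1],
  .tr [15, 15],
  .tr [3, 1, 1],
  .tr [15, 15, 7, 7, 3, 3, 1, 1],
  .tr [15, 15, 7, 1, 1],
  .tr [15, 15, 7, 7, 3],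
  .tr [15, 15, 7, 3, 3],
  .tr [15, 15, 3, 1, 1],
  .tr [15, 15, 3, 3, 1],
  .tr [15, 7, 7, 3, 3, 1, 1],
  .ref [(1, 0, [1, 0, 2, 3, 4, 5, 6, 7, 3, 2, 4, 3, 5, 4, 7, 3, 2, 1, 9, 6, 5, 4, 3, 2], [1, 2, 3, 4, 5, 6, 7, 3, 2, 1, 4, 3, 5, 4, 7, 8, 7, 3, 2, 1, 4, 3, 5, 4, 7, 9, 6, 5, 4, 3, 2, 7])] 1 0 2,
  .tr [15, 15, 7, 7, 1],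
  .tr [15, 15, 7, 3, 1],
  .tr [15],
  .tr [15, 7, 3, 1],
  .ref [(1, 0, [1, 0, 2, 3, 4, 5, 6, 7, 3, 2, 4, 3, 5, 4, 7, 3, 2, 1, 9, 6, 5, 4, 3, 2], [1, 0])] 1 0 2,
  .tr [7, 1, 1],
  .ref [(1, 0, [1, 0, 2, 3, 4, 5, 6, 7, 3, 2, 4, 3, 5, 4, 7, 3, 2, 1, 9, 6, 5, 4, 3, 2], [1, 2, 3, 4, 5, 6, 7, 3, 2, 1, 4, 3, 2, 5, 4, 7, 8, 7, 3, 2, 1, 4, 3, 5, 4, 7, 9, 6, 5, 4, 3, 2, 7])] 1 0 2,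
  .ref [(1, 0, [1, 0, 2, 3, 4, 5, 6, 7, 3, 2, 4, 3, 5, 4, 7, 3, 2, 1, 9, 6, 5, 4, 3, 2], [1, 2, 3, 4, 5, 6, 7, 3, 2, 1, 4, 5, 8, 7, 3, 2, 1, 4, 3, 2, 5, 7, 3, 4, 9, 6, 5, 4, 3, 2, 7])] 1 0 2,
  .ref [(1, 0, [1, 0, 2, 3, 4, 5, 6, 7, 3, 2, 4, 3, 5, 4, 7, 3, 2, 1, 9, 6, 5, 4, 3, 2], [1, 2, 3, 4, 5, 6, 7, 3, 2, 1, 4, 3, 5, 4, 7, 8, 7, 3, 2, 1, 4, 3, 5, 4, 7, 9, 6, 5, 4, 3, 2, 7, 3])] 1 0 2,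
  .ref [(1, 0, [1, 0, 2, 3, 4, 5, 6, 7, 3, 2, 4, 3, 5, 4, 7, 3, 2, 1, 9, 6, 5, 4, 3, 2], [1, 2, 3, 4, 5, 6, 7, 3, 2, 1, 4, 3, 5, 4, 7, 8, 7, 3, 2, 1, 4, 3, 5, 4, 7, 9, 6, 5, 4, 3, 2, 1, 7])] 1 0 2,
  .ref [(1, 0, [1, 0, 2, 3, 4, 5, 6, 7, 3, 2, 4, 3, 5, 4, 7, 3, 2, 1, 9, 6, 5, 4, 3, 2], [1, 2, 3, 4, 5, 6, 7, 3, 2, 1, 4, 3, 5, 4, 7, 8, 7, 3, 2, 1, 4, 3, 5, 4, 7, 3, 9, 6, 5, 4, 3, 2, 7])] 1 0 2,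
  .ref [(1, 0, [1, 0, 2, 3, 4, 5, 6, 7, 3, 2, 4, 3, 5, 4, 7, 3, 2, 1, 9, 6, 5, 4, 3, 2], [1, 2, 3, 4, 5, 6, 7, 3, 2, 1, 4, 3, 5, 4, 7, 8, 7, 3, 2, 1, 4, 3, 5, 4, 7, 9, 6, 5, 4, 3, 2, 7, 8])] 1 0 2,
  .ref [(1, 0, [1, 0, 2, 3, 4, 5, 6, 7, 3, 2, 4, 3, 5, 4, 7, 3, 2, 1, 9, 6, 5, 4, 3, 2], [1, 2, 3, 4, 5, 6, 7, 3, 2, 1, 4, 3, 5, 4, 7, 8, 7, 3, 2, 1, 4, 3, 5, 4, 6, 7, 9, 6, 5, 4, 3, 2, 7])] 1 0 2,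
  .ref [(1, 0, [1, 0, 2, 3, 4, 5, 6, 7, 3, 2, 4, 3, 5, 4, 7, 3, 2, 1, 9, 6, 5, 4, 3, 2], [1])] 1 0 2,
  .ref [(1, 0, [1, 0, 2, 3, 4, 5, 6, 7, 3, 2, 4, 3, 5, 4, 7, 3, 2, 1, 9, 6, 5, 4, 3, 2], [1, 2, 3, 4, 5, 6, 7, 3, 2, 1, 4, 5, 8, 7, 3, 2, 1, 4, 3, 2, 5, 7, 3, 4, 5, 9, 6, 5, 4, 3, 2, 7])] 1 0 2,
  .ref [(1, 0, [1, 0, 2, 3, 4, 5, 6, 7, 3, 2, 4, 3, 5, 4, 7, 3, 2, 1, 9, 6, 5, 4, 3, 2], [1, 2, 3, 4, 5, 6, 7, 3, 2, 1, 4, 5, 8, 7, 3, 2, 1, 4, 3, 2, 5, 7, 3, 4, 9, 6, 5, 4, 3, 2, 7, 8])] 1 0 2,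
  .ref [(1, 0, [1, 0, 2, 3, 4, 5, 6, 7, 3, 2, 4, 3, 5, 4, 7, 3, 2, 1, 9, 6, 5, 4, 3, 2], [1, 2, 3, 4, 5, 6, 7, 3, 2, 1, 4, 3, 2, 5, 4, 7, 8, 7, 3, 2, 1, 4, 3, 5, 4, 7, 9, 6, 5, 4, 3, 2, 1, 7])] 1 0 2,
  .ref [(1, 0, [1, 0, 2, 3, 4, 5, 6, 7, 3, 2, 4, 3, 5, 4, 7, 3, 2, 1, 9, 6, 5, 4, 3, 2], [1, 2, 3, 4, 5, 6, 7, 3, 2, 1, 4, 3, 2, 5, 4, 7, 8, 7, 3, 2, 1, 4, 3, 5, 4, 7, 3, 9, 6, 5, 4, 3, 2, 7])] 1 0 2,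
  .ref [(1, 0, [1, 0, 2, 3, 4, 5, 6, 7, 3, 2, 4, 3, 5, 4, 7, 3, 2, 1, 9, 6, 5, 4, 3, 2], [1, 2, 3, 4, 5, 6, 7, 3, 2, 1, 4, 5, 8, 7, 3, 2, 1, 4, 3, 2, 5, 7, 3, 4, 9, 6, 5, 4, 3, 2, 7, 3])] 1 0 2,
  .ref [(1, 0, [1, 0, 2, 3, 4, 5, 6, 7, 3, 2, 4, 3, 5, 4, 7, 3, 2, 1, 9, 6, 5, 4, 3, 2], [1, 2, 3, 4, 5, 6, 7, 3, 2, 1, 4, 3, 5, 8, 7, 3, 2, 4, 3, 5, 4, 7, 3, 2, 1, 9, 6, 5, 4, 3, 2, 7])] 1 0 2,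
  .ref [(1, 0, [1, 0, 2, 3, 4, 5, 6, 7, 3, 2, 4, 3, 5, 4, 7, 3, 2, 1, 9, 6, 5, 4, 3, 2], [1, 2, 3, 4, 5, 6, 7, 3, 2, 1, 4, 3, 5, 4, 7, 8, 7, 3, 2, 1, 4, 3, 2, 5, 4, 7, 3, 8, 7, 9])] 1 0 2,
  .ref [(1, 0, [1, 0, 2, 3, 4, 5, 6, 7, 3, 2, 4, 3, 5, 4, 7, 3, 2, 1, 9, 6, 5, 4, 3, 2], [1, 2, 3, 4, 5, 6, 7, 3, 2, 1, 4, 5, 8, 7, 3, 2, 1, 4, 3, 2, 5, 7, 3, 4, 9, 6, 5, 4, 3, 2, 1, 7])] 1 0 2,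
  .ref [(1, 0, [1, 0, 2, 3, 4, 5, 6, 7, 3, 2, 4, 3, 5, 4, 7, 3, 2, 1, 9, 6, 5, 4, 3, 2], [1, 2, 3, 4, 5, 6, 7, 3, 2, 1, 4, 5, 8, 7, 3, 2, 1, 4, 3, 2, 5, 4, 7, 3, 4, 9, 6, 5, 4, 3, 2, 7])] 1 0 2,
  .ref [(1, 0, [1, 0, 2, 3, 4, 5, 6, 7, 3, 2, 4, 3, 5, 4, 7, 3, 2, 1, 9, 6, 5, 4, 3, 2], [1, 2, 3, 4, 5, 6, 7, 3, 2, 1, 4, 5, 8, 7, 3, 2, 1, 4, 3, 2, 5, 6, 7, 3, 4, 9, 6, 5, 4, 3, 2, 7])] 1 0 2,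
  .ref [(1, 0, [1, 0, 2, 3, 4, 5, 6, 7, 3, 2, 4, 3, 5, 4, 7, 3, 2, 1, 9, 6, 5, 4, 3, 2], [1, 2, 3, 4, 5, 6, 7, 3, 2, 1, 4, 3, 5, 4, 7, 8, 7, 3, 2, 1, 4, 3, 5, 4, 7, 9, 6, 5, 4, 3, 2, 1, 7, 3])] 1 0 2,
  .ref [(1, 0, [1, 0, 2, 3, 4, 5, 6, 7, 3, 2, 4, 3, 5, 4, 7, 3, 2, 1, 9, 6, 5, 4, 3, 2], [1, 2, 3, 4, 5, 6, 7, 3, 2, 1, 4, 3, 5, 4, 7, 8, 7, 3, 2, 1, 4, 3, 5, 4, 7, 9, 6, 5, 4, 3, 2, 7, 3, 4])] 1 0 2,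
  .ref [(1, 0, [1, 0, 2, 3, 4, 5, 6, 7, 3, 2, 4, 3, 5, 4, 7, 3, 2, 1, 9, 6, 5, 4, 3, 2], [1, 2, 3, 4, 5, 6, 7, 3, 2, 1, 4, 3, 5, 4, 7, 8, 7, 3, 2, 1, 4, 3, 5, 4, 6, 7, 9, 6, 5, 4, 3, 2, 7, 3])] 1 0 2,
  .ref [(1, 0, [1, 0, 2, 3, 4, 5, 6, 7, 3, 2, 4, 3, 5, 4, 7, 3, 2, 1, 9, 6, 5, 4, 3, 2], [1, 2, 3, 4, 5, 6, 7, 3, 2, 1, 4, 3, 5, 4, 7, 8, 7, 3, 2, 1, 4, 3, 5, 4, 7, 9, 6, 5, 4, 3, 2, 1, 0, 7])] 1 0 2,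
  .ref [(1, 0, [1, 0, 2, 3, 4, 5, 6, 7, 3, 2, 4, 3, 5, 4, 7, 3, 2, 1, 9, 6, 5, 4, 3, 2], [1, 2, 3, 4, 5, 6, 7, 3, 2, 1, 4, 3, 5, 4, 7, 8, 7, 3, 2, 1, 4, 3, 5, 4, 6, 7, 9, 6, 5, 4, 3, 2, 7, 8])] 1 0 2,
  .ref [(1, 0, [1, 0, 2, 3, 4, 5, 6, 7, 3, 2, 4, 3, 5, 4, 7, 3, 2, 1, 9, 6, 5, 4, 3, 2], [1, 2, 3, 4, 5, 6, 7, 3, 2, 1, 4, 3, 5, 4, 7, 8, 7, 3, 2, 1, 4, 3, 5, 4, 6, 7, 3, 9, 6, 5, 4, 3, 2, 7])] 1 0 2,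
  .ref [(1, 0, [1, 0, 2, 3, 4, 5, 6, 7, 3, 2, 4, 3, 5, 4, 7, 3, 2, 1, 9, 6, 5, 4, 3, 2], [1, 2, 3, 4, 5, 6, 7, 3, 2, 1, 4, 3, 5, 4, 7, 8, 7, 3, 2, 1, 4, 3, 5, 4, 6, 7, 9, 6, 5, 4, 3, 2, 1, 7])] 1 0 2,
  .ref [(1, 0, [1, 0, 2, 3, 4, 5, 6, 7, 3, 2, 4, 3, 5, 4, 7, 3, 2, 1, 9, 6, 5, 4, 3, 2], [1, 2, 3, 4, 5, 6, 7, 3, 2, 1, 4, 3, 5, 4, 7, 8, 7, 3, 2, 1, 4, 3, 5, 4, 7, 3, 9, 6, 5, 4, 3, 2, 7, 3])] 1 0 2,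
  .ref [(1, 0, [1, 0, 2, 3, 4, 5, 6, 7, 3, 2, 4, 3, 5, 4, 7, 3, 2, 1, 9, 6, 5, 4, 3, 2], [1, 2, 3, 4, 5, 6, 7, 3, 2, 1, 4, 3, 2, 5, 8, 7, 3, 2, 4, 3, 5, 4, 6, 7, 3, 2, 1, 9, 6, 5, 4, 3, 2, 7])] 1 0 2,
  .ref [] 1 0 1,
  .ref [(1, 0, [1, 0, 2, 3, 4, 5, 6, 7, 3, 2, 4, 3, 5, 4, 7, 3, 2, 1, 9, 6, 5, 4, 3, 2], [1, 2, 3, 4, 5, 6, 7, 3, 2, 1, 4, 5, 8, 7, 3, 2, 1, 4, 3, 2, 5, 7, 3, 4, 5, 9, 6, 5, 4, 3, 2, 1, 7])] 1 0 2,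
  .ref [(1, 0, [1, 0, 2, 3, 4, 5, 6, 7, 3, 2, 4, 3, 5, 4, 7, 3, 2, 1, 9, 6, 5, 4, 3, 2], [1, 2, 3, 4, 5, 6, 7, 3, 2, 1, 4, 5, 8, 7, 3, 2, 1, 4, 3, 2, 5, 4, 7, 3, 4, 5, 9, 6, 5, 4, 3, 2, 7])] 1 0 2,
  .ref [(1, 0, [1, 0, 2, 3, 4, 5, 6, 7, 3, 2, 4, 3, 5, 4, 7, 3, 2, 1, 9, 6, 5, 4, 3, 2], [1, 2, 3, 4, 5, 6, 7, 3, 2, 1, 4, 3, 5, 8, 7, 3, 2, 4, 3, 5, 4, 7, 3, 2, 1, 0, 9, 6, 5, 4, 3, 2, 7])] 1 0 2,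
  .ref [(1, 0, [1, 0, 2, 3, 4, 5, 6, 7, 3, 2, 4, 3, 5, 4, 7, 3, 2, 1, 9, 6, 5, 4, 3, 2], [1, 2, 3, 4, 5, 6, 7, 3, 2, 1, 4, 5, 8, 7, 3, 2, 1, 4, 3, 2, 5, 7, 3, 4, 9, 6, 5, 4, 3, 2, 1, 7, 8])] 1 0 2,
  .ref [(1, 0, [1, 0, 2, 3, 4, 5, 6, 7, 3, 2, 4, 3, 5, 4, 7, 3, 2, 1, 9, 6, 5, 4, 3, 2], [1, 2, 3, 4, 5, 6, 7, 3, 2, 1, 4, 5, 8, 7, 3, 2, 1, 4, 3, 2, 5, 4, 7, 3, 4, 9, 6, 5, 4, 3, 2, 7, 8])] 1 0 2,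
  .ref [(1, 0, [1, 0, 2, 3, 4, 5, 6, 7, 3, 2, 4, 3, 5, 4, 7, 3, 2, 1, 9, 6, 5, 4, 3, 2], [1, 2, 3, 4, 5, 6, 7, 3, 2, 1, 4, 3, 5, 8, 7, 3, 2, 4, 3, 5, 4, 7, 3, 2, 1, 9, 6, 5, 4, 3, 2, 7, 3])] 1 0 2,
  .ref [(1, 0, [1, 0, 2, 3, 4, 5, 6, 7, 3, 2, 4, 3, 5, 4, 7, 3, 2, 1, 9, 6, 5, 4, 3, 2], [1, 2, 3, 4, 5, 6, 7, 3, 2, 1, 4, 3, 2, 5, 4, 7, 8, 7, 3, 2, 1, 4, 3, 5, 4, 7, 9, 6, 5, 4, 3, 2, 1, 0, 7])] 1 0 2,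
  .ref [(1, 0, [1, 0, 2, 3, 4, 5, 6, 7, 3, 2, 4, 3, 5, 4, 7, 3, 2, 1, 9, 6, 5, 4, 3, 2], [1, 2, 3, 4, 5, 6, 7, 3, 2, 1, 4, 3, 2, 5, 4, 7, 8, 7, 3, 2, 1, 4, 3, 5, 4, 7, 3, 9, 6, 5, 4, 3, 2, 1, 7])] 1 0 2,
  .ref [(1, 0, [1, 0, 2, 3, 4, 5, 6, 7, 3, 2, 4, 3, 5, 4, 7, 3, 2, 1, 9, 6, 5, 4, 3, 2], [1, 2, 3, 4, 5, 6, 7, 3, 2, 1, 4, 5, 8, 7, 3, 2, 1, 4, 3, 2, 5, 7, 3, 4, 9, 6, 5, 4, 3, 2, 1, 7, 3])] 1 0 2,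
  .ref [(1, 0, [1, 0, 2, 3, 4, 5, 6, 7, 3, 2, 4, 3, 5, 4, 7, 3, 2, 1, 9, 6, 5, 4, 3, 2], [1, 2, 3, 4, 5, 6, 7, 3, 2, 1, 4, 3, 5, 8, 7, 3, 2, 4, 3, 5, 4, 7, 3, 2, 1, 9, 6, 5, 4, 3, 2, 1, 7])] 1 0 2,
  .ref [(1, 0, [1, 0, 2, 3, 4, 5, 6, 7, 3, 2, 4, 3, 5, 4, 7, 3, 2, 1, 9, 6, 5, 4, 3, 2], [1, 2, 3, 4, 5, 6, 7, 3, 2, 1, 4, 3, 2, 5, 4, 7, 8, 7, 3, 2, 1, 4, 3, 5, 4, 7, 3, 9, 6, 5, 4, 3, 2, 7, 3])] 1 0 2,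
  .ref [(1, 0, [1, 0, 2, 3, 4, 5, 6, 7, 3, 2, 4, 3, 5, 4, 7, 3, 2, 1, 9, 6, 5, 4, 3, 2], [1, 2, 3, 4, 5, 6, 7, 3, 2, 1, 4, 5, 8, 7, 3, 2, 1, 4, 3, 2, 5, 7, 3, 4, 9, 6, 5, 4, 3, 2, 7, 3, 4])] 1 0 2,
  .ref [(1, 0, [1, 0, 2, 3, 4, 5, 6, 7, 3, 2, 4, 3, 5, 4, 7, 3, 2, 1, 9, 6, 5, 4, 3, 2], [1, 2, 3, 4, 5, 6, 7, 3, 2, 1, 4, 3, 5, 4, 8, 7, 3, 2, 4, 3, 5, 4, 7, 3, 2, 1, 9, 6, 5, 4, 3, 2, 7])] 1 0 2,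
  .ref [(1, 0, [1, 0, 2, 3, 4, 5, 6, 7, 3, 2, 4, 3, 5, 4, 7, 3, 2, 1, 9, 6, 5, 4, 3, 2], [1, 2, 3, 4, 5, 6, 7, 3, 2, 1, 4, 3, 5, 8, 7, 3, 2, 4, 3, 5, 4, 7, 3, 2, 1, 9, 6, 5, 4, 3, 2, 7, 8])] 1 0 2,
  .ref [(1, 0, [1, 0, 2, 3, 4, 5, 6, 7, 3, 2, 4, 3, 5, 4, 7, 3, 2, 1, 9, 6, 5, 4, 3, 2], [1, 2, 3, 4, 5, 6, 7, 3, 2, 1, 4, 3, 2, 5, 8, 7, 3, 2, 4, 3, 5, 4, 7, 3, 2, 1, 9, 6, 5, 4, 3, 2, 7])] 1 0 2,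
  .ref [(1, 0, [1, 0, 2, 3, 4, 5, 6, 7, 3, 2, 4, 3, 5, 4, 7, 3, 2, 1, 9, 6, 5, 4, 3, 2], [1, 2, 3, 4, 5, 6, 7, 3, 2, 1, 4, 3, 5, 7, 8, 7, 3, 2, 1, 4, 3, 2, 5, 4, 7, 3, 8, 7, 9])] 1 0 2,
  .ref [(1, 0, [1, 0, 2, 3, 4, 5, 6, 7, 3, 2, 4, 3, 5, 4, 7, 3, 2, 1, 9, 6, 5, 4, 3, 2], [1, 2, 3, 4, 5, 6, 7, 3, 2, 1, 4, 3, 5, 4, 8, 7, 3, 2, 1, 4, 3, 2, 5, 4, 7, 3, 8, 7, 9])] 1 0 2,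
  .ref [(1, 0, [1, 0, 2, 3, 4, 5, 6, 7, 3, 2, 4, 3, 5, 4, 7, 3, 2, 1, 9, 6, 5, 4, 3, 2], [1, 2, 3, 4, 5, 6, 7, 3, 2, 1, 4, 3, 5, 8, 7, 3, 2, 1, 4, 3, 2, 5, 4, 7, 3, 4, 8, 7, 9])] 1 0 2,
  .ref [(1, 0, [1, 0, 2, 3, 4, 5, 6, 7, 3, 2, 4, 3, 5, 4, 7, 3, 2, 1, 9, 6, 5, 4, 3, 2], [1, 2, 3, 4, 5, 6, 7, 3, 2, 1, 4, 3, 5, 4, 7, 8, 7, 3, 2, 1, 4, 3, 2, 5, 4, 3, 7, 3, 8, 7, 9])] 1 0 2,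
  .ref [(1, 0, [1, 0, 2, 3, 4, 5, 6, 7, 3, 2, 4, 3, 5, 4, 7, 3, 2, 1, 9, 6, 5, 4, 3, 2], [1, 2, 3, 4, 5, 6, 7, 3, 2, 1, 4, 3, 5, 4, 7, 8, 7, 3, 2, 1, 4, 3, 2, 5, 4, 7, 3, 8, 7, 9, 6])] 1 0 2,
  .ref [(1, 0, [1, 0, 2, 3, 4, 5, 6, 7, 3, 2, 4, 3, 5, 4, 7, 3, 2, 1, 9, 6, 5, 4, 3, 2], [1, 2, 3, 4, 5, 6, 7, 3, 2, 1, 4, 3, 5, 8, 7, 3, 2, 1, 0, 4, 3, 2, 5, 4, 7, 3, 8, 7, 9])] 1 0 2,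
  .ref [(1, 0, [1, 0, 2, 3, 4, 5, 6, 7, 3, 2, 4, 3, 5, 4, 7, 3, 2, 1, 9, 6, 5, 4, 3, 2], [1, 2, 3, 4, 5, 6, 7, 3, 2, 1, 4, 3, 5, 4, 7, 8, 7, 3, 2, 1, 4, 3, 2, 5, 4, 7, 3, 8, 7])] 1 0 2,
  .ref [(1, 0, [1, 0, 2, 3, 4, 5, 6, 7, 3, 2, 4, 3, 5, 4, 7, 3, 2, 1, 9, 6, 5, 4, 3, 2], [1, 2, 3, 4, 5, 6, 7, 3, 2, 1, 4, 5, 8, 7, 3, 2, 1, 4, 3, 2, 5, 7, 3, 4, 9, 6, 5, 4, 3, 2, 1, 0, 7])] 1 0 2,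
  .ref [(1, 0, [1, 0, 2, 3, 4, 5, 6, 7, 3, 2, 4, 3, 5, 4, 7, 3, 2, 1, 9, 6, 5, 4, 3, 2], [1, 2, 3, 4, 5, 6, 7, 3, 2, 1, 4, 5, 8, 7, 3, 2, 1, 4, 3, 2, 5, 4, 7, 3, 4, 9, 6, 5, 4, 3, 2, 1, 7])] 1 0 2,
  .ref [(1, 0, [1, 0, 2, 3, 4, 5, 6, 7, 3, 2, 4, 3, 5, 4, 7, 3, 2, 1, 9, 6, 5, 4, 3, 2], [1, 2, 3, 4, 5, 6, 7, 3, 2, 1, 4, 5, 8, 7, 3, 2, 1, 4, 3, 2, 5, 6, 7, 3, 4, 9, 6, 5, 4, 3, 2, 1, 7])] 1 0 2,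
  .ref [(1, 0, [1, 0, 2, 3, 4, 5, 6, 7, 3, 2, 4, 3, 5, 4, 7, 3, 2, 1, 9, 6, 5, 4, 3, 2], [1, 2, 3, 4, 5, 6, 7, 3, 2, 1, 4, 5, 8, 7, 3, 2, 1, 4, 3, 2, 5, 4, 7, 3, 4, 9, 6, 5, 4, 3, 2, 7, 3])] 1 0 2,
  .ref [(1, 0, [1, 0, 2, 3, 4, 5, 6, 7, 3, 2, 4, 3, 5, 4, 7, 3, 2, 1, 9, 6, 5, 4, 3, 2], [1, 2, 3, 4, 5, 6, 7, 3, 2, 1, 4, 5, 8, 7, 3, 2, 1, 4, 3, 2, 5, 4, 6, 7, 3, 4, 9, 6, 5, 4, 3, 2, 7])] 1 0 2,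
  .ref [(1, 0, [1, 0, 2, 3, 4, 5, 6, 7, 3, 2, 4, 3, 5, 4, 7, 3, 2, 1, 9, 6, 5, 4, 3, 2], [1, 2, 3, 4, 5, 6, 7, 3, 2, 1, 4, 5, 8, 7, 3, 2, 1, 4, 3, 2, 5, 6, 7, 3, 4, 5, 9, 6, 5, 4, 3, 2, 7])] 1 0 2,
  .ref [(1, 0, [1, 0, 2, 3, 4, 5, 6, 7, 3, 2, 4, 3, 5, 4, 7, 3, 2, 1, 9, 6, 5, 4, 3, 2], [1, 2, 3, 4, 5, 6, 7, 3, 2, 1, 4, 3, 5, 4, 7, 8, 7, 3, 2, 1, 4, 3, 5, 4, 7, 9, 6, 5, 4, 3, 2, 1, 0, 7, 3])] 1 0 2,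
  .ref [(1, 0, [1, 0, 2, 3, 4, 5, 6, 7, 3, 2, 4, 3, 5, 4, 7, 3, 2, 1, 9, 6, 5, 4, 3, 2], [1, 2, 3, 4, 5, 6, 7, 3, 2, 1, 4, 3, 5, 4, 7, 8, 7, 3, 2, 1, 4, 3, 5, 4, 7, 9, 6, 5, 4, 3, 2, 1, 7, 3, 4])] 1 0 2,
  .ref [(1, 0, [1, 0, 2, 3, 4, 5, 6, 7, 3, 2, 4, 3, 5, 4, 7, 3, 2, 1, 9, 6, 5, 4, 3, 2], [1, 2, 3, 4, 5, 6, 7, 3, 2, 1, 4, 3, 5, 4, 7, 8, 7, 3, 2, 1, 4, 3, 5, 4, 6, 7, 9, 6, 5, 4, 3, 2, 1, 7, 3])] 1 0 2,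
  .ref [(1, 0, [1, 0, 2, 3, 4, 5, 6, 7, 3, 2, 4, 3, 5, 4, 7, 3, 2, 1, 9, 6, 5, 4, 3, 2], [1, 2, 3, 4, 5, 6, 7, 3, 2, 1, 4, 3, 5, 4, 7, 8, 7, 3, 2, 1, 4, 3, 5, 4, 7, 3, 9, 6, 5, 4, 3, 2, 7, 3, 4])] 1 0 2,
  .ref [(1, 0, [1, 0, 2, 3, 4, 5, 6, 7, 3, 2, 4, 3, 5, 4, 7, 3, 2, 1, 9, 6, 5, 4, 3, 2], [1, 2, 3, 4, 5, 6, 7, 3, 2, 1, 4, 3, 2, 5, 8, 7, 3, 2, 4, 3, 5, 4, 7, 3, 2, 1, 9, 6, 5, 4, 3, 2, 1, 0, 7])] 1 0 2,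
  .ref [(1, 0, [1, 0, 2, 3, 4, 5, 6, 7, 3, 2, 4, 3, 5, 4, 7, 3, 2, 1, 9, 6, 5, 4, 3, 2], [1, 2, 3, 4, 5, 6, 7, 3, 2, 1, 4, 3, 2, 5, 8, 7, 3, 2, 4, 3, 5, 4, 6, 7, 3, 2, 1, 9, 6, 5, 4, 3, 2, 7, 3])] 1 0 2,
  .ref [(1, 0, [1, 0, 2, 3, 4, 5, 6, 7, 3, 2, 4, 3, 5, 4, 7, 3, 2, 1, 9, 6, 5, 4, 3, 2], [1, 2, 3, 4, 5, 6, 7, 3, 2, 1, 4, 5, 8, 7, 3, 2, 1, 4, 3, 2, 5, 4, 6, 7, 3, 4, 9, 6, 5, 4, 3, 2, 7, 3])] 1 0 2,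
  .ref [(1, 0, [1, 0, 2, 3, 4, 5, 6, 7, 3, 2, 4, 3, 5, 4, 7, 3, 2, 1, 9, 6, 5, 4, 3, 2], [1, 2, 3, 4, 5, 6, 7, 3, 2, 1, 4, 5, 8, 7, 3, 2, 1, 4, 3, 2, 5, 4, 7, 3, 4, 5, 9, 6, 5, 4, 3, 2, 1, 7])] 1 0 2,
  .ref [(1, 0, [1, 0, 2, 3, 4, 5, 6, 7, 3, 2, 4, 3, 5, 4, 7, 3, 2, 1, 9, 6, 5, 4, 3, 2], [1, 2, 3, 4, 5, 6, 7, 3, 2, 1, 4, 5, 8, 7, 3, 2, 1, 4, 3, 2, 5, 4, 7, 3, 4, 5, 9, 6, 5, 4, 3, 2, 7, 3])] 1 0 2,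
  .ref [(1, 0, [1, 0, 2, 3, 4, 5, 6, 7, 3, 2, 4, 3, 5, 4, 7, 3, 2, 1, 9, 6, 5, 4, 3, 2], [1, 2, 3, 4, 5, 6, 7, 3, 2, 1, 4, 3, 5, 4, 8, 7, 3, 2, 4, 3, 5, 4, 7, 3, 2, 1, 0, 9, 6, 5, 4, 3, 2, 7])] 1 0 2,
  .ref [(1, 0, [1, 0, 2, 3, 4, 5, 6, 7, 3, 2, 4, 3, 5, 4, 7, 3, 2, 1, 9, 6, 5, 4, 3, 2], [1, 2, 3, 4, 5, 6, 7, 3, 2, 1, 4, 3, 2, 5, 8, 7, 3, 2, 4, 3, 5, 4, 7, 3, 2, 1, 0, 9, 6, 5, 4, 3, 2, 7])] 1 0 2,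
  .ref [(1, 0, [1, 0, 2, 3, 4, 5, 6, 7, 3, 2, 4, 3, 5, 4, 7, 3, 2, 1, 9, 6, 5, 4, 3, 2], [1, 2, 3, 4, 5, 6, 7, 3, 2, 1, 4, 5, 8, 7, 3, 2, 1, 4, 3, 2, 5, 4, 6, 7, 3, 4, 9, 6, 5, 4, 3, 2, 1, 7])] 1 0 2,
  .ref [(1, 0, [1, 0, 2, 3, 4, 5, 6, 7, 3, 2, 4, 3, 5, 4, 7, 3, 2, 1, 9, 6, 5, 4, 3, 2], [1, 2, 3, 4, 5, 6, 7, 3, 2, 1, 4, 5, 8, 7, 3, 2, 1, 4, 3, 2, 5, 4, 7, 3, 4, 9, 6, 5, 4, 3, 2, 1, 7, 8])] 1 0 2,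
  .ref [(1, 0, [1, 0, 2, 3, 4, 5, 6, 7, 3, 2, 4, 3, 5, 4, 7, 3, 2, 1, 9, 6, 5, 4, 3, 2], [1, 2, 3, 4, 5, 6, 7, 3, 2, 1, 4, 3, 5, 8, 7, 3, 2, 4, 3, 5, 4, 7, 3, 2, 1, 9, 6, 5, 4, 3, 2, 1, 7, 3])] 1 0 2,
  .ref [(1, 0, [1, 0, 2, 3, 4, 5, 6, 7, 3, 2, 4, 3, 5, 4, 7, 3, 2, 1, 9, 6, 5, 4, 3, 2], [1, 2, 3, 4, 5, 6, 7, 3, 2, 1, 4, 5, 8, 7, 3, 2, 1, 4, 3, 2, 5, 4, 7, 3, 4, 9, 6, 5, 4, 3, 2, 7, 3, 8])] 1 0 2,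
  .ref [(1, 0, [1, 0, 2, 3, 4, 5, 6, 7, 3, 2, 4, 3, 5, 4, 7, 3, 2, 1, 9, 6, 5, 4, 3, 2], [1, 2, 3, 4, 5, 6, 7, 3, 2, 1, 4, 3, 2, 5, 8, 7, 3, 2, 4, 3, 5, 4, 7, 3, 2, 1, 9, 6, 5, 4, 3, 2, 7, 3])] 1 0 2,
  .ref [(1, 0, [1, 0, 2, 3, 4, 5, 6, 7, 3, 2, 4, 3, 5, 4, 7, 3, 2, 1, 9, 6, 5, 4, 3, 2], [1, 2, 3, 4, 5, 6, 7, 3, 2, 1, 4, 5, 8, 7, 3, 2, 1, 4, 3, 2, 5, 4, 6, 7, 3, 4, 5, 9, 6, 5, 4, 3, 2, 7])] 1 0 2,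
  .ref [(1, 0, [1, 0, 2, 3, 4, 5, 6, 7, 3, 2, 4, 3, 5, 4, 7, 3, 2, 1, 9, 6, 5, 4, 3, 2], [1, 2, 3, 4, 5, 6, 7, 3, 2, 1, 4, 3, 5, 8, 7, 3, 2, 4, 3, 5, 4, 7, 3, 2, 1, 9, 6, 5, 4, 3, 2, 1, 0, 7])] 1 0 2,
  .ref [(1, 0, [1, 0, 2, 3, 4, 5, 6, 7, 3, 2, 4, 3, 5, 4, 7, 3, 2, 1, 9, 6, 5, 4, 3, 2], [1, 2, 3, 4, 5, 6, 7, 3, 2, 1, 4, 3, 2, 5, 8, 7, 3, 2, 4, 3, 5, 4, 7, 3, 2, 1, 9, 6, 5, 4, 3, 2, 7, 8])] 1 0 2,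
  .ref [(1, 0, [1, 0, 2, 3, 4, 5, 6, 7, 3, 2, 4, 3, 5, 4, 7, 3, 2, 1, 9, 6, 5, 4, 3, 2], [1, 2, 3, 4, 5, 6, 7, 3, 2, 1, 4, 3, 2, 5, 4, 8, 7, 3, 2, 4, 3, 5, 4, 7, 3, 2, 1, 9, 6, 5, 4, 3, 2, 7])] 1 0 2,
  .ref [(1, 0, [1, 0, 2, 3, 4, 5, 6, 7, 3, 2, 4, 3, 5, 4, 7, 3, 2, 1, 9, 6, 5, 4, 3, 2], [1, 2, 3, 4, 5, 6, 7, 3, 2, 1, 4, 3, 2, 5, 8, 7, 3, 2, 4, 3, 5, 4, 7, 3, 2, 1, 9, 6, 5, 4, 3, 2, 1, 7])] 1 0 2,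
  .ref [(1, 0, [1, 0, 2, 3, 4, 5, 6, 7, 3, 2, 4, 3, 5, 4, 7, 3, 2, 1, 9, 6, 5, 4, 3, 2], [1, 2, 3, 4, 5, 6, 7, 3, 2, 1, 4, 5, 8, 7, 3, 2, 1, 4, 3, 2, 5, 4, 7, 3, 4, 9, 6, 5, 4, 3, 2, 7, 3, 4])] 1 0 2,
  .ref [(1, 0, [1, 0, 2, 3, 4, 5, 6, 7, 3, 2, 4, 3, 5, 4, 7, 3, 2, 1, 9, 6, 5, 4, 3, 2], [1, 2, 3, 4, 5, 6, 7, 3, 2, 1, 4, 3, 5, 4, 8, 7, 3, 2, 4, 3, 5, 4, 7, 3, 2, 1, 9, 6, 5, 4, 3, 2, 7, 3])] 1 0 2,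
  .ref [(1, 0, [1, 0, 2, 3, 4, 5, 6, 7, 3, 2, 4, 3, 5, 4, 7, 3, 2, 1, 9, 6, 5, 4, 3, 2], [1, 2, 3, 4, 5, 6, 7, 3, 2, 1, 4, 3, 5, 8, 7, 3, 2, 1, 4, 3, 2, 5, 4, 7, 3, 8, 7, 9])] 1 0 2,
  .ref [(1, 0, [1, 0, 2, 3, 4, 5, 6, 7, 3, 2, 4, 3, 5, 4, 7, 3, 2, 1, 9, 6, 5, 4, 3, 2], [1, 2, 3, 4, 5, 6, 7, 3, 2, 1, 4, 3, 5, 7, 8, 7, 3, 2, 1, 0, 4, 3, 2, 5, 4, 7, 3, 8, 7, 9])] 1 0 2,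
  .ref [(1, 0, [1, 0, 2, 3, 4, 5, 6, 7, 3, 2, 4, 3, 5, 4, 7, 3, 2, 1, 9, 6, 5, 4, 3, 2], [1, 2, 3, 4, 5, 6, 7, 3, 2, 1, 4, 3, 5, 7, 8, 7, 3, 2, 1, 4, 3, 2, 5, 4, 3, 7, 3, 8, 7, 9])] 1 0 2,
  .ref [(1, 0, [1, 0, 2, 3, 4, 5, 6, 7, 3, 2, 4, 3, 5, 4, 7, 3, 2, 1, 9, 6, 5, 4, 3, 2], [1, 2, 3, 4, 5, 6, 7, 3, 2, 1, 4, 3, 5, 7, 8, 7, 3, 2, 1, 4, 3, 2, 5, 4, 7, 3, 8, 7, 9, 6])] 1 0 2,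
  .ref [(1, 0, [1, 0, 2, 3, 4, 5, 6, 7, 3, 2, 4, 3, 5, 4, 7, 3, 2, 1, 9, 6, 5, 4, 3, 2], [1, 2, 3, 4, 5, 6, 7, 3, 2, 1, 4, 3, 5, 7, 8, 7, 3, 2, 1, 4, 3, 2, 5, 4, 7, 3, 4, 8, 7, 9])] 1 0 2,
  .ref [(1, 0, [1, 0, 2, 3, 4, 5, 6, 7, 3, 2, 4, 3, 5, 4, 7, 3, 2, 1, 9, 6, 5, 4, 3, 2], [1, 2, 3, 4, 5, 6, 7, 3, 2, 1, 4, 3, 5, 7, 8, 7, 3, 2, 1, 4, 3, 2, 5, 4, 7, 3, 8, 7])] 1 0 2,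
  .ref [(1, 0, [1, 0, 2, 3, 4, 5, 6, 7, 3, 2, 4, 3, 5, 4, 7, 3, 2, 1, 9, 6, 5, 4, 3, 2], [1, 2, 3, 4, 5, 6, 7, 3, 2, 1, 4, 3, 5, 4, 8, 7, 3, 2, 1, 0, 4, 3, 2, 5, 4, 7, 3, 8, 7, 9])] 1 0 2,
  .ref [(1, 0, [1, 0, 2, 3, 4, 5, 6, 7, 3, 2, 4, 3, 5, 4, 7, 3, 2, 1, 9, 6, 5, 4, 3, 2], [1, 2, 3, 4, 5, 6, 7, 3, 2, 1, 4, 3, 5, 4, 8, 7, 3, 2, 1, 4, 3, 2, 5, 4, 3, 7, 3, 8, 7, 9])] 1 0 2,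
  .ref [(1, 0, [1, 0, 2, 3, 4, 5, 6, 7, 3, 2, 4, 3, 5, 4, 7, 3, 2, 1, 9, 6, 5, 4, 3, 2], [1, 2, 3, 4, 5, 6, 7, 3, 2, 1, 4, 3, 5, 4, 8, 7, 3, 2, 1, 4, 3, 2, 5, 4, 7, 3, 8, 7, 9, 6])] 1 0 2,
  .ref [(1, 0, [1, 0, 2, 3, 4, 5, 6, 7, 3, 2, 4, 3, 5, 4, 7, 3, 2, 1, 9, 6, 5, 4, 3, 2], [1, 2, 3, 4, 5, 6, 7, 3, 2, 1, 4, 3, 5, 4, 8, 7, 3, 2, 1, 4, 3, 2, 5, 4, 7, 3, 4, 8, 7, 9])] 1 0 2,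
  .ref [(1, 0, [1, 0, 2, 3, 4, 5, 6, 7, 3, 2, 4, 3, 5, 4, 7, 3, 2, 1, 9, 6, 5, 4, 3, 2], [1, 2, 3, 4, 5, 6, 7, 3, 2, 1, 4, 3, 5, 4, 8, 7, 3, 2, 1, 4, 3, 2, 5, 4, 7, 3, 8, 7])] 1 0 2,
  .ref [(1, 0, [1, 0, 2, 3, 4, 5, 6, 7, 3, 2, 4, 3, 5, 4, 7, 3, 2, 1, 9, 6, 5, 4, 3, 2], [1, 2, 3, 4, 5, 6, 7, 3, 2, 1, 4, 3, 5, 8, 7, 3, 2, 1, 4, 3, 2, 5, 4, 3, 7, 3, 4, 8, 7, 9])] 1 0 2,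
  .ref [(1, 0, [1, 0, 2, 3, 4, 5, 6, 7, 3, 2, 4, 3, 5, 4, 7, 3, 2, 1, 9, 6, 5, 4, 3, 2], [1, 2, 3, 4, 5, 6, 7, 3, 2, 1, 4, 3, 5, 8, 7, 3, 2, 1, 4, 3, 2, 5, 4, 7, 3, 4, 8, 7, 9, 6])] 1 0 2,
  .ref [(1, 0, [1, 0, 2, 3, 4, 5, 6, 7, 3, 2, 4, 3, 5, 4, 7, 3, 2, 1, 9, 6, 5, 4, 3, 2], [1, 2, 3, 4, 5, 6, 7, 3, 2, 1, 4, 3, 5, 8, 7, 3, 2, 1, 4, 3, 2, 5, 4, 7, 3, 4, 8, 7])] 1 0 2,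
  .ref [(1, 0, [1, 0, 2, 3, 4, 5, 6, 7, 3, 2, 4, 3, 5, 4, 7, 3, 2, 1, 9, 6, 5, 4, 3, 2], [1, 2, 3, 4, 5, 6, 7, 3, 2, 1, 4, 3, 5, 4, 7, 8, 7, 3, 2, 1, 4, 3, 2, 5, 4, 3, 7, 3, 8, 7, 9, 6])] 1 0 2,
  .ref [(1, 0, [1, 0, 2, 3, 4, 5, 6, 7, 3, 2, 4, 3, 5, 4, 7, 3, 2, 1, 9, 6, 5, 4, 3, 2], [1, 2, 3, 4, 5, 6, 7, 3, 2, 1, 4, 3, 5, 7, 8, 7, 3, 2, 1, 4, 3, 2, 5, 4, 6, 7, 3, 8, 7, 9])] 1 0 2,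
  .ref [(1, 0, [1, 0, 2, 3, 4, 5, 6, 7, 3, 2, 4, 3, 5, 4, 7, 3, 2, 1, 9, 6, 5, 4, 3, 2], [1, 2, 3, 4, 5, 6, 7, 3, 2, 1, 4, 3, 5, 4, 7, 8, 7, 3, 2, 1, 4, 3, 2, 5, 4, 3, 7, 3, 8, 7])] 1 0 2,
  .ref [(1, 0, [1, 0, 2, 3, 4, 5, 6, 7, 3, 2, 4, 3, 5, 4, 7, 3, 2, 1, 9, 6, 5, 4, 3, 2], [1, 2, 3, 4, 5, 6, 7, 3, 2, 1, 4, 3, 5, 8, 7, 3, 2, 1, 0, 4, 3, 2, 5, 4, 7, 3, 8, 7, 9, 6])] 1 0 2,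
  .ref [(1, 0, [1, 0, 2, 3, 4, 5, 6, 7, 3, 2, 4, 3, 5, 4, 7, 3, 2, 1, 9, 6, 5, 4, 3, 2], [1, 2, 3, 4, 5, 6, 7, 3, 2, 1, 4, 3, 5, 4, 7, 8, 7, 3, 2, 1, 4, 3, 2, 5, 4, 6, 7, 3, 8, 7, 9, 6])] 1 0 2,
  .ref [(1, 0, [1, 0, 2, 3, 4, 5, 6, 7, 3, 2, 4, 3, 5, 4, 7, 3, 2, 1, 9, 6, 5, 4, 3, 2], [1, 2, 3, 4, 5, 6, 7, 3, 2, 1, 4, 3, 5, 8, 7, 3, 2, 1, 0, 4, 3, 2, 5, 4, 7, 3, 8, 7])] 1 0 2,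
  .ref [(1, 0, [1, 0, 2, 3, 4, 5, 6, 7, 3, 2, 4, 3, 5, 4, 7, 3, 2, 1, 9, 6, 5, 4, 3, 2], [1, 2, 3, 4, 5, 6, 7, 3, 2, 1, 4, 3, 5, 4, 7, 8, 7, 3, 2, 1, 4, 3, 2, 5, 4, 6, 7, 3, 8, 7])] 1 0 2,
  .ref [(1, 0, [1, 0, 2, 3, 4, 5, 6, 7, 3, 2, 4, 3, 5, 4, 7, 3, 2, 1, 9, 6, 5, 4, 3, 2], [1, 2, 3, 4, 5, 6, 7, 3, 2, 1, 4, 3, 5, 8, 7, 3, 2, 1, 4, 3, 2, 5, 4, 6, 7, 3, 8, 7, 9])] 1 0 2,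
  .ref [(1, 0, [1, 0, 2, 3, 4, 5, 6, 7, 3, 2, 4, 3, 5, 4, 7, 3, 2, 1, 9, 6, 5, 4, 3, 2], [1, 2, 3, 4, 5, 6, 7, 3, 2, 1, 4, 3, 2, 5, 8, 7, 3, 2, 4, 3, 5, 4, 7, 3, 2, 1, 9, 6, 5, 4, 3, 2, 1, 7, 3])] 1 0 2,
  .ref [(1, 0, [1, 0, 2, 3, 4, 5, 6, 7, 3, 2, 4, 3, 5, 4, 7, 3, 2, 1, 9, 6, 5, 4, 3, 2], [1, 2, 3, 4, 5, 6, 7, 3, 2, 1, 4, 3, 2, 5, 4, 8, 7, 3, 2, 4, 3, 5, 4, 7, 3, 2, 1, 0, 9, 6, 5, 4, 3, 2, 7])] 1 0 2,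
  .ref [(1, 0, [1, 0, 2, 3, 4, 5, 6, 7, 3, 2, 4, 3, 5, 4, 7, 3, 2, 1, 9, 6, 5, 4, 3, 2], [1, 2, 3, 4, 5, 6, 7, 3, 2, 1, 4, 3, 5, 8, 7, 3, 2, 1, 4, 3, 2, 5, 4, 3, 7, 3, 8, 7, 9])] 1 0 2,
  .ref [(1, 0, [1, 0, 2, 3, 4, 5, 6, 7, 3, 2, 4, 3, 5, 4, 7, 3, 2, 1, 9, 6, 5, 4, 3, 2], [1, 2, 3, 4, 5, 6, 7, 3, 2, 1, 4, 3, 5, 8, 7, 3, 2, 1, 4, 3, 2, 5, 4, 7, 3, 8, 7, 9, 6])] 1 0 2,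
  .ref [(1, 0, [1, 0, 2, 3, 4, 5, 6, 7, 3, 2, 4, 3, 5, 4, 7, 3, 2, 1, 9, 6, 5, 4, 3, 2], [1, 2, 3, 4, 5, 6, 7, 3, 2, 1, 4, 3, 5, 8, 7, 3, 2, 1, 4, 3, 2, 5, 4, 7, 3, 8, 7])] 1 0 2,
  .ref [(1, 0, [1, 0, 2, 3, 4, 5, 6, 7, 3, 2, 4, 3, 5, 4, 7, 3, 2, 1, 9, 6, 5, 4, 3, 2], [1, 2, 3, 4, 5, 6, 7, 3, 2, 1, 4, 3, 5, 4, 8, 7, 3, 2, 1, 0, 4, 3, 2, 5, 4, 7, 3, 4, 8, 7, 9])] 1 0 2,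
  .ref [(1, 0, [1, 0, 2, 3, 4, 5, 6, 7, 3, 2, 4, 3, 5, 4, 7, 3, 2, 1, 9, 6, 5, 4, 3, 2], [1, 2, 3, 4, 5, 6, 7, 3, 2, 1, 4, 3, 5, 7, 8, 7, 3, 2, 1, 0, 4, 3, 2, 5, 4, 7, 3, 8, 7, 9, 6])] 1 0 2,
  .ref [(1, 0, [1, 0, 2, 3, 4, 5, 6, 7, 3, 2, 4, 3, 5, 4, 7, 3, 2, 1, 9, 6, 5, 4, 3, 2], [1, 2, 3, 4, 5, 6, 7, 3, 2, 1, 4, 3, 5, 4, 8, 7, 3, 2, 1, 0, 4, 3, 2, 1, 5, 4, 7, 3, 8, 7, 9])] 1 0 2,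
  .ref [(1, 0, [1, 0, 2, 3, 4, 5, 6, 7, 3, 2, 4, 3, 5, 4, 7, 3, 2, 1, 9, 6, 5, 4, 3, 2], [1, 2, 3, 4, 5, 6, 7, 3, 2, 1, 4, 3, 5, 7, 8, 7, 3, 2, 1, 0, 4, 3, 2, 5, 4, 7, 3, 8, 7])] 1 0 2,
  .ref [(1, 0, [1, 0, 2, 3, 4, 5, 6, 7, 3, 2, 4, 3, 5, 4, 7, 3, 2, 1, 9, 6, 5, 4, 3, 2], [1, 2, 3, 4, 5, 6, 7, 3, 2, 1, 4, 3, 5, 7, 8, 7, 3, 2, 1, 4, 3, 2, 5, 4, 3, 7, 3, 8, 7, 9, 6])] 1 0 2,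
  .ref [(1, 0, [1, 0, 2, 3, 4, 5, 6, 7, 3, 2, 4, 3, 5, 4, 7, 3, 2, 1, 9, 6, 5, 4, 3, 2], [1, 2, 3, 4, 5, 6, 7, 3, 2, 1, 4, 3, 5, 4, 7, 8, 7, 3, 2, 1, 4, 3, 2, 5, 4, 6, 7, 3, 8, 7, 9])] 1 0 2,
  .ref [(1, 0, [1, 0, 2, 3, 4, 5, 6, 7, 3, 2, 4, 3, 5, 4, 7, 3, 2, 1, 9, 6, 5, 4, 3, 2], [1, 2, 3, 4, 5, 6, 7, 3, 2, 1, 4, 3, 5, 7, 8, 7, 3, 2, 1, 4, 3, 2, 5, 4, 3, 7, 3, 8, 7])] 1 0 2,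
  .ref [(1, 0, [1, 0, 2, 3, 4, 5, 6, 7, 3, 2, 4, 3, 5, 4, 7, 3, 2, 1, 9, 6, 5, 4, 3, 2], [1, 2, 3, 4, 5, 6, 7, 3, 2, 1, 4, 3, 5, 7, 8, 7, 3, 2, 1, 4, 3, 2, 5, 4, 7, 3, 4, 8, 7, 9, 6])] 1 0 2,
  .ref [(1, 0, [1, 0, 2, 3, 4, 5, 6, 7, 3, 2, 4, 3, 5, 4, 7, 3, 2, 1, 9, 6, 5, 4, 3, 2], [1, 2, 3, 4, 5, 6, 7, 3, 2, 1, 4, 3, 5, 7, 8, 7, 3, 2, 1, 4, 3, 2, 5, 4, 6, 7, 3, 8, 7, 9, 6])] 1 0 2,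
  .ref [(1, 0, [1, 0, 2, 3, 4, 5, 6, 7, 3, 2, 4, 3, 5, 4, 7, 3, 2, 1, 9, 6, 5, 4, 3, 2], [1, 2, 3, 4, 5, 6, 7, 3, 2, 1, 4, 3, 5, 7, 8, 7, 3, 2, 1, 4, 3, 2, 5, 4, 7, 3, 4, 8, 7])] 1 0 2,
  .ref [(1, 0, [1, 0, 2, 3, 4, 5, 6, 7, 3, 2, 4, 3, 5, 4, 7, 3, 2, 1, 9, 6, 5, 4, 3, 2], [1, 2, 3, 4, 5, 6, 7, 3, 2, 1, 4, 3, 5, 7, 8, 7, 3, 2, 1, 4, 3, 2, 5, 4, 6, 7, 3, 8, 7])] 1 0 2,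
  .ref [(1, 0, [1, 0, 2, 3, 4, 5, 6, 7, 3, 2, 4, 3, 5, 4, 7, 3, 2, 1, 9, 6, 5, 4, 3, 2], [1, 2, 3, 4, 5, 6, 7, 3, 2, 1, 4, 3, 5, 4, 8, 7, 3, 2, 1, 0, 4, 3, 2, 5, 4, 3, 7, 3, 8, 7, 9])] 1 0 2,
  .ref [(1, 0, [1, 0, 2, 3, 4, 5, 6, 7, 3, 2, 4, 3, 5, 4, 7, 3, 2, 1, 9, 6, 5, 4, 3, 2], [1, 2, 3, 4, 5, 6, 7, 3, 2, 1, 4, 3, 5, 4, 8, 7, 3, 2, 1, 0, 4, 3, 2, 5, 4, 7, 3, 8, 7, 9, 6])] 1 0 2,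
  .ref [(1, 0, [1, 0, 2, 3, 4, 5, 6, 7, 3, 2, 4, 3, 5, 4, 7, 3, 2, 1, 9, 6, 5, 4, 3, 2], [1, 2, 3, 4, 5, 6, 7, 3, 2, 1, 4, 3, 5, 4, 8, 7, 3, 2, 1, 0, 4, 3, 2, 5, 4, 7, 3, 8, 7])] 1 0 2,
  .ref [(1, 0, [1, 0, 2, 3, 4, 5, 6, 7, 3, 2, 4, 3, 5, 4, 7, 3, 2, 1, 9, 6, 5, 4, 3, 2], [1, 2, 3, 4, 5, 6, 7, 3, 2, 1, 4, 3, 5, 4, 8, 7, 3, 2, 1, 4, 3, 2, 5, 4, 3, 7, 3, 8, 7, 9, 6])] 1 0 2,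
  .ref [(1, 0, [1, 0, 2, 3, 4, 5, 6, 7, 3, 2, 4, 3, 5, 4, 7, 3, 2, 1, 9, 6, 5, 4, 3, 2], [1, 2, 3, 4, 5, 6, 7, 3, 2, 1, 4, 3, 5, 4, 8, 7, 3, 2, 1, 0, 4, 3, 2, 5, 4, 6, 7, 3, 8, 7, 9])] 1 0 2,
  .ref [(1, 0, [1, 0, 2, 3, 4, 5, 6, 7, 3, 2, 4, 3, 5, 4, 7, 3, 2, 1, 9, 6, 5, 4, 3, 2], [1, 2, 3, 4, 5, 6, 7, 3, 2, 1, 4, 3, 5, 4, 8, 7, 3, 2, 1, 4, 3, 2, 5, 4, 3, 7, 3, 8, 7])] 1 0 2,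
  .ref [(1, 0, [1, 0, 2, 3, 4, 5, 6, 7, 3, 2, 4, 3, 5, 4, 7, 3, 2, 1, 9, 6, 5, 4, 3, 2], [1, 2, 3, 4, 5, 6, 7, 3, 2, 1, 4, 3, 5, 4, 8, 7, 3, 2, 1, 4, 3, 2, 5, 4, 7, 3, 4, 8, 7, 9, 6])] 1 0 2,
  .ref [(1, 0, [1, 0, 2, 3, 4, 5, 6, 7, 3, 2, 4, 3, 5, 4, 7, 3, 2, 1, 9, 6, 5, 4, 3, 2], [1, 2, 3, 4, 5, 6, 7, 3, 2, 1, 4, 3, 5, 4, 8, 7, 3, 2, 1, 4, 3, 2, 5, 4, 6, 7, 3, 8, 7, 9, 6])] 1 0 2,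
  .ref [(1, 0, [1, 0, 2, 3, 4, 5, 6, 7, 3, 2, 4, 3, 5, 4, 7, 3, 2, 1, 9, 6, 5, 4, 3, 2], [1, 2, 3, 4, 5, 6, 7, 3, 2, 1, 4, 3, 5, 4, 8, 7, 3, 2, 1, 4, 3, 2, 5, 4, 7, 3, 4, 8, 7])] 1 0 2,
  .ref [(1, 0, [1, 0, 2, 3, 4, 5, 6, 7, 3, 2, 4, 3, 5, 4, 7, 3, 2, 1, 9, 6, 5, 4, 3, 2], [1, 2, 3, 4, 5, 6, 7, 3, 2, 1, 4, 3, 5, 4, 8, 7, 3, 2, 1, 4, 3, 2, 5, 4, 6, 7, 3, 8, 7])] 1 0 2,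
  .ref [(1, 0, [1, 0, 2, 3, 4, 5, 6, 7, 3, 2, 4, 3, 5, 4, 7, 3, 2, 1, 9, 6, 5, 4, 3, 2], [1, 2, 3, 4, 5, 6, 7, 3, 2, 1, 4, 3, 5, 8, 7, 3, 2, 1, 4, 3, 2, 5, 4, 3, 7, 3, 4, 8, 7, 9, 6])] 1 0 2,
  .ref [(1, 0, [1, 0, 2, 3, 4, 5, 6, 7, 3, 2, 4, 3, 5, 4, 7, 3, 2, 1, 9, 6, 5, 4, 3, 2], [1, 2, 3, 4, 5, 6, 7, 3, 2, 1, 4, 3, 5, 8, 7, 3, 2, 1, 4, 3, 2, 5, 4, 3, 7, 3, 4, 8, 7])] 1 0 2,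
  .ref [(1, 0, [1, 0, 2, 3, 4, 5, 6, 7, 3, 2, 4, 3, 5, 4, 7, 3, 2, 1, 9, 6, 5, 4, 3, 2], [1, 2, 3, 4, 5, 6, 7, 3, 2, 1, 4, 3, 5, 8, 7, 3, 2, 1, 4, 3, 2, 5, 4, 6, 7, 3, 4, 8, 7, 9, 6])] 1 0 2,
  .ref [(1, 0, [1, 0, 2, 3, 4, 5, 6, 7, 3, 2, 4, 3, 5, 4, 7, 3, 2, 1, 9, 6, 5, 4, 3, 2], [1, 2, 3, 4, 5, 6, 7, 3, 2, 1, 4, 3, 5, 8, 7, 3, 2, 1, 4, 3, 2, 5, 4, 6, 7, 3, 4, 8, 7])] 1 0 2,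
  .ref [(1, 0, [1, 0, 2, 3, 4, 5, 6, 7, 3, 2, 4, 3, 5, 4, 7, 3, 2, 1, 9, 6, 5, 4, 3, 2], [1, 2, 3, 4, 5, 6, 7, 3, 2, 1, 4, 3, 5, 8, 7, 3, 2, 1, 4, 3, 2, 5, 4, 6, 7, 3, 8, 7, 9, 6])] 1 0 2,
  .ref [(1, 0, [1, 0, 2, 3, 4, 5, 6, 7, 3, 2, 4, 3, 5, 4, 7, 3, 2, 1, 9, 6, 5, 4, 3, 2], [1, 2, 3, 4, 5, 6, 7, 3, 2, 1, 4, 3, 5, 4, 8, 7, 3, 2, 1, 4, 3, 2, 5, 4, 6, 7, 3, 8, 7, 9])] 1 0 2,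
  .ref [(1, 0, [1, 0, 2, 3, 4, 5, 6, 7, 3, 2, 4, 3, 5, 4, 7, 3, 2, 1, 9, 6, 5, 4, 3, 2], [1, 2, 3, 4, 5, 6, 7, 3, 2, 1, 4, 3, 5, 8, 7, 3, 2, 1, 4, 3, 2, 5, 4, 6, 7, 3, 4, 8, 7, 9])] 1 0 2,
  .ref [(1, 0, [1, 0, 2, 3, 4, 5, 6, 7, 3, 2, 4, 3, 5, 4, 7, 3, 2, 1, 9, 6, 5, 4, 3, 2], [1, 2, 3, 4, 5, 6, 7, 3, 2, 1, 4, 3, 5, 8, 7, 3, 2, 1, 4, 3, 2, 5, 4, 6, 7, 3, 8, 7])] 1 0 2,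
  .ref [(1, 0, [1, 0, 2, 3, 4, 5, 6, 7, 3, 2, 4, 3, 5, 4, 7, 3, 2, 1, 9, 6, 5, 4, 3, 2], [1, 2, 3, 4, 5, 6, 7, 3, 2, 1, 4, 3, 5, 8, 7, 3, 2, 1, 4, 3, 2, 5, 4, 3, 7, 3, 8, 7, 9, 6])] 1 0 2,
  .ref [(1, 0, [1, 0, 2, 3, 4, 5, 6, 7, 3, 2, 4, 3, 5, 4, 7, 3, 2, 1, 9, 6, 5, 4, 3, 2], [1, 2, 3, 4, 5, 6, 7, 3, 2, 1, 4, 3, 5, 8, 7, 3, 2, 1, 4, 3, 2, 5, 4, 3, 7, 3, 8, 7])] 1 0 2,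
  .ref [(1, 0, [1, 0, 2, 3, 4, 5, 6, 7, 3, 2, 4, 3, 5, 4, 7, 3, 2, 1, 9, 6, 5, 4, 3, 2], [1, 2, 3, 4, 5, 6, 7, 3, 2, 1, 4, 3, 5, 4, 8, 7, 3, 2, 1, 0, 4, 3, 2, 5, 4, 7, 3, 4, 8, 7, 9, 6])] 1 0 2,
  .ref [(1, 0, [1, 0, 2, 3, 4, 5, 6, 7, 3, 2, 4, 3, 5, 4, 7, 3, 2, 1, 9, 6, 5, 4, 3, 2], [1, 2, 3, 4, 5, 6, 7, 3, 2, 1, 4, 3, 5, 4, 8, 7, 3, 2, 1, 0, 4, 3, 2, 5, 4, 7, 3, 4, 8, 7])] 1 0 2,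
  .ref [(1, 0, [1, 0, 2, 3, 4, 5, 6, 7, 3, 2, 4, 3, 5, 4, 7, 3, 2, 1, 9, 6, 5, 4, 3, 2], [1, 2, 3, 4, 5, 6, 7, 3, 2, 1, 4, 3, 5, 4, 8, 7, 3, 2, 1, 0, 4, 3, 2, 1, 5, 4, 7, 3, 8, 7, 9, 6])] 1 0 2,
  .ref [(1, 0, [1, 0, 2, 3, 4, 5, 6, 7, 3, 2, 4, 3, 5, 4, 7, 3, 2, 1, 9, 6, 5, 4, 3, 2], [1, 2, 3, 4, 5, 6, 7, 3, 2, 1, 4, 3, 5, 4, 8, 7, 3, 2, 1, 0, 4, 3, 2, 1, 5, 4, 7, 3, 8, 7])] 1 0 2,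
  .ref [(1, 0, [1, 0, 2, 3, 4, 5, 6, 7, 3, 2, 4, 3, 5, 4, 7, 3, 2, 1, 9, 6, 5, 4, 3, 2], [1, 2, 3, 4, 5, 6, 7, 3, 2, 1, 4, 3, 5, 4, 8, 7, 3, 2, 1, 0, 4, 3, 2, 5, 4, 3, 7, 3, 8, 7, 9, 6])] 1 0 2,
  .ref [(1, 0, [1, 0, 2, 3, 4, 5, 6, 7, 3, 2, 4, 3, 5, 4, 7, 3, 2, 1, 9, 6, 5, 4, 3, 2], [1, 2, 3, 4, 5, 6, 7, 3, 2, 1, 4, 3, 5, 4, 8, 7, 3, 2, 1, 0, 4, 3, 2, 5, 4, 3, 7, 3, 8, 7])] 1 0 2,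
  .ref [(1, 0, [1, 0, 2, 3, 4, 5, 6, 7, 3, 2, 4, 3, 5, 4, 7, 3, 2, 1, 9, 6, 5, 4, 3, 2], [1, 2, 3, 4, 5, 6, 7, 3, 2, 1, 4, 3, 5, 4, 8, 7, 3, 2, 1, 0, 4, 3, 2, 5, 4, 6, 7, 3, 8, 7, 9, 6])] 1 0 2,
  .ref [(1, 0, [1, 0, 2, 3, 4, 5, 6, 7, 3, 2, 4, 3, 5, 4, 7, 3, 2, 1, 9, 6, 5, 4, 3, 2], [1, 2, 3, 4, 5, 6, 7, 3, 2, 1, 4, 3, 5, 4, 8, 7, 3, 2, 1, 0, 4, 3, 2, 5, 4, 6, 7, 3, 8, 7])] 1 0 2,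
  .ref [(1, 0, [1, 0, 2, 3, 4, 5, 6, 7, 3, 2, 4, 3, 5, 4, 7, 3, 2, 1, 9, 6, 5, 4, 3, 2], [1, 2, 3, 4, 5, 6, 7, 3, 2, 1, 4, 3, 2, 5, 4, 7, 8, 7, 3, 2, 1, 4, 3, 2, 5, 4, 7, 3, 2, 8, 7, 3, 4, 9, 6, 5])] 1 0 2,
  .ref [(1, 0, [1, 0, 2, 3, 4, 5, 6, 7, 3, 2, 4, 3, 5, 4, 7, 3, 2, 1, 9, 6, 5, 4, 3, 2], [1, 2, 3, 4, 5, 6, 7, 3, 2, 1, 4, 3, 2, 5, 4, 7, 8, 7, 3, 2, 1, 4, 3, 2, 5, 4, 7, 3, 4, 8, 7, 3, 2, 9, 6, 5])] 1 0 2,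
  .ref [(1, 0, [1, 0, 2, 3, 4, 5, 6, 7, 3, 2, 4, 3, 5, 4, 7, 3, 2, 1, 9, 6, 5, 4, 3, 2], [1, 2, 3, 4, 5, 6, 7, 3, 2, 1, 4, 3, 5, 7, 8, 7, 3, 2, 1, 4, 3, 2, 5, 4, 7, 3, 8, 7, 9, 6, 5, 4, 3, 2])] 1 0 2,
  .ref [(1, 0, [1, 0, 2, 3, 4, 5, 6, 7, 3, 2, 4, 3, 5, 4, 7, 3, 2, 1, 9, 6, 5, 4, 3, 2], [1, 2, 3, 4, 5, 6, 7, 3, 2, 1, 4, 3, 5, 4, 8, 7, 3, 2, 1, 4, 3, 2, 5, 4, 7, 3, 2, 8, 7, 3, 4, 9, 6, 5])] 1 0 2,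
  .ref [(1, 0, [1, 0, 2, 3, 4, 5, 6, 7, 3, 2, 4, 3, 5, 4, 7, 3, 2, 1, 9, 6, 5, 4, 3, 2], [1, 2, 3, 4, 5, 6, 7, 3, 2, 1, 4, 3, 5, 8, 7, 3, 2, 1, 0, 4, 3, 2, 5, 4, 7, 3, 8, 7, 9, 6, 5, 4, 3, 2])] 1 0 2,
  .ref [(1, 0, [1, 0, 2, 3, 4, 5, 6, 7, 3, 2, 4, 3, 5, 4, 7, 3, 2, 1, 9, 6, 5, 4, 3, 2], [1, 2, 3, 4, 5, 6, 7, 3, 2, 1, 4, 3, 2, 5, 7, 8, 7, 3, 2, 1, 4, 3, 2, 5, 4, 7, 3, 8, 7, 9, 6, 5, 4, 3, 2])] 1 0 2,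
  .ref [(1, 0, [1, 0, 2, 3, 4, 5, 6, 7, 3, 2, 4, 3, 5, 4, 7, 3, 2, 1, 9, 6, 5, 4, 3, 2], [1, 2, 3, 4, 5, 6, 7, 3, 2, 1, 4, 3, 5, 8, 7, 3, 2, 1, 4, 3, 2, 5, 4, 7, 3, 2, 1, 4, 8, 7, 3, 2, 9, 6, 5])] 1 0 2,
  .ref [(1, 0, [1, 0, 2, 3, 4, 5, 6, 7, 3, 2, 4, 3, 5, 4, 7, 3, 2, 1, 9, 6, 5, 4, 3, 2], [1, 2, 3, 4, 5, 6, 7, 3, 2, 1, 4, 3, 2, 5, 8, 7, 3, 2, 1, 4, 3, 2, 5, 4, 7, 3, 4, 5, 8, 7, 3, 2, 9, 6, 5])] 1 0 2,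
  .ref [(1, 0, [1, 0, 2, 3, 4, 5, 6, 7, 3, 2, 4, 3, 5, 4, 7, 3, 2, 1, 9, 6, 5, 4, 3, 2], [1, 2, 3, 4, 5, 6, 7, 3, 2, 1, 4, 3, 2, 5, 4, 7, 8, 7, 3, 2, 1, 4, 3, 2, 5, 4, 3, 7, 3, 2, 8, 7, 3, 4, 9, 6, 5])] 1 0 2,
  .ref [(1, 0, [1, 0, 2, 3, 4, 5, 6, 7, 3, 2, 4, 3, 5, 4, 7, 3, 2, 1, 9, 6, 5, 4, 3, 2], [1, 2, 3, 4, 5, 6, 7, 3, 2, 1, 4, 3, 2, 5, 4, 7, 8, 7, 3, 2, 1, 4, 3, 2, 5, 4, 3, 7, 3, 4, 8, 7, 3, 2, 9, 6, 5])] 1 0 2,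
  .ref [(1, 0, [1, 0, 2, 3, 4, 5, 6, 7, 3, 2, 4, 3, 5, 4, 7, 3, 2, 1, 9, 6, 5, 4, 3, 2], [1, 2, 3, 4, 5, 6, 7, 3, 2, 1, 4, 3, 2, 5, 4, 7, 8, 7, 3, 2, 1, 4, 3, 2, 5, 4, 7, 3, 2, 8, 7, 3, 4, 9, 6, 5, 4])] 1 0 2,
  .ref [(1, 0, [1, 0, 2, 3, 4, 5, 6, 7, 3, 2, 4, 3, 5, 4, 7, 3, 2, 1, 9, 6, 5, 4, 3, 2], [1, 2, 3, 4, 5, 6, 7, 3, 2, 1, 4, 3, 2, 5, 8, 7, 3, 2, 1, 0, 4, 3, 2, 5, 4, 7, 3, 4, 8, 7, 3, 2, 9, 6, 5])] 1 0 2,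
  .ref [(1, 0, [1, 0, 2, 3, 4, 5, 6, 7, 3, 2, 4, 3, 5, 4, 7, 3, 2, 1, 9, 6, 5, 4, 3, 2], [1, 2, 3, 4, 5, 6, 7, 3, 2, 1, 4, 3, 2, 5, 4, 7, 8, 7, 3, 2, 1, 4, 3, 2, 5, 4, 7, 3, 2, 4, 8, 7, 3, 2, 9, 6, 5])] 1 0 2,
  .ref [(1, 0, [1, 0, 2, 3, 4, 5, 6, 7, 3, 2, 4, 3, 5, 4, 7, 3, 2, 1, 9, 6, 5, 4, 3, 2], [1, 2, 3, 4, 5, 6, 7, 3, 2, 1, 4, 3, 2, 5, 4, 7, 8, 7, 3, 2, 1, 4, 3, 2, 5, 4, 7, 3, 2, 4, 8, 7, 3, 4, 9, 6, 5])] 1 0 2,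
  .ref [(1, 0, [1, 0, 2, 3, 4, 5, 6, 7, 3, 2, 4, 3, 5, 4, 7, 3, 2, 1, 9, 6, 5, 4, 3, 2], [1, 2, 3, 4, 5, 6, 7, 3, 2, 1, 4, 3, 2, 5, 4, 7, 8, 7, 3, 2, 1, 4, 3, 2, 5, 4, 7, 3, 2, 8, 7, 3, 4, 5, 9, 6, 5])] 1 0 2,
  .ref [(1, 0, [1, 0, 2, 3, 4, 5, 6, 7, 3, 2, 4, 3, 5, 4, 7, 3, 2, 1, 9, 6, 5, 4, 3, 2], [1, 2, 3, 4, 5, 6, 7, 3, 2, 1, 4, 3, 2, 5, 4, 7, 8, 7, 3, 2, 1, 4, 3, 2, 5, 4, 7, 3, 4, 8, 7, 3, 2, 9, 6, 5, 4])] 1 0 2,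
  .ref [(1, 0, [1, 0, 2, 3, 4, 5, 6, 7, 3, 2, 4, 3, 5, 4, 7, 3, 2, 1, 9, 6, 5, 4, 3, 2], [1, 2, 3, 4, 5, 6, 7, 3, 2, 1, 4, 3, 5, 8, 7, 3, 2, 1, 4, 3, 2, 5, 4, 7, 3, 8, 7, 9, 6, 5, 4, 3, 2])] 1 0 2,
  .ref [(1, 0, [1, 0, 2, 3, 4, 5, 6, 7, 3, 2, 4, 3, 5, 4, 7, 3, 2, 1, 9, 6, 5, 4, 3, 2], [1, 2, 3, 4, 5, 6, 7, 3, 2, 1, 4, 3, 5, 7, 8, 7, 3, 2, 1, 0, 4, 3, 2, 5, 4, 7, 3, 8, 7, 9, 6, 5, 4, 3, 2])] 1 0 2,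
  .ref [(1, 0, [1, 0, 2, 3, 4, 5, 6, 7, 3, 2, 4, 3, 5, 4, 7, 3, 2, 1, 9, 6, 5, 4, 3, 2], [1, 2, 3, 4, 5, 6, 7, 3, 2, 1, 4, 3, 5, 7, 8, 7, 3, 2, 1, 4, 3, 2, 5, 4, 3, 7, 3, 8, 7, 9, 6, 5, 4, 3, 2])] 1 0 2,
  .ref [(1, 0, [1, 0, 2, 3, 4, 5, 6, 7, 3, 2, 4, 3, 5, 4, 7, 3, 2, 1, 9, 6, 5, 4, 3, 2], [1, 2, 3, 4, 5, 6, 7, 3, 2, 1, 4, 3, 5, 7, 8, 7, 3, 2, 1, 4, 3, 2, 5, 4, 7, 3, 2, 8, 7, 9, 6, 5, 4, 3, 2])] 1 0 2,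
  .ref [(1, 0, [1, 0, 2, 3, 4, 5, 6, 7, 3, 2, 4, 3, 5, 4, 7, 3, 2, 1, 9, 6, 5, 4, 3, 2], [1, 2, 3, 4, 5, 6, 7, 3, 2, 1, 4, 3, 5, 7, 8, 7, 3, 2, 1, 4, 3, 2, 5, 4, 7, 3, 8, 7, 9, 6, 5, 4, 3, 2, 1])] 1 0 2,
  .ref [(1, 0, [1, 0, 2, 3, 4, 5, 6, 7, 3, 2, 4, 3, 5, 4, 7, 3, 2, 1, 9, 6, 5, 4, 3, 2], [1, 2, 3, 4, 5, 6, 7, 3, 2, 1, 4, 3, 5, 7, 8, 7, 3, 2, 1, 4, 3, 2, 5, 4, 6, 7, 3, 8, 7, 9, 6, 5, 4, 3, 2])] 1 0 2,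
  .ref [(1, 0, [1, 0, 2, 3, 4, 5, 6, 7, 3, 2, 4, 3, 5, 4, 7, 3, 2, 1, 9, 6, 5, 4, 3, 2], [1, 2, 3, 4, 5, 6, 7, 3, 2, 1, 4, 3, 2, 5, 8, 7, 3, 2, 1, 4, 3, 2, 5, 4, 6, 7, 3, 4, 8, 7, 3, 2, 9, 6, 5])] 1 0 2,
  .ref [(1, 0, [1, 0, 2, 3, 4, 5, 6, 7, 3, 2, 4, 3, 5, 4, 7, 3, 2, 1, 9, 6, 5, 4, 3, 2], [1, 2, 3, 4, 5, 6, 7, 3, 2, 1, 4, 3, 2, 5, 8, 7, 3, 2, 1, 4, 3, 2, 5, 4, 7, 3, 2, 4, 8, 7, 3, 2, 9, 6, 5])] 1 0 2,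
  .ref [(1, 0, [1, 0, 2, 3, 4, 5, 6, 7, 3, 2, 4, 3, 5, 4, 7, 3, 2, 1, 9, 6, 5, 4, 3, 2], [1, 2, 3, 4, 5, 6, 7, 3, 2, 1, 4, 3, 5, 4, 8, 7, 3, 2, 1, 4, 3, 2, 5, 4, 7, 3, 2, 8, 7, 3, 4, 9, 6, 5, 4])] 1 0 2,
  .ref [(1, 0, [1, 0, 2, 3, 4, 5, 6, 7, 3, 2, 4, 3, 5, 4, 7, 3, 2, 1, 9, 6, 5, 4, 3, 2], [1, 2, 3, 4, 5, 6, 7, 3, 2, 1, 4, 3, 2, 5, 8, 7, 3, 2, 1, 4, 3, 2, 5, 4, 3, 7, 3, 4, 8, 7, 3, 2, 9, 6, 5])] 1 0 2,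
  .ref [(1, 0, [1, 0, 2, 3, 4, 5, 6, 7, 3, 2, 4, 3, 5, 4, 7, 3, 2, 1, 9, 6, 5, 4, 3, 2], [1, 2, 3, 4, 5, 6, 7, 3, 2, 1, 4, 3, 2, 5, 8, 7, 3, 2, 1, 4, 3, 2, 5, 4, 7, 3, 4, 8, 7, 3, 2, 1, 9, 6, 5])] 1 0 2,
  .ref [(1, 0, [1, 0, 2, 3, 4, 5, 6, 7, 3, 2, 4, 3, 5, 4, 7, 3, 2, 1, 9, 6, 5, 4, 3, 2], [1, 2, 3, 4, 5, 6, 7, 3, 2, 1, 4, 3, 5, 8, 7, 3, 2, 1, 0, 4, 3, 2, 5, 4, 7, 3, 2, 8, 7, 9, 6, 5, 4, 3, 2])] 1 0 2,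
  .ref [(1, 0, [1, 0, 2, 3, 4, 5, 6, 7, 3, 2, 4, 3, 5, 4, 7, 3, 2, 1, 9, 6, 5, 4, 3, 2], [1, 2, 3, 4, 5, 6, 7, 3, 2, 1, 4, 3, 2, 5, 8, 7, 3, 2, 1, 0, 4, 3, 2, 5, 4, 7, 3, 8, 7, 9, 6, 5, 4, 3, 2])] 1 0 2,
  .ref [(1, 0, [1, 0, 2, 3, 4, 5, 6, 7, 3, 2, 4, 3, 5, 4, 7, 3, 2, 1, 9, 6, 5, 4, 3, 2], [1, 2, 3, 4, 5, 6, 7, 3, 2, 1, 4, 3, 5, 8, 7, 3, 2, 1, 0, 4, 3, 2, 5, 4, 7, 3, 8, 7, 9, 6, 5, 4, 3, 2, 1])] 1 0 2,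
  .ref [(1, 0, [1, 0, 2, 3, 4, 5, 6, 7, 3, 2, 4, 3, 5, 4, 7, 3, 2, 1, 9, 6, 5, 4, 3, 2], [1, 2, 3, 4, 5, 6, 7, 3, 2, 1, 4, 3, 2, 5, 8, 7, 3, 2, 1, 4, 3, 2, 5, 4, 7, 3, 8, 7, 9, 6, 5, 4, 3, 2])] 1 0 2,
  .ref [(1, 0, [1, 0, 2, 3, 4, 5, 6, 7, 3, 2, 4, 3, 5, 4, 7, 3, 2, 1, 9, 6, 5, 4, 3, 2], [1, 2, 3, 4, 5, 6, 7, 3, 2, 1, 4, 3, 2, 5, 8, 7, 3, 2, 1, 4, 3, 2, 5, 4, 7, 3, 4, 8, 7, 3, 2, 9, 6, 5])] 1 0 2,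
  .ref [(1, 0, [1, 0, 2, 3, 4, 5, 6, 7, 3, 2, 4, 3, 5, 4, 7, 3, 2, 1, 9, 6, 5, 4, 3, 2], [1, 2, 3, 4, 5, 6, 7, 3, 2, 1, 4, 3, 2, 5, 7, 8, 7, 3, 2, 1, 0, 4, 3, 2, 5, 4, 7, 3, 8, 7, 9, 6, 5, 4, 3, 2])] 1 0 2,
  .ref [(1, 0, [1, 0, 2, 3, 4, 5, 6, 7, 3, 2, 4, 3, 5, 4, 7, 3, 2, 1, 9, 6, 5, 4, 3, 2], [1, 2, 3, 4, 5, 6, 7, 3, 2, 1, 4, 3, 2, 5, 7, 8, 7, 3, 2, 1, 4, 3, 2, 5, 4, 3, 7, 3, 8, 7, 9, 6, 5, 4, 3, 2])] 1 0 2,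
  .ref [(1, 0, [1, 0, 2, 3, 4, 5, 6, 7, 3, 2, 4, 3, 5, 4, 7, 3, 2, 1, 9, 6, 5, 4, 3, 2], [1, 2, 3, 4, 5, 6, 7, 3, 2, 1, 4, 3, 5, 8, 7, 3, 2, 1, 4, 3, 2, 5, 4, 6, 7, 3, 8, 7, 9, 6, 5, 4, 3, 2])] 1 0 2,
  .ref [(1, 0, [1, 0, 2, 3, 4, 5, 6, 7, 3, 2, 4, 3, 5, 4, 7, 3, 2, 1, 9, 6, 5, 4, 3, 2], [1, 2, 3, 4, 5, 6, 7, 3, 2, 1, 4, 3, 2, 5, 7, 8, 7, 3, 2, 1, 4, 3, 2, 5, 4, 7, 3, 8, 7, 9, 6, 5, 4, 3, 2, 1])] 1 0 2,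
  .ref [(1, 0, [1, 0, 2, 3, 4, 5, 6, 7, 3, 2, 4, 3, 5, 4, 7, 3, 2, 1, 9, 6, 5, 4, 3, 2], [1, 2, 3, 4, 5, 6, 7, 3, 2, 1, 4, 3, 5, 8, 7, 3, 2, 1, 4, 3, 2, 5, 4, 7, 3, 2, 8, 7, 9, 6, 5, 4, 3, 2])] 1 0 2,
  .ref [(1, 0, [1, 0, 2, 3, 4, 5, 6, 7, 3, 2, 4, 3, 5, 4, 7, 3, 2, 1, 9, 6, 5, 4, 3, 2], [1, 2, 3, 4, 5, 6, 7, 3, 2, 1, 4, 3, 5, 8, 7, 3, 2, 1, 4, 3, 2, 5, 4, 3, 7, 3, 2, 1, 4, 8, 7, 3, 2, 9, 6, 5])] 1 0 2,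
  .ref [(1, 0, [1, 0, 2, 3, 4, 5, 6, 7, 3, 2, 4, 3, 5, 4, 7, 3, 2, 1, 9, 6, 5, 4, 3, 2], [1, 2, 3, 4, 5, 6, 7, 3, 2, 1, 4, 3, 2, 5, 8, 7, 3, 2, 1, 4, 3, 2, 5, 4, 3, 7, 3, 4, 5, 8, 7, 3, 2, 9, 6, 5])] 1 0 2,
  .ref [(1, 0, [1, 0, 2, 3, 4, 5, 6, 7, 3, 2, 4, 3, 5, 4, 7, 3, 2, 1, 9, 6, 5, 4, 3, 2], [1, 2, 3, 4, 5, 6, 7, 3, 2, 1, 4, 3, 2, 5, 8, 7, 3, 2, 1, 4, 3, 2, 5, 4, 6, 7, 3, 4, 5, 8, 7, 3, 4, 9, 6, 5])] 1 0 2,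
  .ref [(1, 0, [1, 0, 2, 3, 4, 5, 6, 7, 3, 2, 4, 3, 5, 4, 7, 3, 2, 1, 9, 6, 5, 4, 3, 2], [1, 2, 3, 4, 5, 6, 7, 3, 2, 1, 4, 3, 5, 8, 7, 3, 2, 1, 4, 3, 2, 5, 4, 7, 3, 2, 1, 4, 8, 7, 3, 2, 9, 6, 5, 4])] 1 0 2,
  .ref [(1, 0, [1, 0, 2, 3, 4, 5, 6, 7, 3, 2, 4, 3, 5, 4, 7, 3, 2, 1, 9, 6, 5, 4, 3, 2], [1, 2, 3, 4, 5, 6, 7, 3, 2, 1, 4, 3, 2, 5, 8, 7, 3, 2, 1, 4, 3, 2, 5, 4, 6, 7, 3, 4, 5, 8, 7, 3, 2, 9, 6, 5])] 1 0 2,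
  .ref [(1, 0, [1, 0, 2, 3, 4, 5, 6, 7, 3, 2, 4, 3, 5, 4, 7, 3, 2, 1, 9, 6, 5, 4, 3, 2], [1, 2, 3, 4, 5, 6, 7, 3, 2, 1, 4, 3, 2, 5, 8, 7, 3, 2, 1, 4, 3, 2, 5, 4, 3, 7, 3, 4, 8, 7, 3, 2, 1, 9, 6, 5])] 1 0 2,
  .ref [(1, 0, [1, 0, 2, 3, 4, 5, 6, 7, 3, 2, 4, 3, 5, 4, 7, 3, 2, 1, 9, 6, 5, 4, 3, 2], [1, 2, 3, 4, 5, 6, 7, 3, 2, 1, 4, 3, 2, 5, 8, 7, 3, 2, 1, 4, 3, 2, 5, 4, 7, 3, 2, 4, 5, 8, 7, 3, 4, 9, 6, 5])] 1 0 2,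
  .ref [(1, 0, [1, 0, 2, 3, 4, 5, 6, 7, 3, 2, 4, 3, 5, 4, 7, 3, 2, 1, 9, 6, 5, 4, 3, 2], [1, 2, 3, 4, 5, 6, 7, 3, 2, 1, 4, 3, 2, 5, 8, 7, 3, 2, 1, 4, 3, 2, 5, 4, 7, 3, 4, 5, 8, 7, 3, 2, 9, 6, 5, 4])] 1 0 2,
  .ref [(1, 0, [1, 0, 2, 3, 4, 5, 6, 7, 3, 2, 4, 3, 5, 4, 7, 3, 2, 1, 9, 6, 5, 4, 3, 2], [1, 2, 3, 4, 5, 6, 7, 3, 2, 1, 4, 3, 2, 5, 4, 7, 8, 7, 3, 2, 1, 4, 3, 2, 5, 4, 3, 7, 3, 2, 8, 7, 3, 4, 9, 6, 5, 4])] 1 0 2,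
  .ref [(1, 0, [1, 0, 2, 3, 4, 5, 6, 7, 3, 2, 4, 3, 5, 4, 7, 3, 2, 1, 9, 6, 5, 4, 3, 2], [1, 2, 3, 4, 5, 6, 7, 3, 2, 1, 4, 3, 2, 5, 8, 7, 3, 2, 1, 0, 4, 3, 2, 5, 4, 3, 7, 3, 4, 8, 7, 3, 2, 9, 6, 5])] 1 0 2,
  .ref [(1, 0, [1, 0, 2, 3, 4, 5, 6, 7, 3, 2, 4, 3, 5, 4, 7, 3, 2, 1, 9, 6, 5, 4, 3, 2], [1, 2, 3, 4, 5, 6, 7, 3, 2, 1, 4, 3, 2, 5, 4, 7, 8, 7, 3, 2, 1, 4, 3, 2, 5, 4, 3, 7, 3, 4, 8, 7, 3, 2, 9, 6, 5, 4])] 1 0 2,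
  .ref [(1, 0, [1, 0, 2, 3, 4, 5, 6, 7, 3, 2, 4, 3, 5, 4, 7, 3, 2, 1, 9, 6, 5, 4, 3, 2], [1, 2, 3, 4, 5, 6, 7, 3, 2, 1, 4, 3, 2, 5, 8, 7, 3, 2, 1, 0, 4, 3, 2, 5, 4, 7, 3, 4, 8, 7, 3, 2, 9, 6, 5, 4])] 1 0 2,
  .ref [(1, 0, [1, 0, 2, 3, 4, 5, 6, 7, 3, 2, 4, 3, 5, 4, 7, 3, 2, 1, 9, 6, 5, 4, 3, 2], [1, 2, 3, 4, 5, 6, 7, 3, 2, 1, 4, 3, 2, 5, 4, 7, 8, 7, 3, 2, 1, 4, 3, 2, 5, 4, 7, 3, 2, 8, 7, 3, 4, 9, 6, 5, 4, 3])] 1 0 2,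
  .ref [(1, 0, [1, 0, 2, 3, 4, 5, 6, 7, 3, 2, 4, 3, 5, 4, 7, 3, 2, 1, 9, 6, 5, 4, 3, 2], [1, 2, 3, 4, 5, 6, 7, 3, 2, 1, 4, 3, 2, 5, 4, 7, 8, 7, 3, 2, 1, 4, 3, 2, 5, 4, 7, 3, 2, 8, 7, 3, 4, 5, 9, 6, 5, 4])] 1 0 2,
  .ref [(1, 0, [1, 0, 2, 3, 4, 5, 6, 7, 3, 2, 4, 3, 5, 4, 7, 3, 2, 1, 9, 6, 5, 4, 3, 2], [1, 2, 3, 4, 5, 6, 7, 3, 2, 1, 4, 3, 2, 5, 8, 7, 3, 2, 1, 0, 4, 3, 2, 5, 4, 7, 3, 2, 4, 8, 7, 3, 2, 9, 6, 5])] 1 0 2,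
  .ref [(1, 0, [1, 0, 2, 3, 4, 5, 6, 7, 3, 2, 4, 3, 5, 4, 7, 3, 2, 1, 9, 6, 5, 4, 3, 2], [1, 2, 3, 4, 5, 6, 7, 3, 2, 1, 4, 3, 2, 5, 4, 7, 8, 7, 3, 2, 1, 4, 3, 2, 5, 4, 7, 3, 2, 4, 8, 7, 3, 2, 9, 6, 5, 4])] 1 0 2,
  .ref [(1, 0, [1, 0, 2, 3, 4, 5, 6, 7, 3, 2, 4, 3, 5, 4, 7, 3, 2, 1, 9, 6, 5, 4, 3, 2], [1, 2, 3, 4, 5, 6, 7, 3, 2, 1, 4, 3, 2, 5, 4, 7, 8, 7, 3, 2, 1, 4, 3, 2, 5, 4, 7, 3, 2, 4, 8, 7, 3, 4, 9, 6, 5, 4])] 1 0 2,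
  .ref [(1, 0, [1, 0, 2, 3, 4, 5, 6, 7, 3, 2, 4, 3, 5, 4, 7, 3, 2, 1, 9, 6, 5, 4, 3, 2], [1, 2, 3, 4, 5, 6, 7, 3, 2, 1, 4, 3, 2, 5, 4, 7, 8, 7, 3, 2, 1, 4, 3, 2, 5, 4, 7, 3, 4, 8, 7, 3, 2, 9, 6, 5, 4, 3])] 1 0 2,
  .ref [(1, 0, [1, 0, 2, 3, 4, 5, 6, 7, 3, 2, 4, 3, 5, 4, 7, 3, 2, 1, 9, 6, 5, 4, 3, 2], [1, 2, 3, 4, 5, 6, 7, 3, 2, 1, 4, 3, 5, 8, 7, 3, 2, 1, 4, 3, 2, 5, 4, 3, 7, 3, 8, 7, 9, 6, 5, 4, 3, 2])] 1 0 2,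
  .ref [(1, 0, [1, 0, 2, 3, 4, 5, 6, 7, 3, 2, 4, 3, 5, 4, 7, 3, 2, 1, 9, 6, 5, 4, 3, 2], [1, 2, 3, 4, 5, 6, 7, 3, 2, 1, 4, 3, 5, 8, 7, 3, 2, 1, 4, 3, 2, 5, 4, 7, 3, 8, 7, 9, 6, 5, 4, 3, 2, 1])] 1 0 2,
  .ref [(1, 0, [1, 0, 2, 3, 4, 5, 6, 7, 3, 2, 4, 3, 5, 4, 7, 3, 2, 1, 9, 6, 5, 4, 3, 2], [1, 2, 3, 4, 5, 6, 7, 3, 2, 1, 4, 3, 5, 7, 8, 7, 3, 2, 1, 0, 4, 3, 2, 5, 4, 7, 3, 8, 7, 9, 6, 5, 4, 3, 2, 1])] 1 0 2,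
  .ref [(1, 0, [1, 0, 2, 3, 4, 5, 6, 7, 3, 2, 4, 3, 5, 4, 7, 3, 2, 1, 9, 6, 5, 4, 3, 2], [1, 2, 3, 4, 5, 6, 7, 3, 2, 1, 4, 3, 5, 7, 8, 7, 3, 2, 1, 4, 3, 2, 5, 4, 3, 7, 3, 8, 7, 9, 6, 5, 4, 3, 2, 1])] 1 0 2,
  .ref [(1, 0, [1, 0, 2, 3, 4, 5, 6, 7, 3, 2, 4, 3, 5, 4, 7, 3, 2, 1, 9, 6, 5, 4, 3, 2], [1, 2, 3, 4, 5, 6, 7, 3, 2, 1, 4, 3, 5, 7, 8, 7, 3, 2, 1, 4, 3, 2, 5, 4, 7, 3, 2, 8, 7, 9, 6, 5, 4, 3, 2, 1])] 1 0 2,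
  .ref [(1, 0, [1, 0, 2, 3, 4, 5, 6, 7, 3, 2, 4, 3, 5, 4, 7, 3, 2, 1, 9, 6, 5, 4, 3, 2], [1, 2, 3, 4, 5, 6, 7, 3, 2, 1, 4, 3, 2, 5, 8, 7, 3, 2, 1, 0, 4, 3, 2, 5, 4, 3, 7, 3, 8, 7, 9, 6, 5, 4, 3, 2])] 1 0 2,
  .ref [(1, 0, [1, 0, 2, 3, 4, 5, 6, 7, 3, 2, 4, 3, 5, 4, 7, 3, 2, 1, 9, 6, 5, 4, 3, 2], [1, 2, 3, 4, 5, 6, 7, 3, 2, 1, 4, 3, 2, 5, 8, 7, 3, 2, 1, 4, 3, 2, 5, 4, 6, 5, 7, 3, 8, 7, 9, 6, 5, 4, 3, 2])] 1 0 2,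
  .ref [(1, 0, [1, 0, 2, 3, 4, 5, 6, 7, 3, 2, 4, 3, 5, 4, 7, 3, 2, 1, 9, 6, 5, 4, 3, 2], [1, 2, 3, 4, 5, 6, 7, 3, 2, 1, 4, 3, 5, 7, 8, 7, 3, 2, 1, 4, 3, 2, 5, 4, 7, 3, 8, 7, 9, 6, 5, 4, 3, 2, 1, 0])] 1 0 2,
  .ref [(1, 0, [1, 0, 2, 3, 4, 5, 6, 7, 3, 2, 4, 3, 5, 4, 7, 3, 2, 1, 9, 6, 5, 4, 3, 2], [1, 2, 3, 4, 5, 6, 7, 3, 2, 1, 4, 3, 5, 7, 8, 7, 3, 2, 1, 4, 3, 2, 5, 4, 6, 7, 3, 8, 7, 9, 6, 5, 4, 3, 2, 1])] 1 0 2,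
  .ref [(1, 0, [1, 0, 2, 3, 4, 5, 6, 7, 3, 2, 4, 3, 5, 4, 7, 3, 2, 1, 9, 6, 5, 4, 3, 2], [1, 2, 3, 4, 5, 6, 7, 3, 2, 1, 4, 3, 2, 5, 8, 7, 3, 2, 1, 4, 3, 2, 5, 4, 6, 7, 3, 4, 8, 7, 3, 2, 9, 6, 5, 4])] 1 0 2,
  .ref [(1, 0, [1, 0, 2, 3, 4, 5, 6, 7, 3, 2, 4, 3, 5, 4, 7, 3, 2, 1, 9, 6, 5, 4, 3, 2], [1, 2, 3, 4, 5, 6, 7, 3, 2, 1, 4, 3, 2, 5, 8, 7, 3, 2, 1, 4, 3, 2, 5, 4, 7, 3, 2, 4, 8, 7, 3, 2, 9, 6, 5, 4])] 1 0 2,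
  .ref [(1, 0, [1, 0, 2, 3, 4, 5, 6, 7, 3, 2, 4, 3, 5, 4, 7, 3, 2, 1, 9, 6, 5, 4, 3, 2], [1, 2, 3, 4, 5, 6, 7, 3, 2, 1, 4, 3, 5, 4, 8, 7, 3, 2, 1, 4, 3, 2, 5, 4, 7, 3, 2, 8, 7, 3, 4, 9, 6, 5, 4, 3])] 1 0 2,
  .ref [(1, 0, [1, 0, 2, 3, 4, 5, 6, 7, 3, 2, 4, 3, 5, 4, 7, 3, 2, 1, 9, 6, 5, 4, 3, 2], [1, 2, 3, 4, 5, 6, 7, 3, 2, 1, 4, 3, 2, 5, 8, 7, 3, 2, 1, 4, 3, 2, 5, 4, 7, 3, 4, 8, 7, 3, 2, 1, 9, 6, 5, 4])] 1 0 2,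
  .ref [(1, 0, [1, 0, 2, 3, 4, 5, 6, 7, 3, 2, 4, 3, 5, 4, 7, 3, 2, 1, 9, 6, 5, 4, 3, 2], [1, 2, 3, 4, 5, 6, 7, 3, 2, 1, 4, 3, 2, 5, 8, 7, 3, 2, 1, 4, 3, 2, 5, 4, 3, 7, 3, 4, 8, 7, 3, 2, 9, 6, 5, 4])] 1 0 2,
  .ref [(1, 0, [1, 0, 2, 3, 4, 5, 6, 7, 3, 2, 4, 3, 5, 4, 7, 3, 2, 1, 9, 6, 5, 4, 3, 2], [1, 2, 3, 4, 5, 6, 7, 3, 2, 1, 4, 3, 2, 5, 8, 7, 3, 2, 1, 0, 4, 3, 2, 5, 4, 7, 3, 2, 8, 7, 9, 6, 5, 4, 3, 2])] 1 0 2,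
  .ref [(1, 0, [1, 0, 2, 3, 4, 5, 6, 7, 3, 2, 4, 3, 5, 4, 7, 3, 2, 1, 9, 6, 5, 4, 3, 2], [1, 2, 3, 4, 5, 6, 7, 3, 2, 1, 4, 3, 5, 8, 7, 3, 2, 1, 0, 4, 3, 2, 5, 4, 7, 3, 2, 8, 7, 9, 6, 5, 4, 3, 2, 1])] 1 0 2,
  .ref [(1, 0, [1, 0, 2, 3, 4, 5, 6, 7, 3, 2, 4, 3, 5, 4, 7, 3, 2, 1, 9, 6, 5, 4, 3, 2], [1, 2, 3, 4, 5, 6, 7, 3, 2, 1, 4, 3, 2, 5, 8, 7, 3, 2, 1, 0, 4, 3, 2, 5, 4, 6, 7, 3, 8, 7, 9, 6, 5, 4, 3, 2])] 1 0 2,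
  .ref [(1, 0, [1, 0, 2, 3, 4, 5, 6, 7, 3, 2, 4, 3, 5, 4, 7, 3, 2, 1, 9, 6, 5, 4, 3, 2], [1, 2, 3, 4, 5, 6, 7, 3, 2, 1, 4, 3, 2, 5, 8, 7, 3, 2, 1, 0, 4, 3, 2, 5, 4, 7, 3, 8, 7, 9, 6, 5, 4, 3, 2, 1])] 1 0 2,
  .ref [(1, 0, [1, 0, 2, 3, 4, 5, 6, 7, 3, 2, 4, 3, 5, 4, 7, 3, 2, 1, 9, 6, 5, 4, 3, 2], [1, 2, 3, 4, 5, 6, 7, 3, 2, 1, 4, 3, 5, 8, 7, 3, 2, 1, 0, 4, 3, 2, 5, 4, 7, 3, 8, 7, 9, 6, 5, 4, 3, 2, 1, 0])] 1 0 2,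
  .ref [(1, 0, [1, 0, 2, 3, 4, 5, 6, 7, 3, 2, 4, 3, 5, 4, 7, 3, 2, 1, 9, 6, 5, 4, 3, 2], [1, 2, 3, 4, 5, 6, 7, 3, 2, 1, 4, 3, 2, 5, 8, 7, 3, 2, 1, 4, 3, 2, 5, 4, 3, 7, 3, 8, 7, 9, 6, 5, 4, 3, 2])] 1 0 2,
  .ref [(1, 0, [1, 0, 2, 3, 4, 5, 6, 7, 3, 2, 4, 3, 5, 4, 7, 3, 2, 1, 9, 6, 5, 4, 3, 2], [1, 2, 3, 4, 5, 6, 7, 3, 2, 1, 4, 3, 2, 5, 8, 7, 3, 2, 1, 4, 3, 2, 5, 4, 7, 3, 2, 8, 7, 9, 6, 5, 4, 3, 2])] 1 0 2,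
  .ref [(1, 0, [1, 0, 2, 3, 4, 5, 6, 7, 3, 2, 4, 3, 5, 4, 7, 3, 2, 1, 9, 6, 5, 4, 3, 2], [1, 2, 3, 4, 5, 6, 7, 3, 2, 1, 4, 3, 2, 5, 8, 7, 3, 2, 1, 4, 3, 2, 5, 4, 7, 3, 8, 7, 9, 6, 5, 4, 3, 2, 1])] 1 0 2,
  .ref [(1, 0, [1, 0, 2, 3, 4, 5, 6, 7, 3, 2, 4, 3, 5, 4, 7, 3, 2, 1, 9, 6, 5, 4, 3, 2], [1, 2, 3, 4, 5, 6, 7, 3, 2, 1, 4, 3, 2, 5, 8, 7, 3, 2, 1, 4, 3, 2, 5, 4, 6, 7, 3, 8, 7, 9, 6, 5, 4, 3, 2])] 1 0 2,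
  .ref [(1, 0, [1, 0, 2, 3, 4, 5, 6, 7, 3, 2, 4, 3, 5, 4, 7, 3, 2, 1, 9, 6, 5, 4, 3, 2], [1, 2, 3, 4, 5, 6, 7, 3, 2, 1, 4, 3, 2, 5, 8, 7, 3, 2, 1, 4, 3, 2, 5, 4, 7, 3, 4, 8, 7, 3, 2, 9, 6, 5, 4])] 1 0 2,
  .ref [(1, 0, [1, 0, 2, 3, 4, 5, 6, 7, 3, 2, 4, 3, 5, 4, 7, 3, 2, 1, 9, 6, 5, 4, 3, 2], [1, 2, 3, 4, 5, 6, 7, 3, 2, 1, 4, 3, 2, 5, 7, 8, 7, 3, 2, 1, 0, 4, 3, 2, 5, 4, 7, 3, 8, 7, 9, 6, 5, 4, 3, 2, 1])] 1 0 2,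
  .ref [(1, 0, [1, 0, 2, 3, 4, 5, 6, 7, 3, 2, 4, 3, 5, 4, 7, 3, 2, 1, 9, 6, 5, 4, 3, 2], [1, 2, 3, 4, 5, 6, 7, 3, 2, 1, 4, 3, 2, 5, 7, 8, 7, 3, 2, 1, 4, 3, 2, 5, 4, 3, 7, 3, 8, 7, 9, 6, 5, 4, 3, 2, 1])] 1 0 2,
  .ref [(1, 0, [1, 0, 2, 3, 4, 5, 6, 7, 3, 2, 4, 3, 5, 4, 7, 3, 2, 1, 9, 6, 5, 4, 3, 2], [1, 2, 3, 4, 5, 6, 7, 3, 2, 1, 4, 3, 5, 8, 7, 3, 2, 1, 4, 3, 2, 5, 4, 3, 7, 3, 2, 8, 7, 9, 6, 5, 4, 3, 2])] 1 0 2,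
  .ref [(1, 0, [1, 0, 2, 3, 4, 5, 6, 7, 3, 2, 4, 3, 5, 4, 7, 3, 2, 1, 9, 6, 5, 4, 3, 2], [1, 2, 3, 4, 5, 6, 7, 3, 2, 1, 4, 3, 5, 8, 7, 3, 2, 1, 4, 3, 2, 5, 4, 6, 7, 3, 8, 7, 9, 6, 5, 4, 3, 2, 1])] 1 0 2,
  .ref [(1, 0, [1, 0, 2, 3, 4, 5, 6, 7, 3, 2, 4, 3, 5, 4, 7, 3, 2, 1, 9, 6, 5, 4, 3, 2], [1, 2, 3, 4, 5, 6, 7, 3, 2, 1, 4, 3, 2, 5, 7, 8, 7, 3, 2, 1, 4, 3, 2, 5, 4, 7, 3, 8, 7, 9, 6, 5, 4, 3, 2, 1, 0])] 1 0 2,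
  .ref [(1, 0, [1, 0, 2, 3, 4, 5, 6, 7, 3, 2, 4, 3, 5, 4, 7, 3, 2, 1, 9, 6, 5, 4, 3, 2], [1, 2, 3, 4, 5, 6, 7, 3, 2, 1, 4, 3, 5, 8, 7, 3, 2, 1, 4, 3, 2, 5, 4, 7, 3, 2, 8, 7, 9, 6, 5, 4, 3, 2, 1])] 1 0 2,
  .ref [(1, 0, [1, 0, 2, 3, 4, 5, 6, 7, 3, 2, 4, 3, 5, 4, 7, 3, 2, 1, 9, 6, 5, 4, 3, 2], [1, 2, 3, 4, 5, 6, 7, 3, 2, 1, 4, 3, 5, 8, 7, 3, 2, 1, 4, 3, 2, 5, 4, 3, 7, 3, 2, 1, 4, 8, 7, 3, 2, 9, 6, 5, 4])] 1 0 2,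
  .ref [(1, 0, [1, 0, 2, 3, 4, 5, 6, 7, 3, 2, 4, 3, 5, 4, 7, 3, 2, 1, 9, 6, 5, 4, 3, 2], [1, 2, 3, 4, 5, 6, 7, 3, 2, 1, 4, 3, 2, 5, 8, 7, 3, 2, 1, 4, 3, 2, 5, 4, 3, 7, 3, 4, 5, 8, 7, 3, 2, 9, 6, 5, 4])] 1 0 2,
  .ref [(1, 0, [1, 0, 2, 3, 4, 5, 6, 7, 3, 2, 4, 3, 5, 4, 7, 3, 2, 1, 9, 6, 5, 4, 3, 2], [1, 2, 3, 4, 5, 6, 7, 3, 2, 1, 4, 3, 2, 5, 8, 7, 3, 2, 1, 4, 3, 2, 5, 4, 6, 7, 3, 4, 5, 8, 7, 3, 4, 9, 6, 5, 4])] 1 0 2,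
  .ref [(1, 0, [1, 0, 2, 3, 4, 5, 6, 7, 3, 2, 4, 3, 5, 4, 7, 3, 2, 1, 9, 6, 5, 4, 3, 2], [1, 2, 3, 4, 5, 6, 7, 3, 2, 1, 4, 3, 2, 5, 8, 7, 3, 2, 1, 4, 3, 2, 5, 4, 6, 7, 3, 4, 5, 8, 7, 3, 2, 9, 6, 5, 4])] 1 0 2,
  .ref [(1, 0, [1, 0, 2, 3, 4, 5, 6, 7, 3, 2, 4, 3, 5, 4, 7, 3, 2, 1, 9, 6, 5, 4, 3, 2], [1, 2, 3, 4, 5, 6, 7, 3, 2, 1, 4, 3, 5, 8, 7, 3, 2, 1, 4, 3, 2, 5, 4, 7, 3, 2, 1, 4, 8, 7, 3, 2, 9, 6, 5, 4, 3])] 1 0 2,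
  .ref [(1, 0, [1, 0, 2, 3, 4, 5, 6, 7, 3, 2, 4, 3, 5, 4, 7, 3, 2, 1, 9, 6, 5, 4, 3, 2], [1, 2, 3, 4, 5, 6, 7, 3, 2, 1, 4, 3, 2, 5, 8, 7, 3, 2, 1, 4, 3, 2, 5, 4, 3, 7, 3, 4, 8, 7, 3, 2, 1, 9, 6, 5, 4])] 1 0 2,
  .ref [(1, 0, [1, 0, 2, 3, 4, 5, 6, 7, 3, 2, 4, 3, 5, 4, 7, 3, 2, 1, 9, 6, 5, 4, 3, 2], [1, 2, 3, 4, 5, 6, 7, 3, 2, 1, 4, 3, 2, 5, 8, 7, 3, 2, 1, 4, 3, 2, 5, 4, 7, 3, 2, 4, 5, 8, 7, 3, 4, 9, 6, 5, 4])] 1 0 2,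
  .ref [(1, 0, [1, 0, 2, 3, 4, 5, 6, 7, 3, 2, 4, 3, 5, 4, 7, 3, 2, 1, 9, 6, 5, 4, 3, 2], [1, 2, 3, 4, 5, 6, 7, 3, 2, 1, 4, 3, 2, 5, 8, 7, 3, 2, 1, 4, 3, 2, 5, 4, 7, 3, 4, 5, 8, 7, 3, 2, 9, 6, 5, 4, 3])] 1 0 2,
  .ref [(1, 0, [1, 0, 2, 3, 4, 5, 6, 7, 3, 2, 4, 3, 5, 4, 7, 3, 2, 1, 9, 6, 5, 4, 3, 2], [1, 2, 3, 4, 5, 6, 7, 3, 2, 1, 4, 3, 2, 5, 8, 7, 3, 2, 1, 0, 4, 3, 2, 5, 4, 3, 7, 3, 4, 8, 7, 3, 2, 9, 6, 5, 4])] 1 0 2,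
  .ref [(1, 0, [1, 0, 2, 3, 4, 5, 6, 7, 3, 2, 4, 3, 5, 4, 7, 3, 2, 1, 9, 6, 5, 4, 3, 2], [1, 2, 3, 4, 5, 6, 7, 3, 2, 1, 4, 3, 2, 5, 4, 7, 8, 7, 3, 2, 1, 4, 3, 2, 5, 4, 3, 7, 3, 2, 8, 7, 3, 4, 9, 6, 5, 4, 3])] 1 0 2,
  .ref [(1, 0, [1, 0, 2, 3, 4, 5, 6, 7, 3, 2, 4, 3, 5, 4, 7, 3, 2, 1, 9, 6, 5, 4, 3, 2], [1, 2, 3, 4, 5, 6, 7, 3, 2, 1, 4, 3, 2, 5, 4, 7, 8, 7, 3, 2, 1, 4, 3, 2, 5, 4, 3, 7, 3, 4, 8, 7, 3, 2, 9, 6, 5, 4, 3])] 1 0 2,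
  .ref [(1, 0, [1, 0, 2, 3, 4, 5, 6, 7, 3, 2, 4, 3, 5, 4, 7, 3, 2, 1, 9, 6, 5, 4, 3, 2], [1, 2, 3, 4, 5, 6, 7, 3, 2, 1, 4, 3, 2, 5, 8, 7, 3, 2, 1, 0, 4, 3, 2, 5, 4, 7, 3, 4, 8, 7, 3, 2, 9, 6, 5, 4, 3])] 1 0 2,
  .ref [(1, 0, [1, 0, 2, 3, 4, 5, 6, 7, 3, 2, 4, 3, 5, 4, 7, 3, 2, 1, 9, 6, 5, 4, 3, 2], [1, 2, 3, 4, 5, 6, 7, 3, 2, 1, 4, 3, 2, 5, 4, 7, 8, 7, 3, 2, 1, 4, 3, 2, 5, 4, 7, 3, 2, 4, 8, 7, 3, 4, 9, 6, 5, 4, 3])] 1 0 2,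
  .ref [(1, 0, [1, 0, 2, 3, 4, 5, 6, 7, 3, 2, 4, 3, 5, 4, 7, 3, 2, 1, 9, 6, 5, 4, 3, 2], [1, 2, 3, 4, 5, 6, 7, 3, 2, 1, 4, 3, 2, 5, 4, 7, 8, 7, 3, 2, 1, 4, 3, 2, 5, 4, 7, 3, 2, 8, 7, 3, 4, 5, 9, 6, 5, 4, 3])] 1 0 2,
  .ref [(1, 0, [1, 0, 2, 3, 4, 5, 6, 7, 3, 2, 4, 3, 5, 4, 7, 3, 2, 1, 9, 6, 5, 4, 3, 2], [1, 2, 3, 4, 5, 6, 7, 3, 2, 1, 4, 3, 2, 5, 8, 7, 3, 2, 1, 0, 4, 3, 2, 5, 4, 7, 3, 2, 4, 8, 7, 3, 2, 9, 6, 5, 4])] 1 0 2,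
  .ref [(1, 0, [1, 0, 2, 3, 4, 5, 6, 7, 3, 2, 4, 3, 5, 4, 7, 3, 2, 1, 9, 6, 5, 4, 3, 2], [1, 2, 3, 4, 5, 6, 7, 3, 2, 1, 4, 3, 2, 5, 4, 7, 8, 7, 3, 2, 1, 4, 3, 2, 5, 4, 7, 3, 2, 4, 8, 7, 3, 2, 9, 6, 5, 4, 3])] 1 0 2,
  .ref [(1, 0, [1, 0, 2, 3, 4, 5, 6, 7, 3, 2, 4, 3, 5, 4, 7, 3, 2, 1, 9, 6, 5, 4, 3, 2], [1, 2, 3, 4, 5, 6, 7, 3, 2, 1, 4, 3, 5, 8, 7, 3, 2, 1, 4, 3, 2, 5, 4, 3, 7, 3, 8, 7, 9, 6, 5, 4, 3, 2, 1])] 1 0 2,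
  .ref [(1, 0, [1, 0, 2, 3, 4, 5, 6, 7, 3, 2, 4, 3, 5, 4, 7, 3, 2, 1, 9, 6, 5, 4, 3, 2], [1, 2, 3, 4, 5, 6, 7, 3, 2, 1, 4, 3, 5, 8, 7, 3, 2, 1, 4, 3, 2, 5, 4, 7, 3, 8, 7, 9, 6, 5, 4, 3, 2, 1, 0])] 1 0 2,
  .ref [(1, 0, [1, 0, 2, 3, 4, 5, 6, 7, 3, 2, 4, 3, 5, 4, 7, 3, 2, 1, 9, 6, 5, 4, 3, 2], [1, 2, 3, 4, 5, 6, 7, 3, 2, 1, 4, 3, 5, 7, 8, 7, 3, 2, 1, 0, 4, 3, 2, 5, 4, 7, 3, 8, 7, 9, 6, 5, 4, 3, 2, 1, 0])] 1 0 2,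
  .ref [(1, 0, [1, 0, 2, 3, 4, 5, 6, 7, 3, 2, 4, 3, 5, 4, 7, 3, 2, 1, 9, 6, 5, 4, 3, 2], [1, 2, 3, 4, 5, 6, 7, 3, 2, 1, 4, 3, 5, 7, 8, 7, 3, 2, 1, 4, 3, 2, 5, 4, 3, 7, 3, 8, 7, 9, 6, 5, 4, 3, 2, 1, 0])] 1 0 2,
  .ref [(1, 0, [1, 0, 2, 3, 4, 5, 6, 7, 3, 2, 4, 3, 5, 4, 7, 3, 2, 1, 9, 6, 5, 4, 3, 2], [1, 2, 3, 4, 5, 6, 7, 3, 2, 1, 4, 3, 5, 7, 8, 7, 3, 2, 1, 4, 3, 2, 5, 4, 7, 3, 2, 8, 7, 9, 6, 5, 4, 3, 2, 1, 0])] 1 0 2,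
  .ref [(1, 0, [1, 0, 2, 3, 4, 5, 6, 7, 3, 2, 4, 3, 5, 4, 7, 3, 2, 1, 9, 6, 5, 4, 3, 2], [1, 2, 3, 4, 5, 6, 7, 3, 2, 1, 4, 3, 2, 5, 8, 7, 3, 2, 1, 0, 4, 3, 2, 5, 4, 3, 7, 3, 8, 7, 9, 6, 5, 4, 3, 2, 1])] 1 0 2,
  .ref [(1, 0, [1, 0, 2, 3, 4, 5, 6, 7, 3, 2, 4, 3, 5, 4, 7, 3, 2, 1, 9, 6, 5, 4, 3, 2], [1, 2, 3, 4, 5, 6, 7, 3, 2, 1, 4, 3, 2, 5, 8, 7, 3, 2, 1, 4, 3, 2, 5, 4, 6, 5, 7, 3, 8, 7, 9, 6, 5, 4, 3, 2, 1])] 1 0 2,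
  .ref [(1, 0, [1, 0, 2, 3, 4, 5, 6, 7, 3, 2, 4, 3, 5, 4, 7, 3, 2, 1, 9, 6, 5, 4, 3, 2], [1, 2, 3, 4, 5, 6, 7, 3, 2, 1, 4, 3, 5, 7, 8, 7, 3, 2, 1, 4, 3, 2, 5, 4, 6, 7, 3, 8, 7, 9, 6, 5, 4, 3, 2, 1, 0])] 1 0 2,
  .ref [(1, 0, [1, 0, 2, 3, 4, 5, 6, 7, 3, 2, 4, 3, 5, 4, 7, 3, 2, 1, 9, 6, 5, 4, 3, 2], [1, 2, 3, 4, 5, 6, 7, 3, 2, 1, 4, 3, 2, 5, 8, 7, 3, 2, 1, 4, 3, 2, 5, 4, 6, 7, 3, 4, 8, 7, 3, 2, 9, 6, 5, 4, 3])] 1 0 2,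
  .ref [(1, 0, [1, 0, 2, 3, 4, 5, 6, 7, 3, 2, 4, 3, 5, 4, 7, 3, 2, 1, 9, 6, 5, 4, 3, 2], [1, 2, 3, 4, 5, 6, 7, 3, 2, 1, 4, 3, 2, 5, 8, 7, 3, 2, 1, 4, 3, 2, 5, 4, 7, 3, 2, 4, 8, 7, 3, 2, 9, 6, 5, 4, 3])] 1 0 2,
  .ref [(1, 0, [1, 0, 2, 3, 4, 5, 6, 7, 3, 2, 4, 3, 5, 4, 7, 3, 2, 1, 9, 6, 5, 4, 3, 2], [1, 2, 3, 4, 5, 6, 7, 3, 2, 1, 4, 3, 2, 5, 8, 7, 3, 2, 1, 4, 3, 2, 5, 4, 3, 7, 3, 4, 8, 7, 3, 2, 9, 6, 5, 4, 3])] 1 0 2,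
  .ref [(1, 0, [1, 0, 2, 3, 4, 5, 6, 7, 3, 2, 4, 3, 5, 4, 7, 3, 2, 1, 9, 6, 5, 4, 3, 2], [1, 2, 3, 4, 5, 6, 7, 3, 2, 1, 4, 3, 2, 5, 8, 7, 3, 2, 1, 4, 3, 2, 5, 4, 7, 3, 4, 8, 7, 3, 2, 1, 9, 6, 5, 4, 3])] 1 0 2,
  .ref [(1, 0, [1, 0, 2, 3, 4, 5, 6, 7, 3, 2, 4, 3, 5, 4, 7, 3, 2, 1, 9, 6, 5, 4, 3, 2], [1, 2, 3, 4, 5, 6, 7, 3, 2, 1, 4, 3, 2, 5, 8, 7, 3, 2, 1, 0, 4, 3, 2, 5, 4, 7, 3, 2, 8, 7, 9, 6, 5, 4, 3, 2, 1])] 1 0 2,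
  .ref [(1, 0, [1, 0, 2, 3, 4, 5, 6, 7, 3, 2, 4, 3, 5, 4, 7, 3, 2, 1, 9, 6, 5, 4, 3, 2], [1, 2, 3, 4, 5, 6, 7, 3, 2, 1, 4, 3, 5, 8, 7, 3, 2, 1, 0, 4, 3, 2, 5, 4, 7, 3, 2, 8, 7, 9, 6, 5, 4, 3, 2, 1, 0])] 1 0 2,
  .ref [(1, 0, [1, 0, 2, 3, 4, 5, 6, 7, 3, 2, 4, 3, 5, 4, 7, 3, 2, 1, 9, 6, 5, 4, 3, 2], [1, 2, 3, 4, 5, 6, 7, 3, 2, 1, 4, 3, 2, 5, 8, 7, 3, 2, 1, 0, 4, 3, 2, 5, 4, 6, 7, 3, 8, 7, 9, 6, 5, 4, 3, 2, 1])] 1 0 2,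
  .ref [(1, 0, [1, 0, 2, 3, 4, 5, 6, 7, 3, 2, 4, 3, 5, 4, 7, 3, 2, 1, 9, 6, 5, 4, 3, 2], [1, 2, 3, 4, 5, 6, 7, 3, 2, 1, 4, 3, 2, 5, 8, 7, 3, 2, 1, 0, 4, 3, 2, 5, 4, 7, 3, 8, 7, 9, 6, 5, 4, 3, 2, 1, 0])] 1 0 2,
  .ref [(1, 0, [1, 0, 2, 3, 4, 5, 6, 7, 3, 2, 4, 3, 5, 4, 7, 3, 2, 1, 9, 6, 5, 4, 3, 2], [1, 2, 3, 4, 5, 6, 7, 3, 2, 1, 4, 3, 2, 5, 8, 7, 3, 2, 1, 4, 3, 2, 5, 4, 3, 7, 3, 8, 7, 9, 6, 5, 4, 3, 2, 1])] 1 0 2,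
  .ref [(1, 0, [1, 0, 2, 3, 4, 5, 6, 7, 3, 2, 4, 3, 5, 4, 7, 3, 2, 1, 9, 6, 5, 4, 3, 2], [1, 2, 3, 4, 5, 6, 7, 3, 2, 1, 4, 3, 2, 5, 8, 7, 3, 2, 1, 4, 3, 2, 5, 4, 7, 3, 2, 8, 7, 9, 6, 5, 4, 3, 2, 1])] 1 0 2,
  .ref [(1, 0, [1, 0, 2, 3, 4, 5, 6, 7, 3, 2, 4, 3, 5, 4, 7, 3, 2, 1, 9, 6, 5, 4, 3, 2], [1, 2, 3, 4, 5, 6, 7, 3, 2, 1, 4, 3, 2, 5, 8, 7, 3, 2, 1, 4, 3, 2, 5, 4, 7, 3, 8, 7, 9, 6, 5, 4, 3, 2, 1, 0])] 1 0 2,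
  .ref [(1, 0, [1, 0, 2, 3, 4, 5, 6, 7, 3, 2, 4, 3, 5, 4, 7, 3, 2, 1, 9, 6, 5, 4, 3, 2], [1, 2, 3, 4, 5, 6, 7, 3, 2, 1, 4, 3, 2, 5, 8, 7, 3, 2, 1, 4, 3, 2, 5, 4, 6, 7, 3, 8, 7, 9, 6, 5, 4, 3, 2, 1])] 1 0 2,
  .ref [(1, 0, [1, 0, 2, 3, 4, 5, 6, 7, 3, 2, 4, 3, 5, 4, 7, 3, 2, 1, 9, 6, 5, 4, 3, 2], [1, 2, 3, 4, 5, 6, 7, 3, 2, 1, 4, 3, 2, 5, 8, 7, 3, 2, 1, 4, 3, 2, 5, 4, 7, 3, 4, 8, 7, 3, 2, 9, 6, 5, 4, 3])] 1 0 2,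
  .ref [(1, 0, [1, 0, 2, 3, 4, 5, 6, 7, 3, 2, 4, 3, 5, 4, 7, 3, 2, 1, 9, 6, 5, 4, 3, 2], [1, 2, 3, 4, 5, 6, 7, 3, 2, 1, 4, 3, 2, 5, 7, 8, 7, 3, 2, 1, 0, 4, 3, 2, 5, 4, 7, 3, 8, 7, 9, 6, 5, 4, 3, 2, 1, 0])] 1 0 2,
  .ref [(1, 0, [1, 0, 2, 3, 4, 5, 6, 7, 3, 2, 4, 3, 5, 4, 7, 3, 2, 1, 9, 6, 5, 4, 3, 2], [1, 2, 3, 4, 5, 6, 7, 3, 2, 1, 4, 3, 2, 5, 7, 8, 7, 3, 2, 1, 4, 3, 2, 5, 4, 3, 7, 3, 8, 7, 9, 6, 5, 4, 3, 2, 1, 0])] 1 0 2,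
  .ref [(1, 0, [1, 0, 2, 3, 4, 5, 6, 7, 3, 2, 4, 3, 5, 4, 7, 3, 2, 1, 9, 6, 5, 4, 3, 2], [1, 2, 3, 4, 5, 6, 7, 3, 2, 1, 4, 3, 5, 8, 7, 3, 2, 1, 4, 3, 2, 5, 4, 3, 7, 3, 2, 8, 7, 9, 6, 5, 4, 3, 2, 1])] 1 0 2,
  .ref [(1, 0, [1, 0, 2, 3, 4, 5, 6, 7, 3, 2, 4, 3, 5, 4, 7, 3, 2, 1, 9, 6, 5, 4, 3, 2], [1, 2, 3, 4, 5, 6, 7, 3, 2, 1, 4, 3, 5, 8, 7, 3, 2, 1, 4, 3, 2, 5, 4, 6, 7, 3, 8, 7, 9, 6, 5, 4, 3, 2, 1, 0])] 1 0 2,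
  .ref [(1, 0, [1, 0, 2, 3, 4, 5, 6, 7, 3, 2, 4, 3, 5, 4, 7, 3, 2, 1, 9, 6, 5, 4, 3, 2], [1, 2, 3, 4, 5, 6, 7, 3, 2, 1, 4, 3, 5, 8, 7, 3, 2, 1, 4, 3, 2, 5, 4, 7, 3, 2, 8, 7, 9, 6, 5, 4, 3, 2, 1, 0])] 1 0 2,
  .ref [(1, 0, [1, 0, 2, 3, 4, 5, 6, 7, 3, 2, 4, 3, 5, 4, 7, 3, 2, 1, 9, 6, 5, 4, 3, 2], [1, 2, 3, 4, 5, 6, 7, 3, 2, 1, 4, 3, 5, 8, 7, 3, 2, 1, 4, 3, 2, 5, 4, 3, 7, 3, 2, 1, 4, 8, 7, 3, 2, 9, 6, 5, 4, 3])] 1 0 2,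
  .ref [(1, 0, [1, 0, 2, 3, 4, 5, 6, 7, 3, 2, 4, 3, 5, 4, 7, 3, 2, 1, 9, 6, 5, 4, 3, 2], [1, 2, 3, 4, 5, 6, 7, 3, 2, 1, 4, 3, 2, 5, 8, 7, 3, 2, 1, 4, 3, 2, 5, 4, 3, 7, 3, 4, 5, 8, 7, 3, 2, 9, 6, 5, 4, 3])] 1 0 2,
  .ref [(1, 0, [1, 0, 2, 3, 4, 5, 6, 7, 3, 2, 4, 3, 5, 4, 7, 3, 2, 1, 9, 6, 5, 4, 3, 2], [1, 2, 3, 4, 5, 6, 7, 3, 2, 1, 4, 3, 2, 5, 8, 7, 3, 2, 1, 4, 3, 2, 5, 4, 6, 7, 3, 4, 5, 8, 7, 3, 2, 9, 6, 5, 4, 3])] 1 0 2,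
  .ref [(1, 0, [1, 0, 2, 3, 4, 5, 6, 7, 3, 2, 4, 3, 5, 4, 7, 3, 2, 1, 9, 6, 5, 4, 3, 2], [1, 2, 3, 4, 5, 6, 7, 3, 2, 1, 4, 3, 2, 5, 8, 7, 3, 2, 1, 4, 3, 2, 5, 4, 6, 7, 3, 4, 5, 8, 7, 3, 4, 9, 6, 5, 4, 3])] 1 0 2,
  .ref [(1, 0, [1, 0, 2, 3, 4, 5, 6, 7, 3, 2, 4, 3, 5, 4, 7, 3, 2, 1, 9, 6, 5, 4, 3, 2], [1, 2, 3, 4, 5, 6, 7, 3, 2, 1, 4, 3, 2, 5, 8, 7, 3, 2, 1, 4, 3, 2, 5, 4, 7, 3, 2, 4, 5, 8, 7, 3, 4, 9, 6, 5, 4, 3])] 1 0 2,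
  .ref [(1, 0, [1, 0, 2, 3, 4, 5, 6, 7, 3, 2, 4, 3, 5, 4, 7, 3, 2, 1, 9, 6, 5, 4, 3, 2], [1, 2, 3, 4, 5, 6, 7, 3, 2, 1, 4, 3, 2, 5, 8, 7, 3, 2, 1, 4, 3, 2, 5, 4, 3, 7, 3, 4, 8, 7, 3, 2, 1, 9, 6, 5, 4, 3])] 1 0 2,
  .ref [(1, 0, [1, 0, 2, 3, 4, 5, 6, 7, 3, 2, 4, 3, 5, 4, 7, 3, 2, 1, 9, 6, 5, 4, 3, 2], [1, 2, 3, 4, 5, 6, 7, 3, 2, 1, 4, 3, 2, 5, 8, 7, 3, 2, 1, 0, 4, 3, 2, 5, 4, 3, 7, 3, 4, 8, 7, 3, 2, 9, 6, 5, 4, 3])] 1 0 2,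
  .ref [(1, 0, [1, 0, 2, 3, 4, 5, 6, 7, 3, 2, 4, 3, 5, 4, 7, 3, 2, 1, 9, 6, 5, 4, 3, 2], [1, 2, 3, 4, 5, 6, 7, 3, 2, 1, 4, 3, 2, 5, 8, 7, 3, 2, 1, 0, 4, 3, 2, 5, 4, 7, 3, 2, 4, 8, 7, 3, 2, 9, 6, 5, 4, 3])] 1 0 2,
  .ref [(1, 0, [1, 0, 2, 3, 4, 5, 6, 7, 3, 2, 4, 3, 5, 4, 7, 3, 2, 1, 9, 6, 5, 4, 3, 2], [1, 2, 3, 4, 5, 6, 7, 3, 2, 1, 4, 3, 5, 8, 7, 3, 2, 1, 4, 3, 2, 5, 4, 3, 7, 3, 8, 7, 9, 6, 5, 4, 3, 2, 1, 0])] 1 0 2,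
  .ref [(1, 0, [1, 0, 2, 3, 4, 5, 6, 7, 3, 2, 4, 3, 5, 4, 7, 3, 2, 1, 9, 6, 5, 4, 3, 2], [1, 2, 3, 4, 5, 6, 7, 3, 2, 1, 4, 3, 2, 5, 8, 7, 3, 2, 1, 0, 4, 3, 2, 5, 4, 3, 7, 3, 8, 7, 9, 6, 5, 4, 3, 2, 1, 0])] 1 0 2,
  .ref [(1, 0, [1, 0, 2, 3, 4, 5, 6, 7, 3, 2, 4, 3, 5, 4, 7, 3, 2, 1, 9, 6, 5, 4, 3, 2], [1, 2, 3, 4, 5, 6, 7, 3, 2, 1, 4, 3, 2, 5, 8, 7, 3, 2, 1, 4, 3, 2, 5, 4, 6, 5, 7, 3, 8, 7, 9, 6, 5, 4, 3, 2, 1, 0])] 1 0 2,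
  .ref [(1, 0, [1, 0, 2, 3, 4, 5, 6, 7, 3, 2, 4, 3, 5, 4, 7, 3, 2, 1, 9, 6, 5, 4, 3, 2], [1, 2, 3, 4, 5, 6, 7, 3, 2, 1, 4, 3, 2, 5, 8, 7, 3, 2, 1, 0, 4, 3, 2, 5, 4, 7, 3, 2, 8, 7, 9, 6, 5, 4, 3, 2, 1, 0])] 1 0 2,
  .ref [(1, 0, [1, 0, 2, 3, 4, 5, 6, 7, 3, 2, 4, 3, 5, 4, 7, 3, 2, 1, 9, 6, 5, 4, 3, 2], [1, 2, 3, 4, 5, 6, 7, 3, 2, 1, 4, 3, 2, 5, 8, 7, 3, 2, 1, 0, 4, 3, 2, 5, 4, 6, 7, 3, 8, 7, 9, 6, 5, 4, 3, 2, 1, 0])] 1 0 2,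
  .ref [(1, 0, [1, 0, 2, 3, 4, 5, 6, 7, 3, 2, 4, 3, 5, 4, 7, 3, 2, 1, 9, 6, 5, 4, 3, 2], [1, 2, 3, 4, 5, 6, 7, 3, 2, 1, 4, 3, 2, 5, 8, 7, 3, 2, 1, 4, 3, 2, 5, 4, 3, 7, 3, 8, 7, 9, 6, 5, 4, 3, 2, 1, 0])] 1 0 2,
  .ref [(1, 0, [1, 0, 2, 3, 4, 5, 6, 7, 3, 2, 4, 3, 5, 4, 7, 3, 2, 1, 9, 6, 5, 4, 3, 2], [1, 2, 3, 4, 5, 6, 7, 3, 2, 1, 4, 3, 2, 5, 8, 7, 3, 2, 1, 4, 3, 2, 5, 4, 7, 3, 2, 8, 7, 9, 6, 5, 4, 3, 2, 1, 0])] 1 0 2,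
  .ref [(1, 0, [1, 0, 2, 3, 4, 5, 6, 7, 3, 2, 4, 3, 5, 4, 7, 3, 2, 1, 9, 6, 5, 4, 3, 2], [1, 2, 3, 4, 5, 6, 7, 3, 2, 1, 4, 3, 2, 5, 8, 7, 3, 2, 1, 4, 3, 2, 5, 4, 6, 7, 3, 8, 7, 9, 6, 5, 4, 3, 2, 1, 0])] 1 0 2,
  .ref [(1, 0, [1, 0, 2, 3, 4, 5, 6, 7, 3, 2, 4, 3, 5, 4, 7, 3, 2, 1, 9, 6, 5, 4, 3, 2], [1, 2, 3, 4, 5, 6, 7, 3, 2, 1, 4, 3, 5, 8, 7, 3, 2, 1, 4, 3, 2, 5, 4, 3, 7, 3, 2, 8, 7, 9, 6, 5, 4, 3, 2, 1, 0])] 1 0 2]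

def cases2 : List Case := [
  .ref [] 1 1 2,
  .tr [],
  .tr [12, 11, 7, 7, 5, 5, 4, 4, 3, 2, 1, 1],
  .tr [11, 8, 7, 7, 6, 5, 5, 4, 4, 3, 3, 2],
  .ref [(2, 1, [1, 0, 2, 1, 3, 4, 5, 6, 7, 3, 4, 5, 8, 7, 3, 2, 4, 3, 7, 9, 6, 5, 4, 3, 2], [1, 2, 3, 4, 5, 6, 7, 3, 2, 1, 4, 3, 2, 5, 4, 3, 8, 7, 9, 6, 5])] 1 1 3,
  .tr [12, 8, 7, 7, 6, 5, 5, 4, 3, 3, 1, 0],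
  .ref [(2, 1, [1, 0, 2, 1, 3, 4, 5, 6, 7, 3, 4, 5, 8, 7, 3, 2, 4, 3, 7, 9, 6, 5, 4, 3, 2], [1, 2, 3, 4, 5, 6, 7, 3, 2, 1, 4, 3, 2, 5, 4, 3, 8, 7, 9, 6, 5, 4])] 1 1 3,
  .ref [(2, 1, [1, 0, 2, 1, 3, 4, 5, 6, 7, 3, 4, 5, 8, 7, 3, 2, 4, 3, 7, 9, 6, 5, 4, 3, 2], [1, 2, 3, 4, 5, 6, 7, 3, 2, 1, 4, 3, 2, 5, 4, 3, 8, 7, 3, 9, 6, 5])] 1 1 3,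
  .tr [11, 7, 6, 6, 5, 4, 3, 2, 2],
  .ref [(2, 0, [1, 0, 2, 1, 3, 4, 5, 6, 7, 3, 4, 5, 8, 7, 3, 2, 4, 3, 7, 9, 6, 5, 4, 3, 2], [1, 0, 2, 3, 4, 5, 6, 7, 3, 2, 4, 3, 5, 4, 8, 7, 3, 2, 9, 6, 5, 4, 3, 7])] 1 0 3,
  .ref [(2, 1, [1, 0, 2, 1, 3, 4, 5, 6, 7, 3, 4, 5, 8, 7, 3, 2, 4, 3, 7, 9, 6, 5, 4, 3, 2], [1, 2, 3, 4, 5, 6, 7, 3, 2, 1, 4, 3, 2, 5, 4, 3, 8, 7, 9, 6, 5, 4, 3])] 1 1 3,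
  .ref [(2, 1, [1, 0, 2, 1, 3, 4, 5, 6, 7, 3, 4, 5, 8, 7, 3, 2, 4, 3, 7, 9, 6, 5, 4, 3, 2], [1, 2, 3, 4, 5, 6, 7, 3, 2, 1, 4, 3, 2, 5, 4, 3, 8, 7, 3, 9, 6, 5, 4])] 1 1 3,
  .ref [(2, 0, [1, 0, 2, 1, 3, 4, 5, 6, 7, 3, 4, 5, 8, 7, 3, 2, 4, 3, 7, 9, 6, 5, 4, 3, 2], [1, 2, 3, 4, 5, 6, 7, 3, 2, 4, 3, 5, 4, 8, 7, 3, 2, 9, 6, 5, 4, 3, 7])] 1 0 3,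
  .ref [(2, 0, [1, 0, 2, 1, 3, 4, 5, 6, 7, 3, 4, 5, 8, 7, 3, 2, 4, 3, 7, 9, 6, 5, 4, 3, 2], [1, 0, 2, 3, 4, 5, 6, 7, 3, 2, 4, 3, 5, 4, 8, 7, 3, 2, 1, 9, 6, 5, 4, 3, 7])] 1 0 3,
  .ref [(2, 1, [1, 0, 2, 1, 3, 4, 5, 6, 7, 3, 4, 5, 8, 7, 3, 2, 4, 3, 7, 9, 6, 5, 4, 3, 2], [1, 2, 3, 4, 5, 6, 7, 3, 2, 1, 4, 3, 2, 5, 4, 3, 8, 7, 3, 9, 6, 5, 4, 3])] 1 1 3,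
  .ref [(2, 0, [1, 0, 2, 1, 3, 4, 5, 6, 7, 3, 4, 5, 8, 7, 3, 2, 4, 3, 7, 9, 6, 5, 4, 3, 2], [1, 2, 3, 4, 5, 6, 7, 3, 2, 4, 3, 5, 4, 8, 7, 3, 2, 1, 9, 6, 5, 4, 3, 7])] 1 0 3,
  .ref [(2, 0, [1, 0, 2, 1, 3, 4, 5, 6, 7, 3, 4, 5, 8, 7, 3, 2, 4, 3, 7, 9, 6, 5, 4, 3, 2], [1, 2, 3, 4, 5, 6, 7, 3, 4, 5, 8, 7, 3, 2, 4, 3, 7, 8, 9, 6, 5, 4, 3, 7])] 1 0 3,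
  .ref [(2, 0, [1, 0, 2, 1, 3, 4, 5, 6, 7, 3, 4, 5, 8, 7, 3, 2, 4, 3, 7, 9, 6, 5, 4, 3, 2], [1, 2, 3, 4, 5, 6, 7, 3, 2, 4, 3, 5, 4, 8, 7, 3, 2, 1, 0, 9, 6, 5, 4, 3, 7])] 1 0 3,
  .tr [12, 11, 8, 7, 5, 4, 3, 3, 2, 2, 1],
  .ref [(2, 1, [1, 0, 2, 1, 3, 4, 5, 6, 7, 3, 4, 5, 8, 7, 3, 2, 4, 3, 7, 9, 6, 5, 4, 3, 2], [1, 2, 3, 4, 5, 6, 7, 3, 2, 1, 4, 3, 2, 5, 4, 3, 8, 7, 3, 4, 5, 9])] 1 1 3,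
  .tr [12, 7, 6, 6, 5, 4, 4, 3, 1, 1, 0, 0],
  .ref [(2, 1, [1, 0, 2, 1, 3, 4, 5, 6, 7, 3, 4, 5, 8, 7, 3, 2, 4, 3, 7, 9, 6, 5, 4, 3, 2], [1, 2, 3, 4, 5, 6, 7, 3, 2, 1, 4, 3, 2, 5, 4, 3, 8, 7, 3, 4, 5, 9, 6])] 1 1 3,
  .ref [(2, 1, [1, 0, 2, 1, 3, 4, 5, 6, 7, 3, 4, 5, 8, 7, 3, 2, 4, 3, 7, 9, 6, 5, 4, 3, 2], [1, 2, 3, 4, 5, 6, 7, 3, 2, 1, 4, 3, 2, 5, 4, 3, 8, 7, 3, 4, 5])] 1 1 3,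
  .ref [(2, 1, [1, 0, 2, 1, 3, 4, 5, 6, 7, 3, 4, 5, 8, 7, 3, 2, 4, 3, 7, 9, 6, 5, 4, 3, 2], [1, 2, 3, 4, 5, 6, 7, 3, 2, 1, 4, 3, 2, 5, 4, 3, 8, 7, 3, 4, 5, 6, 9, 6])] 1 1 3,
  .ref [(2, 1, [1, 0, 2, 1, 3, 4, 5, 6, 7, 3, 4, 5, 8, 7, 3, 2, 4, 3, 7, 9, 6, 5, 4, 3, 2], [1, 2, 3, 4, 5, 6, 7, 3, 2, 1, 4, 3, 2, 5, 4, 3, 8, 7, 3, 4, 5, 6])] 1 1 3,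
  .ref [(2, 1, [1, 0, 2, 1, 3, 4, 5, 6, 7, 3, 4, 5, 8, 7, 3, 2, 4, 3, 7, 9, 6, 5, 4, 3, 2], [1, 2, 3, 4, 5, 6, 7, 3, 2, 1, 4, 3, 2, 5, 4, 3, 8, 7, 3, 4, 5, 6, 9])] 1 1 3,
  .ref [(2, 1, [1, 0, 2, 1, 3, 4, 5, 6, 7, 3, 4, 5, 8, 7, 3, 2, 4, 3, 7, 9, 6, 5, 4, 3, 2], [1, 0, 2, 1, 3, 2, 4, 3, 5, 4, 6, 5, 9])] 1 1 3,
  .ref [(2, 1, [1, 0, 2, 1, 3, 4, 5, 6, 7, 3, 4, 5, 8, 7, 3, 2, 4, 3, 7, 9, 6, 5, 4, 3, 2], [1, 0, 2, 1, 3, 2, 4])] 1 1 3,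
  .ref [(2, 0, [1, 0, 2, 1, 3, 4, 5, 6, 7, 3, 4, 5, 8, 7, 3, 2, 4, 3, 7, 9, 6, 5, 4, 3, 2], [1, 2, 3, 4, 5, 6, 7, 3, 2, 1, 4, 3, 5, 4, 7, 8, 7, 3, 2, 1, 4, 3, 5, 4, 7, 9, 6, 5, 4, 3, 2, 7])] 1 0 3,
  .ref [(2, 1, [1, 0, 2, 1, 3, 4, 5, 6, 7, 3, 4, 5, 8, 7, 3, 2, 4, 3, 7, 9, 6, 5, 4, 3, 2], [1, 0, 2, 1, 3, 2, 4, 3, 5, 4, 6, 5, 9, 6])] 1 1 3,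
  .ref [(2, 1, [1, 0, 2, 1, 3, 4, 5, 6, 7, 3, 4, 5, 8, 7, 3, 2, 4, 3, 7, 9, 6, 5, 4, 3, 2], [1, 0, 2, 1, 3, 2, 4, 3, 5, 4, 6, 5])] 1 1 3,
  .ref [(2, 1, [1, 0, 2, 1, 3, 4, 5, 6, 7, 3, 4, 5, 8, 7, 3, 2, 4, 3, 7, 9, 6, 5, 4, 3, 2], [1, 0, 2, 1, 3, 2, 4, 3])] 1 1 3,
  .ref [(2, 1, [1, 0, 2, 1, 3, 4, 5, 6, 7, 3, 4, 5, 8, 7, 3, 2, 4, 3, 7, 9, 6, 5, 4, 3, 2], [1, 0, 2, 1, 3, 2])] 1 1 3,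
  .ref [(2, 0, [1, 0, 2, 1, 3, 4, 5, 6, 7, 3, 4, 5, 8, 7, 3, 2, 4, 3, 7, 9, 6, 5, 4, 3, 2], [1, 0])] 1 0 3,
  .tr [8],
  .ref [(2, 0, [1, 0, 2, 1, 3, 4, 5, 6, 7, 3, 4, 5, 8, 7, 3, 2, 4, 3, 7, 9, 6, 5, 4, 3, 2], [1, 2, 3, 4, 5, 6, 7, 3, 2, 1, 4, 3, 2, 5, 4, 7, 8, 7, 3, 2, 1, 4, 3, 5, 4, 7, 9, 6, 5, 4, 3, 2, 7])] 1 0 3,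
  .ref [(2, 0, [1, 0, 2, 1, 3, 4, 5, 6, 7, 3, 4, 5, 8, 7, 3, 2, 4, 3, 7, 9, 6, 5, 4, 3, 2], [1, 2, 3, 4, 5, 6, 7, 3, 2, 1, 4, 5, 8, 7, 3, 2, 1, 4, 3, 2, 5, 7, 3, 4, 9, 6, 5, 4, 3, 2, 7])] 1 0 3,
  .ref [(2, 0, [1, 0, 2, 1, 3, 4, 5, 6, 7, 3, 4, 5, 8, 7, 3, 2, 4, 3, 7, 9, 6, 5, 4, 3, 2], [1, 2, 3, 4, 5, 6, 7, 3, 2, 1, 4, 3, 5, 4, 7, 8, 7, 3, 2, 1, 4, 3, 5, 4, 7, 9, 6, 5, 4, 3, 2, 7, 3])] 1 0 3,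
  .ref [(2, 0, [1, 0, 2, 1, 3, 4, 5, 6, 7, 3, 4, 5, 8, 7, 3, 2, 4, 3, 7, 9, 6, 5, 4, 3, 2], [1, 2, 3, 4, 5, 6, 7, 3, 2, 1, 4, 3, 5, 4, 7, 8, 7, 3, 2, 1, 4, 3, 5, 4, 7, 9, 6, 5, 4, 3, 2, 1, 7])] 1 0 3,
  .ref [(2, 0, [1, 0, 2, 1, 3, 4, 5, 6, 7, 3, 4, 5, 8, 7, 3, 2, 4, 3, 7, 9, 6, 5, 4, 3, 2], [1, 2, 3, 4, 5, 6, 7, 3, 2, 1, 4, 3, 5, 4, 7, 8, 7, 3, 2, 1, 4, 3, 5, 4, 7, 3, 9, 6, 5, 4, 3, 2, 7])] 1 0 3,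
  .ref [(2, 0, [1, 0, 2, 1, 3, 4, 5, 6, 7, 3, 4, 5, 8, 7, 3, 2, 4, 3, 7, 9, 6, 5, 4, 3, 2], [1, 2, 3, 4, 5, 6, 7, 3, 2, 1, 4, 3, 5, 4, 7, 8, 7, 3, 2, 1, 4, 3, 5, 4, 7, 9, 6, 5, 4, 3, 2, 7, 8])] 1 0 3,
  .ref [(2, 0, [1, 0, 2, 1, 3, 4, 5, 6, 7, 3, 4, 5, 8, 7, 3, 2, 4, 3, 7, 9, 6, 5, 4, 3, 2], [1, 2, 3, 4, 5, 6, 7, 3, 2, 1, 4, 3, 5, 4, 7, 8, 7, 3, 2, 1, 4, 3, 5, 4, 6, 7, 9, 6, 5, 4, 3, 2, 7])] 1 0 3,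
  .ref [(2, 0, [1, 0, 2, 1, 3, 4, 5, 6, 7, 3, 4, 5, 8, 7, 3, 2, 4, 3, 7, 9, 6, 5, 4, 3, 2], [1])] 1 0 3,
  .ref [(2, 0, [1, 0, 2, 1, 3, 4, 5, 6, 7, 3, 4, 5, 8, 7, 3, 2, 4, 3, 7, 9, 6, 5, 4, 3, 2], [1, 2, 3, 4, 5, 6, 7, 3, 2, 1, 4, 5, 8, 7, 3, 2, 1, 4, 3, 2, 5, 7, 3, 4, 5, 9, 6, 5, 4, 3, 2, 7])] 1 0 3,
  .ref [(2, 0, [1, 0, 2, 1, 3, 4, 5, 6, 7, 3, 4, 5, 8, 7, 3, 2, 4, 3, 7, 9, 6, 5, 4, 3, 2], [1, 2, 3, 4, 5, 6, 7, 3, 2, 1, 4, 5, 8, 7, 3, 2, 1, 4, 3, 2, 5, 7, 3, 4, 9, 6, 5, 4, 3, 2, 7, 8])] 1 0 3,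
  .ref [(2, 0, [1, 0, 2, 1, 3, 4, 5, 6, 7, 3, 4, 5, 8, 7, 3, 2, 4, 3, 7, 9, 6, 5, 4, 3, 2], [1, 2, 3, 4, 5, 6, 7, 3, 2, 1, 4, 3, 2, 5, 4, 7, 8, 7, 3, 2, 1, 4, 3, 5, 4, 7, 9, 6, 5, 4, 3, 2, 1, 7])] 1 0 3,
  .ref [(2, 0, [1, 0, 2, 1, 3, 4, 5, 6, 7, 3, 4, 5, 8, 7, 3, 2, 4, 3, 7, 9, 6, 5, 4, 3, 2], [1, 2, 3, 4, 5, 6, 7, 3, 2, 1, 4, 3, 2, 5, 4, 7, 8, 7, 3, 2, 1, 4, 3, 5, 4, 7, 3, 9, 6, 5, 4, 3, 2, 7])] 1 0 3,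
  .ref [(2, 0, [1, 0, 2, 1, 3, 4, 5, 6, 7, 3, 4, 5, 8, 7, 3, 2, 4, 3, 7, 9, 6, 5, 4, 3, 2], [1, 2, 3, 4, 5, 6, 7, 3, 2, 1, 4, 5, 8, 7, 3, 2, 1, 4, 3, 2, 5, 7, 3, 4, 9, 6, 5, 4, 3, 2, 7, 3])] 1 0 3,
  .ref [(2, 0, [1, 0, 2, 1, 3, 4, 5, 6, 7, 3, 4, 5, 8, 7, 3, 2, 4, 3, 7, 9, 6, 5, 4, 3, 2], [1, 2, 3, 4, 5, 6, 7, 3, 2, 1, 4, 3, 5, 8, 7, 3, 2, 4, 3, 5, 4, 7, 3, 2, 1, 9, 6, 5, 4, 3, 2, 7])] 1 0 3,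
  .ref [(2, 0, [1, 0, 2, 1, 3, 4, 5, 6, 7, 3, 4, 5, 8, 7, 3, 2, 4, 3, 7, 9, 6, 5, 4, 3, 2], [1, 2, 3, 4, 5, 6, 7, 3, 2, 1, 4, 3, 5, 4, 7, 8, 7, 3, 2, 1, 4, 3, 2, 5, 4, 7, 3, 8, 7, 9])] 1 0 3,
  .ref [(2, 0, [1, 0, 2, 1, 3, 4, 5, 6, 7, 3, 4, 5, 8, 7, 3, 2, 4, 3, 7, 9, 6, 5, 4, 3, 2], [1, 2, 3, 4, 5, 6, 7, 3, 2, 1, 4, 5, 8, 7, 3, 2, 1, 4, 3, 2, 5, 7, 3, 4, 9, 6, 5, 4, 3, 2, 1, 7])] 1 0 3,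
  .ref [(2, 0, [1, 0, 2, 1, 3, 4, 5, 6, 7, 3, 4, 5, 8, 7, 3, 2, 4, 3, 7, 9, 6, 5, 4, 3, 2], [1, 2, 3, 4, 5, 6, 7, 3, 2, 1, 4, 5, 8, 7, 3, 2, 1, 4, 3, 2, 5, 4, 7, 3, 4, 9, 6, 5, 4, 3, 2, 7])] 1 0 3,
  .ref [(2, 0, [1, 0, 2, 1, 3, 4, 5, 6, 7, 3, 4, 5, 8, 7, 3, 2, 4, 3, 7, 9, 6, 5, 4, 3, 2], [1, 2, 3, 4, 5, 6, 7, 3, 2, 1, 4, 5, 8, 7, 3, 2, 1, 4, 3, 2, 5, 6, 7, 3, 4, 9, 6, 5, 4, 3, 2, 7])] 1 0 3,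
  .ref [(2, 0, [1, 0, 2, 1, 3, 4, 5, 6, 7, 3, 4, 5, 8, 7, 3, 2, 4, 3, 7, 9, 6, 5, 4, 3, 2], [1, 2, 3, 4, 5, 6, 7, 3, 2, 1, 4, 3, 5, 4, 7, 8, 7, 3, 2, 1, 4, 3, 5, 4, 7, 9, 6, 5, 4, 3, 2, 1, 7, 3])] 1 0 3,
  .ref [(2, 0, [1, 0, 2, 1, 3, 4, 5, 6, 7, 3, 4, 5, 8, 7, 3, 2, 4, 3, 7, 9, 6, 5, 4, 3, 2], [1, 2, 3, 4, 5, 6, 7, 3, 2, 1, 4, 3, 5, 4, 7, 8, 7, 3, 2, 1, 4, 3, 5, 4, 7, 9, 6, 5, 4, 3, 2, 7, 3, 4])] 1 0 3,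
  .ref [(2, 0, [1, 0, 2, 1, 3, 4, 5, 6, 7, 3, 4, 5, 8, 7, 3, 2, 4, 3, 7, 9, 6, 5, 4, 3, 2], [1, 2, 3, 4, 5, 6, 7, 3, 2, 1, 4, 3, 5, 4, 7, 8, 7, 3, 2, 1, 4, 3, 5, 4, 6, 7, 9, 6, 5, 4, 3, 2, 7, 3])] 1 0 3,
  .ref [(2, 0, [1, 0, 2, 1, 3, 4, 5, 6, 7, 3, 4, 5, 8, 7, 3, 2, 4, 3, 7, 9, 6, 5, 4, 3, 2], [1, 2, 3, 4, 5, 6, 7, 3, 2, 1, 4, 3, 5, 4, 7, 8, 7, 3, 2, 1, 4, 3, 5, 4, 7, 9, 6, 5, 4, 3, 2, 1, 0, 7])] 1 0 3,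
  .ref [(2, 0, [1, 0, 2, 1, 3, 4, 5, 6, 7, 3, 4, 5, 8, 7, 3, 2, 4, 3, 7, 9, 6, 5, 4, 3, 2], [1, 2, 3, 4, 5, 6, 7, 3, 2, 1, 4, 3, 5, 4, 7, 8, 7, 3, 2, 1, 4, 3, 5, 4, 6, 7, 9, 6, 5, 4, 3, 2, 7, 8])] 1 0 3,
  .ref [(2, 0, [1, 0, 2, 1, 3, 4, 5, 6, 7, 3, 4, 5, 8, 7, 3, 2, 4, 3, 7, 9, 6, 5, 4, 3, 2], [1, 2, 3, 4, 5, 6, 7, 3, 2, 1, 4, 3, 5, 4, 7, 8, 7, 3, 2, 1, 4, 3, 5, 4, 6, 7, 3, 9, 6, 5, 4, 3, 2, 7])] 1 0 3,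
  .ref [(2, 0, [1, 0, 2, 1, 3, 4, 5, 6, 7, 3, 4, 5, 8, 7, 3, 2, 4, 3, 7, 9, 6, 5, 4, 3, 2], [1, 2, 3, 4, 5, 6, 7, 3, 2, 1, 4, 3, 5, 4, 7, 8, 7, 3, 2, 1, 4, 3, 5, 4, 6, 7, 9, 6, 5, 4, 3, 2, 1, 7])] 1 0 3,
  .ref [(2, 0, [1, 0, 2, 1, 3, 4, 5, 6, 7, 3, 4, 5, 8, 7, 3, 2, 4, 3, 7, 9, 6, 5, 4, 3, 2], [1, 2, 3, 4, 5, 6, 7, 3, 2, 1, 4, 3, 5, 4, 7, 8, 7, 3, 2, 1, 4, 3, 5, 4, 7, 3, 9, 6, 5, 4, 3, 2, 7, 3])] 1 0 3,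
  .ref [(2, 0, [1, 0, 2, 1, 3, 4, 5, 6, 7, 3, 4, 5, 8, 7, 3, 2, 4, 3, 7, 9, 6, 5, 4, 3, 2], [1, 2, 3, 4, 5, 6, 7, 3, 2, 1, 4, 3, 2, 5, 8, 7, 3, 2, 4, 3, 5, 4, 6, 7, 3, 2, 1, 9, 6, 5, 4, 3, 2, 7])] 1 0 3,
  .ref [] 1 0 2,
  .ref [(2, 0, [1, 0, 2, 1, 3, 4, 5, 6, 7, 3, 4, 5, 8, 7, 3, 2, 4, 3, 7, 9, 6, 5, 4, 3, 2], [1, 2, 3, 4, 5, 6, 7, 3, 2, 1, 4, 5, 8, 7, 3, 2, 1, 4, 3, 2, 5, 7, 3, 4, 5, 9, 6, 5, 4, 3, 2, 1, 7])] 1 0 3,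
  .ref [(2, 0, [1, 0, 2, 1, 3, 4, 5, 6, 7, 3, 4, 5, 8, 7, 3, 2, 4, 3, 7, 9, 6, 5, 4, 3, 2], [1, 2, 3, 4, 5, 6, 7, 3, 2, 1, 4, 5, 8, 7, 3, 2, 1, 4, 3, 2, 5, 4, 7, 3, 4, 5, 9, 6, 5, 4, 3, 2, 7])] 1 0 3,
  .ref [(2, 0, [1, 0, 2, 1, 3, 4, 5, 6, 7, 3, 4, 5, 8, 7, 3, 2, 4, 3, 7, 9, 6, 5, 4, 3, 2], [1, 2, 3, 4, 5, 6, 7, 3, 2, 1, 4, 3, 5, 8, 7, 3, 2, 4, 3, 5, 4, 7, 3, 2, 1, 0, 9, 6, 5, 4, 3, 2, 7])] 1 0 3,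
  .ref [(2, 0, [1, 0, 2, 1, 3, 4, 5, 6, 7, 3, 4, 5, 8, 7, 3, 2, 4, 3, 7, 9, 6, 5, 4, 3, 2], [1, 2, 3, 4, 5, 6, 7, 3, 2, 1, 4, 5, 8, 7, 3, 2, 1, 4, 3, 2, 5, 7, 3, 4, 9, 6, 5, 4, 3, 2, 1, 7, 8])] 1 0 3,
  .ref [(2, 0, [1, 0, 2, 1, 3, 4, 5, 6, 7, 3, 4, 5, 8, 7, 3, 2, 4, 3, 7, 9, 6, 5, 4, 3, 2], [1, 2, 3, 4, 5, 6, 7, 3, 2, 1, 4, 5, 8, 7, 3, 2, 1, 4, 3, 2, 5, 4, 7, 3, 4, 9, 6, 5, 4, 3, 2, 7, 8])] 1 0 3,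
  .ref [(2, 0, [1, 0, 2, 1, 3, 4, 5, 6, 7, 3, 4, 5, 8, 7, 3, 2, 4, 3, 7, 9, 6, 5, 4, 3, 2], [1, 2, 3, 4, 5, 6, 7, 3, 2, 1, 4, 3, 5, 8, 7, 3, 2, 4, 3, 5, 4, 7, 3, 2, 1, 9, 6, 5, 4, 3, 2, 7, 3])] 1 0 3,
  .ref [(2, 0, [1, 0, 2, 1, 3, 4, 5, 6, 7, 3, 4, 5, 8, 7, 3, 2, 4, 3, 7, 9, 6, 5, 4, 3, 2], [1, 2, 3, 4, 5, 6, 7, 3, 2, 1, 4, 3, 2, 5, 4, 7, 8, 7, 3, 2, 1, 4, 3, 5, 4, 7, 9, 6, 5, 4, 3, 2, 1, 0, 7])] 1 0 3,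
  .ref [(2, 0, [1, 0, 2, 1, 3, 4, 5, 6, 7, 3, 4, 5, 8, 7, 3, 2, 4, 3, 7, 9, 6, 5, 4, 3, 2], [1, 2, 3, 4, 5, 6, 7, 3, 2, 1, 4, 3, 2, 5, 4, 7, 8, 7, 3, 2, 1, 4, 3, 5, 4, 7, 3, 9, 6, 5, 4, 3, 2, 1, 7])] 1 0 3,
  .ref [(2, 0, [1, 0, 2, 1, 3, 4, 5, 6, 7, 3, 4, 5, 8, 7, 3, 2, 4, 3, 7, 9, 6, 5, 4, 3, 2], [1, 2, 3, 4, 5, 6, 7, 3, 2, 1, 4, 5, 8, 7, 3, 2, 1, 4, 3, 2, 5, 7, 3, 4, 9, 6, 5, 4, 3, 2, 1, 7, 3])] 1 0 3,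
  .ref [(2, 0, [1, 0, 2, 1, 3, 4, 5, 6, 7, 3, 4, 5, 8, 7, 3, 2, 4, 3, 7, 9, 6, 5, 4, 3, 2], [1, 2, 3, 4, 5, 6, 7, 3, 2, 1, 4, 3, 5, 8, 7, 3, 2, 4, 3, 5, 4, 7, 3, 2, 1, 9, 6, 5, 4, 3, 2, 1, 7])] 1 0 3,
  .ref [(2, 0, [1, 0, 2, 1, 3, 4, 5, 6, 7, 3, 4, 5, 8, 7, 3, 2, 4, 3, 7, 9, 6, 5, 4, 3, 2], [1, 2, 3, 4, 5, 6, 7, 3, 2, 1, 4, 3, 2, 5, 4, 7, 8, 7, 3, 2, 1, 4, 3, 5, 4, 7, 3, 9, 6, 5, 4, 3, 2, 7, 3])] 1 0 3,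
  .ref [(2, 0, [1, 0, 2, 1, 3, 4, 5, 6, 7, 3, 4, 5, 8, 7, 3, 2, 4, 3, 7, 9, 6, 5, 4, 3, 2], [1, 2, 3, 4, 5, 6, 7, 3, 2, 1, 4, 5, 8, 7, 3, 2, 1, 4, 3, 2, 5, 7, 3, 4, 9, 6, 5, 4, 3, 2, 7, 3, 4])] 1 0 3,
  .ref [(2, 0, [1, 0, 2, 1, 3, 4, 5, 6, 7, 3, 4, 5, 8, 7, 3, 2, 4, 3, 7, 9, 6, 5, 4, 3, 2], [1, 2, 3, 4, 5, 6, 7, 3, 2, 1, 4, 3, 5, 4, 8, 7, 3, 2, 4, 3, 5, 4, 7, 3, 2, 1, 9, 6, 5, 4, 3, 2, 7])] 1 0 3,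
  .ref [(2, 0, [1, 0, 2, 1, 3, 4, 5, 6, 7, 3, 4, 5, 8, 7, 3, 2, 4, 3, 7, 9, 6, 5, 4, 3, 2], [1, 2, 3, 4, 5, 6, 7, 3, 2, 1, 4, 3, 5, 8, 7, 3, 2, 4, 3, 5, 4, 7, 3, 2, 1, 9, 6, 5, 4, 3, 2, 7, 8])] 1 0 3,
  .ref [(2, 0, [1, 0, 2, 1, 3, 4, 5, 6, 7, 3, 4, 5, 8, 7, 3, 2, 4, 3, 7, 9, 6, 5, 4, 3, 2], [1, 2, 3, 4, 5, 6, 7, 3, 2, 1, 4, 3, 2, 5, 8, 7, 3, 2, 4, 3, 5, 4, 7, 3, 2, 1, 9, 6, 5, 4, 3, 2, 7])] 1 0 3,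
  .ref [(2, 0, [1, 0, 2, 1, 3, 4, 5, 6, 7, 3, 4, 5, 8, 7, 3, 2, 4, 3, 7, 9, 6, 5, 4, 3, 2], [1, 2, 3, 4, 5, 6, 7, 3, 2, 1, 4, 3, 5, 7, 8, 7, 3, 2, 1, 4, 3, 2, 5, 4, 7, 3, 8, 7, 9])] 1 0 3,
  .ref [(2, 0, [1, 0, 2, 1, 3, 4, 5, 6, 7, 3, 4, 5, 8, 7, 3, 2, 4, 3, 7, 9, 6, 5, 4, 3, 2], [1, 2, 3, 4, 5, 6, 7, 3, 2, 1, 4, 3, 5, 4, 8, 7, 3, 2, 1, 4, 3, 2, 5, 4, 7, 3, 8, 7, 9])] 1 0 3,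
  .ref [(2, 0, [1, 0, 2, 1, 3, 4, 5, 6, 7, 3, 4, 5, 8, 7, 3, 2, 4, 3, 7, 9, 6, 5, 4, 3, 2], [1, 2, 3, 4, 5, 6, 7, 3, 2, 1, 4, 3, 5, 8, 7, 3, 2, 1, 4, 3, 2, 5, 4, 7, 3, 4, 8, 7, 9])] 1 0 3,
  .ref [(2, 0, [1, 0, 2, 1, 3, 4, 5, 6, 7, 3, 4, 5, 8, 7, 3, 2, 4, 3, 7, 9, 6, 5, 4, 3, 2], [1, 2, 3, 4, 5, 6, 7, 3, 2, 1, 4, 3, 5, 4, 7, 8, 7, 3, 2, 1, 4, 3, 2, 5, 4, 3, 7, 3, 8, 7, 9])] 1 0 3,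
  .ref [(2, 0, [1, 0, 2, 1, 3, 4, 5, 6, 7, 3, 4, 5, 8, 7, 3, 2, 4, 3, 7, 9, 6, 5, 4, 3, 2], [1, 2, 3, 4, 5, 6, 7, 3, 2, 1, 4, 3, 5, 4, 7, 8, 7, 3, 2, 1, 4, 3, 2, 5, 4, 7, 3, 8, 7, 9, 6])] 1 0 3,
  .ref [(2, 0, [1, 0, 2, 1, 3, 4, 5, 6, 7, 3, 4, 5, 8, 7, 3, 2, 4, 3, 7, 9, 6, 5, 4, 3, 2], [1, 2, 3, 4, 5, 6, 7, 3, 2, 1, 4, 3, 5, 8, 7, 3, 2, 1, 0, 4, 3, 2, 5, 4, 7, 3, 8, 7, 9])] 1 0 3,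
  .ref [(2, 0, [1, 0, 2, 1, 3, 4, 5, 6, 7, 3, 4, 5, 8, 7, 3, 2, 4, 3, 7, 9, 6, 5, 4, 3, 2], [1, 2, 3, 4, 5, 6, 7, 3, 2, 1, 4, 3, 5, 4, 7, 8, 7, 3, 2, 1, 4, 3, 2, 5, 4, 7, 3, 8, 7])] 1 0 3,
  .ref [(2, 0, [1, 0, 2, 1, 3, 4, 5, 6, 7, 3, 4, 5, 8, 7, 3, 2, 4, 3, 7, 9, 6, 5, 4, 3, 2], [1, 2, 3, 4, 5, 6, 7, 3, 2, 1, 4, 5, 8, 7, 3, 2, 1, 4, 3, 2, 5, 7, 3, 4, 9, 6, 5, 4, 3, 2, 1, 0, 7])] 1 0 3,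
  .ref [(2, 0, [1, 0, 2, 1, 3, 4, 5, 6, 7, 3, 4, 5, 8, 7, 3, 2, 4, 3, 7, 9, 6, 5, 4, 3, 2], [1, 2, 3, 4, 5, 6, 7, 3, 2, 1, 4, 5, 8, 7, 3, 2, 1, 4, 3, 2, 5, 4, 7, 3, 4, 9, 6, 5, 4, 3, 2, 1, 7])] 1 0 3,
  .ref [(2, 0, [1, 0, 2, 1, 3, 4, 5, 6, 7, 3, 4, 5, 8, 7, 3, 2, 4, 3, 7, 9, 6, 5, 4, 3, 2], [1, 2, 3, 4, 5, 6, 7, 3, 2, 1, 4, 5, 8, 7, 3, 2, 1, 4, 3, 2, 5, 6, 7, 3, 4, 9, 6, 5, 4, 3, 2, 1, 7])] 1 0 3,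
  .ref [(2, 0, [1, 0, 2, 1, 3, 4, 5, 6, 7, 3, 4, 5, 8, 7, 3, 2, 4, 3, 7, 9, 6, 5, 4, 3, 2], [1, 2, 3, 4, 5, 6, 7, 3, 2, 1, 4, 5, 8, 7, 3, 2, 1, 4, 3, 2, 5, 4, 7, 3, 4, 9, 6, 5, 4, 3, 2, 7, 3])] 1 0 3,
  .ref [(2, 0, [1, 0, 2, 1, 3, 4, 5, 6, 7, 3, 4, 5, 8, 7, 3, 2, 4, 3, 7, 9, 6, 5, 4, 3, 2], [1, 2, 3, 4, 5, 6, 7, 3, 2, 1, 4, 5, 8, 7, 3, 2, 1, 4, 3, 2, 5, 4, 6, 7, 3, 4, 9, 6, 5, 4, 3, 2, 7])] 1 0 3,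
  .ref [(2, 0, [1, 0, 2, 1, 3, 4, 5, 6, 7, 3, 4, 5, 8, 7, 3, 2, 4, 3, 7, 9, 6, 5, 4, 3, 2], [1, 2, 3, 4, 5, 6, 7, 3, 2, 1, 4, 5, 8, 7, 3, 2, 1, 4, 3, 2, 5, 6, 7, 3, 4, 5, 9, 6, 5, 4, 3, 2, 7])] 1 0 3,
  .ref [(2, 0, [1, 0, 2, 1, 3, 4, 5, 6, 7, 3, 4, 5, 8, 7, 3, 2, 4, 3, 7, 9, 6, 5, 4, 3, 2], [1, 2, 3, 4, 5, 6, 7, 3, 2, 1, 4, 3, 5, 4, 7, 8, 7, 3, 2, 1, 4, 3, 5, 4, 7, 9, 6, 5, 4, 3, 2, 1, 0, 7, 3])] 1 0 3,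
  .ref [(2, 0, [1, 0, 2, 1, 3, 4, 5, 6, 7, 3, 4, 5, 8, 7, 3, 2, 4, 3, 7, 9, 6, 5, 4, 3, 2], [1, 2, 3, 4, 5, 6, 7, 3, 2, 1, 4, 3, 5, 4, 7, 8, 7, 3, 2, 1, 4, 3, 5, 4, 7, 9, 6, 5, 4, 3, 2, 1, 7, 3, 4])] 1 0 3,
  .ref [(2, 0, [1, 0, 2, 1, 3, 4, 5, 6, 7, 3, 4, 5, 8, 7, 3, 2, 4, 3, 7, 9, 6, 5, 4, 3, 2], [1, 2, 3, 4, 5, 6, 7, 3, 2, 1, 4, 3, 5, 4, 7, 8, 7, 3, 2, 1, 4, 3, 5, 4, 6, 7, 9, 6, 5, 4, 3, 2, 1, 7, 3])] 1 0 3,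
  .ref [(2, 0, [1, 0, 2, 1, 3, 4, 5, 6, 7, 3, 4, 5, 8, 7, 3, 2, 4, 3, 7, 9, 6, 5, 4, 3, 2], [1, 2, 3, 4, 5, 6, 7, 3, 2, 1, 4, 3, 5, 4, 7, 8, 7, 3, 2, 1, 4, 3, 5, 4, 7, 3, 9, 6, 5, 4, 3, 2, 7, 3, 4])] 1 0 3,
  .ref [(2, 0, [1, 0, 2, 1, 3, 4, 5, 6, 7, 3, 4, 5, 8, 7, 3, 2, 4, 3, 7, 9, 6, 5, 4, 3, 2], [1, 2, 3, 4, 5, 6, 7, 3, 2, 1, 4, 3, 2, 5, 8, 7, 3, 2, 4, 3, 5, 4, 7, 3, 2, 1, 9, 6, 5, 4, 3, 2, 1, 0, 7])] 1 0 3,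
  .ref [(2, 0, [1, 0, 2, 1, 3, 4, 5, 6, 7, 3, 4, 5, 8, 7, 3, 2, 4, 3, 7, 9, 6, 5, 4, 3, 2], [1, 2, 3, 4, 5, 6, 7, 3, 2, 1, 4, 3, 2, 5, 8, 7, 3, 2, 4, 3, 5, 4, 6, 7, 3, 2, 1, 9, 6, 5, 4, 3, 2, 7, 3])] 1 0 3,
  .ref [(2, 0, [1, 0, 2, 1, 3, 4, 5, 6, 7, 3, 4, 5, 8, 7, 3, 2, 4, 3, 7, 9, 6, 5, 4, 3, 2], [1, 2, 3, 4, 5, 6, 7, 3, 2, 1, 4, 5, 8, 7, 3, 2, 1, 4, 3, 2, 5, 4, 6, 7, 3, 4, 9, 6, 5, 4, 3, 2, 7, 3])] 1 0 3,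
  .ref [(2, 0, [1, 0, 2, 1, 3, 4, 5, 6, 7, 3, 4, 5, 8, 7, 3, 2, 4, 3, 7, 9, 6, 5, 4, 3, 2], [1, 2, 3, 4, 5, 6, 7, 3, 2, 1, 4, 5, 8, 7, 3, 2, 1, 4, 3, 2, 5, 4, 7, 3, 4, 5, 9, 6, 5, 4, 3, 2, 1, 7])] 1 0 3,
  .ref [(2, 0, [1, 0, 2, 1, 3, 4, 5, 6, 7, 3, 4, 5, 8, 7, 3, 2, 4, 3, 7, 9, 6, 5, 4, 3, 2], [1, 2, 3, 4, 5, 6, 7, 3, 2, 1, 4, 5, 8, 7, 3, 2, 1, 4, 3, 2, 5, 4, 7, 3, 4, 5, 9, 6, 5, 4, 3, 2, 7, 3])] 1 0 3,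
  .ref [(2, 0, [1, 0, 2, 1, 3, 4, 5, 6, 7, 3, 4, 5, 8, 7, 3, 2, 4, 3, 7, 9, 6, 5, 4, 3, 2], [1, 2, 3, 4, 5, 6, 7, 3, 2, 1, 4, 3, 5, 4, 8, 7, 3, 2, 4, 3, 5, 4, 7, 3, 2, 1, 0, 9, 6, 5, 4, 3, 2, 7])] 1 0 3,
  .ref [(2, 0, [1, 0, 2, 1, 3, 4, 5, 6, 7, 3, 4, 5, 8, 7, 3, 2, 4, 3, 7, 9, 6, 5, 4, 3, 2], [1, 2, 3, 4, 5, 6, 7, 3, 2, 1, 4, 3, 2, 5, 8, 7, 3, 2, 4, 3, 5, 4, 7, 3, 2, 1, 0, 9, 6, 5, 4, 3, 2, 7])] 1 0 3,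
  .ref [(2, 0, [1, 0, 2, 1, 3, 4, 5, 6, 7, 3, 4, 5, 8, 7, 3, 2, 4, 3, 7, 9, 6, 5, 4, 3, 2], [1, 2, 3, 4, 5, 6, 7, 3, 2, 1, 4, 5, 8, 7, 3, 2, 1, 4, 3, 2, 5, 4, 6, 7, 3, 4, 9, 6, 5, 4, 3, 2, 1, 7])] 1 0 3,
  .ref [(2, 0, [1, 0, 2, 1, 3, 4, 5, 6, 7, 3, 4, 5, 8, 7, 3, 2, 4, 3, 7, 9, 6, 5, 4, 3, 2], [1, 2, 3, 4, 5, 6, 7, 3, 2, 1, 4, 5, 8, 7, 3, 2, 1, 4, 3, 2, 5, 4, 7, 3, 4, 9, 6, 5, 4, 3, 2, 1, 7, 8])] 1 0 3,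
  .ref [(2, 0, [1, 0, 2, 1, 3, 4, 5, 6, 7, 3, 4, 5, 8, 7, 3, 2, 4, 3, 7, 9, 6, 5, 4, 3, 2], [1, 2, 3, 4, 5, 6, 7, 3, 2, 1, 4, 3, 5, 8, 7, 3, 2, 4, 3, 5, 4, 7, 3, 2, 1, 9, 6, 5, 4, 3, 2, 1, 7, 3])] 1 0 3,
  .ref [(2, 0, [1, 0, 2, 1, 3, 4, 5, 6, 7, 3, 4, 5, 8, 7, 3, 2, 4, 3, 7, 9, 6, 5, 4, 3, 2], [1, 2, 3, 4, 5, 6, 7, 3, 2, 1, 4, 5, 8, 7, 3, 2, 1, 4, 3, 2, 5, 4, 7, 3, 4, 9, 6, 5, 4, 3, 2, 7, 3, 8])] 1 0 3,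
  .ref [(2, 0, [1, 0, 2, 1, 3, 4, 5, 6, 7, 3, 4, 5, 8, 7, 3, 2, 4, 3, 7, 9, 6, 5, 4, 3, 2], [1, 2, 3, 4, 5, 6, 7, 3, 2, 1, 4, 3, 2, 5, 8, 7, 3, 2, 4, 3, 5, 4, 7, 3, 2, 1, 9, 6, 5, 4, 3, 2, 7, 3])] 1 0 3,
  .ref [(2, 0, [1, 0, 2, 1, 3, 4, 5, 6, 7, 3, 4, 5, 8, 7, 3, 2, 4, 3, 7, 9, 6, 5, 4, 3, 2], [1, 2, 3, 4, 5, 6, 7, 3, 2, 1, 4, 5, 8, 7, 3, 2, 1, 4, 3, 2, 5, 4, 6, 7, 3, 4, 5, 9, 6, 5, 4, 3, 2, 7])] 1 0 3,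
  .ref [(2, 0, [1, 0, 2, 1, 3, 4, 5, 6, 7, 3, 4, 5, 8, 7, 3, 2, 4, 3, 7, 9, 6, 5, 4, 3, 2], [1, 2, 3, 4, 5, 6, 7, 3, 2, 1, 4, 3, 5, 8, 7, 3, 2, 4, 3, 5, 4, 7, 3, 2, 1, 9, 6, 5, 4, 3, 2, 1, 0, 7])] 1 0 3,
  .ref [(2, 0, [1, 0, 2, 1, 3, 4, 5, 6, 7, 3, 4, 5, 8, 7, 3, 2, 4, 3, 7, 9, 6, 5, 4, 3, 2], [1, 2, 3, 4, 5, 6, 7, 3, 2, 1, 4, 3, 2, 5, 8, 7, 3, 2, 4, 3, 5, 4, 7, 3, 2, 1, 9, 6, 5, 4, 3, 2, 7, 8])] 1 0 3,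
  .ref [(2, 0, [1, 0, 2, 1, 3, 4, 5, 6, 7, 3, 4, 5, 8, 7, 3, 2, 4, 3, 7, 9, 6, 5, 4, 3, 2], [1, 2, 3, 4, 5, 6, 7, 3, 2, 1, 4, 3, 2, 5, 4, 8, 7, 3, 2, 4, 3, 5, 4, 7, 3, 2, 1, 9, 6, 5, 4, 3, 2, 7])] 1 0 3,
  .ref [(2, 0, [1, 0, 2, 1, 3, 4, 5, 6, 7, 3, 4, 5, 8, 7, 3, 2, 4, 3, 7, 9, 6, 5, 4, 3, 2], [1, 2, 3, 4, 5, 6, 7, 3, 2, 1, 4, 3, 2, 5, 8, 7, 3, 2, 4, 3, 5, 4, 7, 3, 2, 1, 9, 6, 5, 4, 3, 2, 1, 7])] 1 0 3,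
  .ref [(2, 0, [1, 0, 2, 1, 3, 4, 5, 6, 7, 3, 4, 5, 8, 7, 3, 2, 4, 3, 7, 9, 6, 5, 4, 3, 2], [1, 2, 3, 4, 5, 6, 7, 3, 2, 1, 4, 5, 8, 7, 3, 2, 1, 4, 3, 2, 5, 4, 7, 3, 4, 9, 6, 5, 4, 3, 2, 7, 3, 4])] 1 0 3,
  .ref [(2, 0, [1, 0, 2, 1, 3, 4, 5, 6, 7, 3, 4, 5, 8, 7, 3, 2, 4, 3, 7, 9, 6, 5, 4, 3, 2], [1, 2, 3, 4, 5, 6, 7, 3, 2, 1, 4, 3, 5, 4, 8, 7, 3, 2, 4, 3, 5, 4, 7, 3, 2, 1, 9, 6, 5, 4, 3, 2, 7, 3])] 1 0 3,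
  .ref [(2, 0, [1, 0, 2, 1, 3, 4, 5, 6, 7, 3, 4, 5, 8, 7, 3, 2, 4, 3, 7, 9, 6, 5, 4, 3, 2], [1, 2, 3, 4, 5, 6, 7, 3, 2, 1, 4, 3, 5, 8, 7, 3, 2, 1, 4, 3, 2, 5, 4, 7, 3, 8, 7, 9])] 1 0 3,
  .ref [(2, 0, [1, 0, 2, 1, 3, 4, 5, 6, 7, 3, 4, 5, 8, 7, 3, 2, 4, 3, 7, 9, 6, 5, 4, 3, 2], [1, 2, 3, 4, 5, 6, 7, 3, 2, 1, 4, 3, 5, 7, 8, 7, 3, 2, 1, 0, 4, 3, 2, 5, 4, 7, 3, 8, 7, 9])] 1 0 3,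
  .ref [(2, 0, [1, 0, 2, 1, 3, 4, 5, 6, 7, 3, 4, 5, 8, 7, 3, 2, 4, 3, 7, 9, 6, 5, 4, 3, 2], [1, 2, 3, 4, 5, 6, 7, 3, 2, 1, 4, 3, 5, 7, 8, 7, 3, 2, 1, 4, 3, 2, 5, 4, 3, 7, 3, 8, 7, 9])] 1 0 3,
  .ref [(2, 0, [1, 0, 2, 1, 3, 4, 5, 6, 7, 3, 4, 5, 8, 7, 3, 2, 4, 3, 7, 9, 6, 5, 4, 3, 2], [1, 2, 3, 4, 5, 6, 7, 3, 2, 1, 4, 3, 5, 7, 8, 7, 3, 2, 1, 4, 3, 2, 5, 4, 7, 3, 8, 7, 9, 6])] 1 0 3,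
  .ref [(2, 0, [1, 0, 2, 1, 3, 4, 5, 6, 7, 3, 4, 5, 8, 7, 3, 2, 4, 3, 7, 9, 6, 5, 4, 3, 2], [1, 2, 3, 4, 5, 6, 7, 3, 2, 1, 4, 3, 5, 7, 8, 7, 3, 2, 1, 4, 3, 2, 5, 4, 7, 3, 4, 8, 7, 9])] 1 0 3,
  .ref [(2, 0, [1, 0, 2, 1, 3, 4, 5, 6, 7, 3, 4, 5, 8, 7, 3, 2, 4, 3, 7, 9, 6, 5, 4, 3, 2], [1, 2, 3, 4, 5, 6, 7, 3, 2, 1, 4, 3, 5, 7, 8, 7, 3, 2, 1, 4, 3, 2, 5, 4, 7, 3, 8, 7])] 1 0 3,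
  .ref [(2, 0, [1, 0, 2, 1, 3, 4, 5, 6, 7, 3, 4, 5, 8, 7, 3, 2, 4, 3, 7, 9, 6, 5, 4, 3, 2], [1, 2, 3, 4, 5, 6, 7, 3, 2, 1, 4, 3, 5, 4, 8, 7, 3, 2, 1, 0, 4, 3, 2, 5, 4, 7, 3, 8, 7, 9])] 1 0 3,
  .ref [(2, 0, [1, 0, 2, 1, 3, 4, 5, 6, 7, 3, 4, 5, 8, 7, 3, 2, 4, 3, 7, 9, 6, 5, 4, 3, 2], [1, 2, 3, 4, 5, 6, 7, 3, 2, 1, 4, 3, 5, 4, 8, 7, 3, 2, 1, 4, 3, 2, 5, 4, 3, 7, 3, 8, 7, 9])] 1 0 3,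
  .ref [(2, 0, [1, 0, 2, 1, 3, 4, 5, 6, 7, 3, 4, 5, 8, 7, 3, 2, 4, 3, 7, 9, 6, 5, 4, 3, 2], [1, 2, 3, 4, 5, 6, 7, 3, 2, 1, 4, 3, 5, 4, 8, 7, 3, 2, 1, 4, 3, 2, 5, 4, 7, 3, 8, 7, 9, 6])] 1 0 3,
  .ref [(2, 0, [1, 0, 2, 1, 3, 4, 5, 6, 7, 3, 4, 5, 8, 7, 3, 2, 4, 3, 7, 9, 6, 5, 4, 3, 2], [1, 2, 3, 4, 5, 6, 7, 3, 2, 1, 4, 3, 5, 4, 8, 7, 3, 2, 1, 4, 3, 2, 5, 4, 7, 3, 4, 8, 7, 9])] 1 0 3,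
  .ref [(2, 0, [1, 0, 2, 1, 3, 4, 5, 6, 7, 3, 4, 5, 8, 7, 3, 2, 4, 3, 7, 9, 6, 5, 4, 3, 2], [1, 2, 3, 4, 5, 6, 7, 3, 2, 1, 4, 3, 5, 4, 8, 7, 3, 2, 1, 4, 3, 2, 5, 4, 7, 3, 8, 7])] 1 0 3,
  .ref [(2, 0, [1, 0, 2, 1, 3, 4, 5, 6, 7, 3, 4, 5, 8, 7, 3, 2, 4, 3, 7, 9, 6, 5, 4, 3, 2], [1, 2, 3, 4, 5, 6, 7, 3, 2, 1, 4, 3, 5, 8, 7, 3, 2, 1, 4, 3, 2, 5, 4, 3, 7, 3, 4, 8, 7, 9])] 1 0 3,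
  .ref [(2, 0, [1, 0, 2, 1, 3, 4, 5, 6, 7, 3, 4, 5, 8, 7, 3, 2, 4, 3, 7, 9, 6, 5, 4, 3, 2], [1, 2, 3, 4, 5, 6, 7, 3, 2, 1, 4, 3, 5, 8, 7, 3, 2, 1, 4, 3, 2, 5, 4, 7, 3, 4, 8, 7, 9, 6])] 1 0 3,
  .ref [(2, 0, [1, 0, 2, 1, 3, 4, 5, 6, 7, 3, 4, 5, 8, 7, 3, 2, 4, 3, 7, 9, 6, 5, 4, 3, 2], [1, 2, 3, 4, 5, 6, 7, 3, 2, 1, 4, 3, 5, 8, 7, 3, 2, 1, 4, 3, 2, 5, 4, 7, 3, 4, 8, 7])] 1 0 3,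
  .ref [(2, 0, [1, 0, 2, 1, 3, 4, 5, 6, 7, 3, 4, 5, 8, 7, 3, 2, 4, 3, 7, 9, 6, 5, 4, 3, 2], [1, 2, 3, 4, 5, 6, 7, 3, 2, 1, 4, 3, 5, 4, 7, 8, 7, 3, 2, 1, 4, 3, 2, 5, 4, 3, 7, 3, 8, 7, 9, 6])] 1 0 3,
  .ref [(2, 0, [1, 0, 2, 1, 3, 4, 5, 6, 7, 3, 4, 5, 8, 7, 3, 2, 4, 3, 7, 9, 6, 5, 4, 3, 2], [1, 2, 3, 4, 5, 6, 7, 3, 2, 1, 4, 3, 5, 7, 8, 7, 3, 2, 1, 4, 3, 2, 5, 4, 6, 7, 3, 8, 7, 9])] 1 0 3,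
  .ref [(2, 0, [1, 0, 2, 1, 3, 4, 5, 6, 7, 3, 4, 5, 8, 7, 3, 2, 4, 3, 7, 9, 6, 5, 4, 3, 2], [1, 2, 3, 4, 5, 6, 7, 3, 2, 1, 4, 3, 5, 4, 7, 8, 7, 3, 2, 1, 4, 3, 2, 5, 4, 3, 7, 3, 8, 7])] 1 0 3,
  .ref [(2, 0, [1, 0, 2, 1, 3, 4, 5, 6, 7, 3, 4, 5, 8, 7, 3, 2, 4, 3, 7, 9, 6, 5, 4, 3, 2], [1, 2, 3, 4, 5, 6, 7, 3, 2, 1, 4, 3, 5, 8, 7, 3, 2, 1, 0, 4, 3, 2, 5, 4, 7, 3, 8, 7, 9, 6])] 1 0 3,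
  .ref [(2, 0, [1, 0, 2, 1, 3, 4, 5, 6, 7, 3, 4, 5, 8, 7, 3, 2, 4, 3, 7, 9, 6, 5, 4, 3, 2], [1, 2, 3, 4, 5, 6, 7, 3, 2, 1, 4, 3, 5, 4, 7, 8, 7, 3, 2, 1, 4, 3, 2, 5, 4, 6, 7, 3, 8, 7, 9, 6])] 1 0 3,
  .ref [(2, 0, [1, 0, 2, 1, 3, 4, 5, 6, 7, 3, 4, 5, 8, 7, 3, 2, 4, 3, 7, 9, 6, 5, 4, 3, 2], [1, 2, 3, 4, 5, 6, 7, 3, 2, 1, 4, 3, 5, 8, 7, 3, 2, 1, 0, 4, 3, 2, 5, 4, 7, 3, 8, 7])] 1 0 3,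
  .ref [(2, 0, [1, 0, 2, 1, 3, 4, 5, 6, 7, 3, 4, 5, 8, 7, 3, 2, 4, 3, 7, 9, 6, 5, 4, 3, 2], [1, 2, 3, 4, 5, 6, 7, 3, 2, 1, 4, 3, 5, 4, 7, 8, 7, 3, 2, 1, 4, 3, 2, 5, 4, 6, 7, 3, 8, 7])] 1 0 3,
  .ref [(2, 0, [1, 0, 2, 1, 3, 4, 5, 6, 7, 3, 4, 5, 8, 7, 3, 2, 4, 3, 7, 9, 6, 5, 4, 3, 2], [1, 2, 3, 4, 5, 6, 7, 3, 2, 1, 4, 3, 5, 8, 7, 3, 2, 1, 4, 3, 2, 5, 4, 6, 7, 3, 8, 7, 9])] 1 0 3,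
  .ref [(2, 0, [1, 0, 2, 1, 3, 4, 5, 6, 7, 3, 4, 5, 8, 7, 3, 2, 4, 3, 7, 9, 6, 5, 4, 3, 2], [1, 2, 3, 4, 5, 6, 7, 3, 2, 1, 4, 3, 2, 5, 8, 7, 3, 2, 4, 3, 5, 4, 7, 3, 2, 1, 9, 6, 5, 4, 3, 2, 1, 7, 3])] 1 0 3,
  .ref [(2, 0, [1, 0, 2, 1, 3, 4, 5, 6, 7, 3, 4, 5, 8, 7, 3, 2, 4, 3, 7, 9, 6, 5, 4, 3, 2], [1, 2, 3, 4, 5, 6, 7, 3, 2, 1, 4, 3, 2, 5, 4, 8, 7, 3, 2, 4, 3, 5, 4, 7, 3, 2, 1, 0, 9, 6, 5, 4, 3, 2, 7])] 1 0 3,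
  .ref [(2, 0, [1, 0, 2, 1, 3, 4, 5, 6, 7, 3, 4, 5, 8, 7, 3, 2, 4, 3, 7, 9, 6, 5, 4, 3, 2], [1, 2, 3, 4, 5, 6, 7, 3, 2, 1, 4, 3, 5, 8, 7, 3, 2, 1, 4, 3, 2, 5, 4, 3, 7, 3, 8, 7, 9])] 1 0 3,
  .ref [(2, 0, [1, 0, 2, 1, 3, 4, 5, 6, 7, 3, 4, 5, 8, 7, 3, 2, 4, 3, 7, 9, 6, 5, 4, 3, 2], [1, 2, 3, 4, 5, 6, 7, 3, 2, 1, 4, 3, 5, 8, 7, 3, 2, 1, 4, 3, 2, 5, 4, 7, 3, 8, 7, 9, 6])] 1 0 3,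
  .ref [(2, 0, [1, 0, 2, 1, 3, 4, 5, 6, 7, 3, 4, 5, 8, 7, 3, 2, 4, 3, 7, 9, 6, 5, 4, 3, 2], [1, 2, 3, 4, 5, 6, 7, 3, 2, 1, 4, 3, 5, 8, 7, 3, 2, 1, 4, 3, 2, 5, 4, 7, 3, 8, 7])] 1 0 3,
  .ref [(2, 0, [1, 0, 2, 1, 3, 4, 5, 6, 7, 3, 4, 5, 8, 7, 3, 2, 4, 3, 7, 9, 6, 5, 4, 3, 2], [1, 2, 3, 4, 5, 6, 7, 3, 2, 1, 4, 3, 5, 4, 8, 7, 3, 2, 1, 0, 4, 3, 2, 5, 4, 7, 3, 4, 8, 7, 9])] 1 0 3,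
  .ref [(2, 0, [1, 0, 2, 1, 3, 4, 5, 6, 7, 3, 4, 5, 8, 7, 3, 2, 4, 3, 7, 9, 6, 5, 4, 3, 2], [1, 2, 3, 4, 5, 6, 7, 3, 2, 1, 4, 3, 5, 7, 8, 7, 3, 2, 1, 0, 4, 3, 2, 5, 4, 7, 3, 8, 7, 9, 6])] 1 0 3,
  .ref [(2, 0, [1, 0, 2, 1, 3, 4, 5, 6, 7, 3, 4, 5, 8, 7, 3, 2, 4, 3, 7, 9, 6, 5, 4, 3, 2], [1, 2, 3, 4, 5, 6, 7, 3, 2, 1, 4, 3, 5, 4, 8, 7, 3, 2, 1, 0, 4, 3, 2, 1, 5, 4, 7, 3, 8, 7, 9])] 1 0 3,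
  .ref [(2, 0, [1, 0, 2, 1, 3, 4, 5, 6, 7, 3, 4, 5, 8, 7, 3, 2, 4, 3, 7, 9, 6, 5, 4, 3, 2], [1, 2, 3, 4, 5, 6, 7, 3, 2, 1, 4, 3, 5, 7, 8, 7, 3, 2, 1, 0, 4, 3, 2, 5, 4, 7, 3, 8, 7])] 1 0 3,
  .ref [(2, 0, [1, 0, 2, 1, 3, 4, 5, 6, 7, 3, 4, 5, 8, 7, 3, 2, 4, 3, 7, 9, 6, 5, 4, 3, 2], [1, 2, 3, 4, 5, 6, 7, 3, 2, 1, 4, 3, 5, 7, 8, 7, 3, 2, 1, 4, 3, 2, 5, 4, 3, 7, 3, 8, 7, 9, 6])] 1 0 3,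
  .ref [(2, 0, [1, 0, 2, 1, 3, 4, 5, 6, 7, 3, 4, 5, 8, 7, 3, 2, 4, 3, 7, 9, 6, 5, 4, 3, 2], [1, 2, 3, 4, 5, 6, 7, 3, 2, 1, 4, 3, 5, 4, 7, 8, 7, 3, 2, 1, 4, 3, 2, 5, 4, 6, 7, 3, 8, 7, 9])] 1 0 3,
  .ref [(2, 0, [1, 0, 2, 1, 3, 4, 5, 6, 7, 3, 4, 5, 8, 7, 3, 2, 4, 3, 7, 9, 6, 5, 4, 3, 2], [1, 2, 3, 4, 5, 6, 7, 3, 2, 1, 4, 3, 5, 7, 8, 7, 3, 2, 1, 4, 3, 2, 5, 4, 3, 7, 3, 8, 7])] 1 0 3,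
  .ref [(2, 0, [1, 0, 2, 1, 3, 4, 5, 6, 7, 3, 4, 5, 8, 7, 3, 2, 4, 3, 7, 9, 6, 5, 4, 3, 2], [1, 2, 3, 4, 5, 6, 7, 3, 2, 1, 4, 3, 5, 7, 8, 7, 3, 2, 1, 4, 3, 2, 5, 4, 7, 3, 4, 8, 7, 9, 6])] 1 0 3,
  .ref [(2, 0, [1, 0, 2, 1, 3, 4, 5, 6, 7, 3, 4, 5, 8, 7, 3, 2, 4, 3, 7, 9, 6, 5, 4, 3, 2], [1, 2, 3, 4, 5, 6, 7, 3, 2, 1, 4, 3, 5, 7, 8, 7, 3, 2, 1, 4, 3, 2, 5, 4, 6, 7, 3, 8, 7, 9, 6])] 1 0 3,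
  .ref [(2, 0, [1, 0, 2, 1, 3, 4, 5, 6, 7, 3, 4, 5, 8, 7, 3, 2, 4, 3, 7, 9, 6, 5, 4, 3, 2], [1, 2, 3, 4, 5, 6, 7, 3, 2, 1, 4, 3, 5, 7, 8, 7, 3, 2, 1, 4, 3, 2, 5, 4, 7, 3, 4, 8, 7])] 1 0 3,
  .ref [(2, 0, [1, 0, 2, 1, 3, 4, 5, 6, 7, 3, 4, 5, 8, 7, 3, 2, 4, 3, 7, 9, 6, 5, 4, 3, 2], [1, 2, 3, 4, 5, 6, 7, 3, 2, 1, 4, 3, 5, 7, 8, 7, 3, 2, 1, 4, 3, 2, 5, 4, 6, 7, 3, 8, 7])] 1 0 3,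
  .ref [(2, 0, [1, 0, 2, 1, 3, 4, 5, 6, 7, 3, 4, 5, 8, 7, 3, 2, 4, 3, 7, 9, 6, 5, 4, 3, 2], [1, 2, 3, 4, 5, 6, 7, 3, 2, 1, 4, 3, 5, 4, 8, 7, 3, 2, 1, 0, 4, 3, 2, 5, 4, 3, 7, 3, 8, 7, 9])] 1 0 3,
  .ref [(2, 0, [1, 0, 2, 1, 3, 4, 5, 6, 7, 3, 4, 5, 8, 7, 3, 2, 4, 3, 7, 9, 6, 5, 4, 3, 2], [1, 2, 3, 4, 5, 6, 7, 3, 2, 1, 4, 3, 5, 4, 8, 7, 3, 2, 1, 0, 4, 3, 2, 5, 4, 7, 3, 8, 7, 9, 6])] 1 0 3,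
  .ref [(2, 0, [1, 0, 2, 1, 3, 4, 5, 6, 7, 3, 4, 5, 8, 7, 3, 2, 4, 3, 7, 9, 6, 5, 4, 3, 2], [1, 2, 3, 4, 5, 6, 7, 3, 2, 1, 4, 3, 5, 4, 8, 7, 3, 2, 1, 0, 4, 3, 2, 5, 4, 7, 3, 8, 7])] 1 0 3,
  .ref [(2, 0, [1, 0, 2, 1, 3, 4, 5, 6, 7, 3, 4, 5, 8, 7, 3, 2, 4, 3, 7, 9, 6, 5, 4, 3, 2], [1, 2, 3, 4, 5, 6, 7, 3, 2, 1, 4, 3, 5, 4, 8, 7, 3, 2, 1, 4, 3, 2, 5, 4, 3, 7, 3, 8, 7, 9, 6])] 1 0 3,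
  .ref [(2, 0, [1, 0, 2, 1, 3, 4, 5, 6, 7, 3, 4, 5, 8, 7, 3, 2, 4, 3, 7, 9, 6, 5, 4, 3, 2], [1, 2, 3, 4, 5, 6, 7, 3, 2, 1, 4, 3, 5, 4, 8, 7, 3, 2, 1, 0, 4, 3, 2, 5, 4, 6, 7, 3, 8, 7, 9])] 1 0 3,
  .ref [(2, 0, [1, 0, 2, 1, 3, 4, 5, 6, 7, 3, 4, 5, 8, 7, 3, 2, 4, 3, 7, 9, 6, 5, 4, 3, 2], [1, 2, 3, 4, 5, 6, 7, 3, 2, 1, 4, 3, 5, 4, 8, 7, 3, 2, 1, 4, 3, 2, 5, 4, 3, 7, 3, 8, 7])] 1 0 3,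
  .ref [(2, 0, [1, 0, 2, 1, 3, 4, 5, 6, 7, 3, 4, 5, 8, 7, 3, 2, 4, 3, 7, 9, 6, 5, 4, 3, 2], [1, 2, 3, 4, 5, 6, 7, 3, 2, 1, 4, 3, 5, 4, 8, 7, 3, 2, 1, 4, 3, 2, 5, 4, 7, 3, 4, 8, 7, 9, 6])] 1 0 3,
  .ref [(2, 0, [1, 0, 2, 1, 3, 4, 5, 6, 7, 3, 4, 5, 8, 7, 3, 2, 4, 3, 7, 9, 6, 5, 4, 3, 2], [1, 2, 3, 4, 5, 6, 7, 3, 2, 1, 4, 3, 5, 4, 8, 7, 3, 2, 1, 4, 3, 2, 5, 4, 6, 7, 3, 8, 7, 9, 6])] 1 0 3,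
  .ref [(2, 0, [1, 0, 2, 1, 3, 4, 5, 6, 7, 3, 4, 5, 8, 7, 3, 2, 4, 3, 7, 9, 6, 5, 4, 3, 2], [1, 2, 3, 4, 5, 6, 7, 3, 2, 1, 4, 3, 5, 4, 8, 7, 3, 2, 1, 4, 3, 2, 5, 4, 7, 3, 4, 8, 7])] 1 0 3,
  .ref [(2, 0, [1, 0, 2, 1, 3, 4, 5, 6, 7, 3, 4, 5, 8, 7, 3, 2, 4, 3, 7, 9, 6, 5, 4, 3, 2], [1, 2, 3, 4, 5, 6, 7, 3, 2, 1, 4, 3, 5, 4, 8, 7, 3, 2, 1, 4, 3, 2, 5, 4, 6, 7, 3, 8, 7])] 1 0 3,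
  .ref [(2, 0, [1, 0, 2, 1, 3, 4, 5, 6, 7, 3, 4, 5, 8, 7, 3, 2, 4, 3, 7, 9, 6, 5, 4, 3, 2], [1, 2, 3, 4, 5, 6, 7, 3, 2, 1, 4, 3, 5, 8, 7, 3, 2, 1, 4, 3, 2, 5, 4, 3, 7, 3, 4, 8, 7, 9, 6])] 1 0 3,
  .ref [(2, 0, [1, 0, 2, 1, 3, 4, 5, 6, 7, 3, 4, 5, 8, 7, 3, 2, 4, 3, 7, 9, 6, 5, 4, 3, 2], [1, 2, 3, 4, 5, 6, 7, 3, 2, 1, 4, 3, 5, 8, 7, 3, 2, 1, 4, 3, 2, 5, 4, 3, 7, 3, 4, 8, 7])] 1 0 3,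
  .ref [(2, 0, [1, 0, 2, 1, 3, 4, 5, 6, 7, 3, 4, 5, 8, 7, 3, 2, 4, 3, 7, 9, 6, 5, 4, 3, 2], [1, 2, 3, 4, 5, 6, 7, 3, 2, 1, 4, 3, 5, 8, 7, 3, 2, 1, 4, 3, 2, 5, 4, 6, 7, 3, 4, 8, 7, 9, 6])] 1 0 3,
  .ref [(2, 0, [1, 0, 2, 1, 3, 4, 5, 6, 7, 3, 4, 5, 8, 7, 3, 2, 4, 3, 7, 9, 6, 5, 4, 3, 2], [1, 2, 3, 4, 5, 6, 7, 3, 2, 1, 4, 3, 5, 8, 7, 3, 2, 1, 4, 3, 2, 5, 4, 6, 7, 3, 4, 8, 7])] 1 0 3,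
  .ref [(2, 0, [1, 0, 2, 1, 3, 4, 5, 6, 7, 3, 4, 5, 8, 7, 3, 2, 4, 3, 7, 9, 6, 5, 4, 3, 2], [1, 2, 3, 4, 5, 6, 7, 3, 2, 1, 4, 3, 5, 8, 7, 3, 2, 1, 4, 3, 2, 5, 4, 6, 7, 3, 8, 7, 9, 6])] 1 0 3,
  .ref [(2, 0, [1, 0, 2, 1, 3, 4, 5, 6, 7, 3, 4, 5, 8, 7, 3, 2, 4, 3, 7, 9, 6, 5, 4, 3, 2], [1, 2, 3, 4, 5, 6, 7, 3, 2, 1, 4, 3, 5, 4, 8, 7, 3, 2, 1, 4, 3, 2, 5, 4, 6, 7, 3, 8, 7, 9])] 1 0 3,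
  .ref [(2, 0, [1, 0, 2, 1, 3, 4, 5, 6, 7, 3, 4, 5, 8, 7, 3, 2, 4, 3, 7, 9, 6, 5, 4, 3, 2], [1, 2, 3, 4, 5, 6, 7, 3, 2, 1, 4, 3, 5, 8, 7, 3, 2, 1, 4, 3, 2, 5, 4, 6, 7, 3, 4, 8, 7, 9])] 1 0 3,
  .ref [(2, 0, [1, 0, 2, 1, 3, 4, 5, 6, 7, 3, 4, 5, 8, 7, 3, 2, 4, 3, 7, 9, 6, 5, 4, 3, 2], [1, 2, 3, 4, 5, 6, 7, 3, 2, 1, 4, 3, 5, 8, 7, 3, 2, 1, 4, 3, 2, 5, 4, 6, 7, 3, 8, 7])] 1 0 3,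
  .ref [(2, 0, [1, 0, 2, 1, 3, 4, 5, 6, 7, 3, 4, 5, 8, 7, 3, 2, 4, 3, 7, 9, 6, 5, 4, 3, 2], [1, 2, 3, 4, 5, 6, 7, 3, 2, 1, 4, 3, 5, 8, 7, 3, 2, 1, 4, 3, 2, 5, 4, 3, 7, 3, 8, 7, 9, 6])] 1 0 3,
  .ref [(2, 0, [1, 0, 2, 1, 3, 4, 5, 6, 7, 3, 4, 5, 8, 7, 3, 2, 4, 3, 7, 9, 6, 5, 4, 3, 2], [1, 2, 3, 4, 5, 6, 7, 3, 2, 1, 4, 3, 5, 8, 7, 3, 2, 1, 4, 3, 2, 5, 4, 3, 7, 3, 8, 7])] 1 0 3,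
  .ref [(2, 0, [1, 0, 2, 1, 3, 4, 5, 6, 7, 3, 4, 5, 8, 7, 3, 2, 4, 3, 7, 9, 6, 5, 4, 3, 2], [1, 2, 3, 4, 5, 6, 7, 3, 2, 1, 4, 3, 5, 4, 8, 7, 3, 2, 1, 0, 4, 3, 2, 5, 4, 7, 3, 4, 8, 7, 9, 6])] 1 0 3,
  .ref [(2, 0, [1, 0, 2, 1, 3, 4, 5, 6, 7, 3, 4, 5, 8, 7, 3, 2, 4, 3, 7, 9, 6, 5, 4, 3, 2], [1, 2, 3, 4, 5, 6, 7, 3, 2, 1, 4, 3, 5, 4, 8, 7, 3, 2, 1, 0, 4, 3, 2, 5, 4, 7, 3, 4, 8, 7])] 1 0 3,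
  .ref [(2, 0, [1, 0, 2, 1, 3, 4, 5, 6, 7, 3, 4, 5, 8, 7, 3, 2, 4, 3, 7, 9, 6, 5, 4, 3, 2], [1, 2, 3, 4, 5, 6, 7, 3, 2, 1, 4, 3, 5, 4, 8, 7, 3, 2, 1, 0, 4, 3, 2, 1, 5, 4, 7, 3, 8, 7, 9, 6])] 1 0 3,
  .ref [(2, 0, [1, 0, 2, 1, 3, 4, 5, 6, 7, 3, 4, 5, 8, 7, 3, 2, 4, 3, 7, 9, 6, 5, 4, 3, 2], [1, 2, 3, 4, 5, 6, 7, 3, 2, 1, 4, 3, 5, 4, 8, 7, 3, 2, 1, 0, 4, 3, 2, 1, 5, 4, 7, 3, 8, 7])] 1 0 3,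
  .ref [(2, 0, [1, 0, 2, 1, 3, 4, 5, 6, 7, 3, 4, 5, 8, 7, 3, 2, 4, 3, 7, 9, 6, 5, 4, 3, 2], [1, 2, 3, 4, 5, 6, 7, 3, 2, 1, 4, 3, 5, 4, 8, 7, 3, 2, 1, 0, 4, 3, 2, 5, 4, 3, 7, 3, 8, 7, 9, 6])] 1 0 3,
  .ref [(2, 0, [1, 0, 2, 1, 3, 4, 5, 6, 7, 3, 4, 5, 8, 7, 3, 2, 4, 3, 7, 9, 6, 5, 4, 3, 2], [1, 2, 3, 4, 5, 6, 7, 3, 2, 1, 4, 3, 5, 4, 8, 7, 3, 2, 1, 0, 4, 3, 2, 5, 4, 3, 7, 3, 8, 7])] 1 0 3,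
  .ref [(2, 0, [1, 0, 2, 1, 3, 4, 5, 6, 7, 3, 4, 5, 8, 7, 3, 2, 4, 3, 7, 9, 6, 5, 4, 3, 2], [1, 2, 3, 4, 5, 6, 7, 3, 2, 1, 4, 3, 5, 4, 8, 7, 3, 2, 1, 0, 4, 3, 2, 5, 4, 6, 7, 3, 8, 7, 9, 6])] 1 0 3,
  .ref [(2, 0, [1, 0, 2, 1, 3, 4, 5, 6, 7, 3, 4, 5, 8, 7, 3, 2, 4, 3, 7, 9, 6, 5, 4, 3, 2], [1, 2, 3, 4, 5, 6, 7, 3, 2, 1, 4, 3, 5, 4, 8, 7, 3, 2, 1, 0, 4, 3, 2, 5, 4, 6, 7, 3, 8, 7])] 1 0 3,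
  .ref [(2, 0, [1, 0, 2, 1, 3, 4, 5, 6, 7, 3, 4, 5, 8, 7, 3, 2, 4, 3, 7, 9, 6, 5, 4, 3, 2], [1, 2, 3, 4, 5, 6, 7, 3, 2, 1, 4, 3, 2, 5, 4, 7, 8, 7, 3, 2, 1, 4, 3, 2, 5, 4, 7, 3, 2, 8, 7, 3, 4, 9, 6, 5])] 1 0 3,
  .ref [(2, 0, [1, 0, 2, 1, 3, 4, 5, 6, 7, 3, 4, 5, 8, 7, 3, 2, 4, 3, 7, 9, 6, 5, 4, 3, 2], [1, 2, 3, 4, 5, 6, 7, 3, 2, 1, 4, 3, 2, 5, 4, 7, 8, 7, 3, 2, 1, 4, 3, 2, 5, 4, 7, 3, 4, 8, 7, 3, 2, 9, 6, 5])] 1 0 3,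
  .ref [(2, 0, [1, 0, 2, 1, 3, 4, 5, 6, 7, 3, 4, 5, 8, 7, 3, 2, 4, 3, 7, 9, 6, 5, 4, 3, 2], [1, 2, 3, 4, 5, 6, 7, 3, 2, 1, 4, 3, 5, 7, 8, 7, 3, 2, 1, 4, 3, 2, 5, 4, 7, 3, 8, 7, 9, 6, 5, 4, 3, 2])] 1 0 3,
  .ref [(2, 0, [1, 0, 2, 1, 3, 4, 5, 6, 7, 3, 4, 5, 8, 7, 3, 2, 4, 3, 7, 9, 6, 5, 4, 3, 2], [1, 2, 3, 4, 5, 6, 7, 3, 2, 1, 4, 3, 5, 4, 8, 7, 3, 2, 1, 4, 3, 2, 5, 4, 7, 3, 2, 8, 7, 3, 4, 9, 6, 5])] 1 0 3,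
  .ref [(2, 0, [1, 0, 2, 1, 3, 4, 5, 6, 7, 3, 4, 5, 8, 7, 3, 2, 4, 3, 7, 9, 6, 5, 4, 3, 2], [1, 2, 3, 4, 5, 6, 7, 3, 2, 1, 4, 3, 5, 8, 7, 3, 2, 1, 0, 4, 3, 2, 5, 4, 7, 3, 8, 7, 9, 6, 5, 4, 3, 2])] 1 0 3,
  .ref [(2, 0, [1, 0, 2, 1, 3, 4, 5, 6, 7, 3, 4, 5, 8, 7, 3, 2, 4, 3, 7, 9, 6, 5, 4, 3, 2], [1, 2, 3, 4, 5, 6, 7, 3, 2, 1, 4, 3, 2, 5, 7, 8, 7, 3, 2, 1, 4, 3, 2, 5, 4, 7, 3, 8, 7, 9, 6, 5, 4, 3, 2])] 1 0 3,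
  .ref [(2, 0, [1, 0, 2, 1, 3, 4, 5, 6, 7, 3, 4, 5, 8, 7, 3, 2, 4, 3, 7, 9, 6, 5, 4, 3, 2], [1, 2, 3, 4, 5, 6, 7, 3, 2, 1, 4, 3, 5, 8, 7, 3, 2, 1, 4, 3, 2, 5, 4, 7, 3, 2, 1, 4, 8, 7, 3, 2, 9, 6, 5])] 1 0 3,
  .ref [(2, 0, [1, 0, 2, 1, 3, 4, 5, 6, 7, 3, 4, 5, 8, 7, 3, 2, 4, 3, 7, 9, 6, 5, 4, 3, 2], [1, 2, 3, 4, 5, 6, 7, 3, 2, 1, 4, 3, 2, 5, 8, 7, 3, 2, 1, 4, 3, 2, 5, 4, 7, 3, 4, 5, 8, 7, 3, 2, 9, 6, 5])] 1 0 3,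
  .ref [(2, 0, [1, 0, 2, 1, 3, 4, 5, 6, 7, 3, 4, 5, 8, 7, 3, 2, 4, 3, 7, 9, 6, 5, 4, 3, 2], [1, 2, 3, 4, 5, 6, 7, 3, 2, 1, 4, 3, 2, 5, 4, 7, 8, 7, 3, 2, 1, 4, 3, 2, 5, 4, 3, 7, 3, 2, 8, 7, 3, 4, 9, 6, 5])] 1 0 3,
  .ref [(2, 0, [1, 0, 2, 1, 3, 4, 5, 6, 7, 3, 4, 5, 8, 7, 3, 2, 4, 3, 7, 9, 6, 5, 4, 3, 2], [1, 2, 3, 4, 5, 6, 7, 3, 2, 1, 4, 3, 2, 5, 4, 7, 8, 7, 3, 2, 1, 4, 3, 2, 5, 4, 3, 7, 3, 4, 8, 7, 3, 2, 9, 6, 5])] 1 0 3,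
  .ref [(2, 0, [1, 0, 2, 1, 3, 4, 5, 6, 7, 3, 4, 5, 8, 7, 3, 2, 4, 3, 7, 9, 6, 5, 4, 3, 2], [1, 2, 3, 4, 5, 6, 7, 3, 2, 1, 4, 3, 2, 5, 4, 7, 8, 7, 3, 2, 1, 4, 3, 2, 5, 4, 7, 3, 2, 8, 7, 3, 4, 9, 6, 5, 4])] 1 0 3,
  .ref [(2, 0, [1, 0, 2, 1, 3, 4, 5, 6, 7, 3, 4, 5, 8, 7, 3, 2, 4, 3, 7, 9, 6, 5, 4, 3, 2], [1, 2, 3, 4, 5, 6, 7, 3, 2, 1, 4, 3, 2, 5, 8, 7, 3, 2, 1, 0, 4, 3, 2, 5, 4, 7, 3, 4, 8, 7, 3, 2, 9, 6, 5])] 1 0 3,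
  .ref [(2, 0, [1, 0, 2, 1, 3, 4, 5, 6, 7, 3, 4, 5, 8, 7, 3, 2, 4, 3, 7, 9, 6, 5, 4, 3, 2], [1, 2, 3, 4, 5, 6, 7, 3, 2, 1, 4, 3, 2, 5, 4, 7, 8, 7, 3, 2, 1, 4, 3, 2, 5, 4, 7, 3, 2, 4, 8, 7, 3, 2, 9, 6, 5])] 1 0 3,
  .ref [(2, 0, [1, 0, 2, 1, 3, 4, 5, 6, 7, 3, 4, 5, 8, 7, 3, 2, 4, 3, 7, 9, 6, 5, 4, 3, 2], [1, 2, 3, 4, 5, 6, 7, 3, 2, 1, 4, 3, 2, 5, 4, 7, 8, 7, 3, 2, 1, 4, 3, 2, 5, 4, 7, 3, 2, 4, 8, 7, 3, 4, 9, 6, 5])] 1 0 3,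
  .ref [(2, 0, [1, 0, 2, 1, 3, 4, 5, 6, 7, 3, 4, 5, 8, 7, 3, 2, 4, 3, 7, 9, 6, 5, 4, 3, 2], [1, 2, 3, 4, 5, 6, 7, 3, 2, 1, 4, 3, 2, 5, 4, 7, 8, 7, 3, 2, 1, 4, 3, 2, 5, 4, 7, 3, 2, 8, 7, 3, 4, 5, 9, 6, 5])] 1 0 3,
  .ref [(2, 0, [1, 0, 2, 1, 3, 4, 5, 6, 7, 3, 4, 5, 8, 7, 3, 2, 4, 3, 7, 9, 6, 5, 4, 3, 2], [1, 2, 3, 4, 5, 6, 7, 3, 2, 1, 4, 3, 2, 5, 4, 7, 8, 7, 3, 2, 1, 4, 3, 2, 5, 4, 7, 3, 4, 8, 7, 3, 2, 9, 6, 5, 4])] 1 0 3,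
  .ref [(2, 0, [1, 0, 2, 1, 3, 4, 5, 6, 7, 3, 4, 5, 8, 7, 3, 2, 4, 3, 7, 9, 6, 5, 4, 3, 2], [1, 2, 3, 4, 5, 6, 7, 3, 2, 1, 4, 3, 5, 8, 7, 3, 2, 1, 4, 3, 2, 5, 4, 7, 3, 8, 7, 9, 6, 5, 4, 3, 2])] 1 0 3,
  .ref [(2, 0, [1, 0, 2, 1, 3, 4, 5, 6, 7, 3, 4, 5, 8, 7, 3, 2, 4, 3, 7, 9, 6, 5, 4, 3, 2], [1, 2, 3, 4, 5, 6, 7, 3, 2, 1, 4, 3, 5, 7, 8, 7, 3, 2, 1, 0, 4, 3, 2, 5, 4, 7, 3, 8, 7, 9, 6, 5, 4, 3, 2])] 1 0 3,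
  .ref [(2, 0, [1, 0, 2, 1, 3, 4, 5, 6, 7, 3, 4, 5, 8, 7, 3, 2, 4, 3, 7, 9, 6, 5, 4, 3, 2], [1, 2, 3, 4, 5, 6, 7, 3, 2, 1, 4, 3, 5, 7, 8, 7, 3, 2, 1, 4, 3, 2, 5, 4, 3, 7, 3, 8, 7, 9, 6, 5, 4, 3, 2])] 1 0 3,
  .ref [(2, 0, [1, 0, 2, 1, 3, 4, 5, 6, 7, 3, 4, 5, 8, 7, 3, 2, 4, 3, 7, 9, 6, 5, 4, 3, 2], [1, 2, 3, 4, 5, 6, 7, 3, 2, 1, 4, 3, 5, 7, 8, 7, 3, 2, 1, 4, 3, 2, 5, 4, 7, 3, 2, 8, 7, 9, 6, 5, 4, 3, 2])] 1 0 3,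
  .ref [(2, 0, [1, 0, 2, 1, 3, 4, 5, 6, 7, 3, 4, 5, 8, 7, 3, 2, 4, 3, 7, 9, 6, 5, 4, 3, 2], [1, 2, 3, 4, 5, 6, 7, 3, 2, 1, 4, 3, 5, 7, 8, 7, 3, 2, 1, 4, 3, 2, 5, 4, 7, 3, 8, 7, 9, 6, 5, 4, 3, 2, 1])] 1 0 3,
  .ref [(2, 0, [1, 0, 2, 1, 3, 4, 5, 6, 7, 3, 4, 5, 8, 7, 3, 2, 4, 3, 7, 9, 6, 5, 4, 3, 2], [1, 2, 3, 4, 5, 6, 7, 3, 2, 1, 4, 3, 5, 7, 8, 7, 3, 2, 1, 4, 3, 2, 5, 4, 6, 7, 3, 8, 7, 9, 6, 5, 4, 3, 2])] 1 0 3,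
  .ref [(2, 0, [1, 0, 2, 1, 3, 4, 5, 6, 7, 3, 4, 5, 8, 7, 3, 2, 4, 3, 7, 9, 6, 5, 4, 3, 2], [1, 2, 3, 4, 5, 6, 7, 3, 2, 1, 4, 3, 2, 5, 8, 7, 3, 2, 1, 4, 3, 2, 5, 4, 6, 7, 3, 4, 8, 7, 3, 2, 9, 6, 5])] 1 0 3,
  .ref [(2, 0, [1, 0, 2, 1, 3, 4, 5, 6, 7, 3, 4, 5, 8, 7, 3, 2, 4, 3, 7, 9, 6, 5, 4, 3, 2], [1, 2, 3, 4, 5, 6, 7, 3, 2, 1, 4, 3, 2, 5, 8, 7, 3, 2, 1, 4, 3, 2, 5, 4, 7, 3, 2, 4, 8, 7, 3, 2, 9, 6, 5])] 1 0 3,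
  .ref [(2, 0, [1, 0, 2, 1, 3, 4, 5, 6, 7, 3, 4, 5, 8, 7, 3, 2, 4, 3, 7, 9, 6, 5, 4, 3, 2], [1, 2, 3, 4, 5, 6, 7, 3, 2, 1, 4, 3, 5, 4, 8, 7, 3, 2, 1, 4, 3, 2, 5, 4, 7, 3, 2, 8, 7, 3, 4, 9, 6, 5, 4])] 1 0 3,
  .ref [(2, 0, [1, 0, 2, 1, 3, 4, 5, 6, 7, 3, 4, 5, 8, 7, 3, 2, 4, 3, 7, 9, 6, 5, 4, 3, 2], [1, 2, 3, 4, 5, 6, 7, 3, 2, 1, 4, 3, 2, 5, 8, 7, 3, 2, 1, 4, 3, 2, 5, 4, 3, 7, 3, 4, 8, 7, 3, 2, 9, 6, 5])] 1 0 3,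
  .ref [(2, 0, [1, 0, 2, 1, 3, 4, 5, 6, 7, 3, 4, 5, 8, 7, 3, 2, 4, 3, 7, 9, 6, 5, 4, 3, 2], [1, 2, 3, 4, 5, 6, 7, 3, 2, 1, 4, 3, 2, 5, 8, 7, 3, 2, 1, 4, 3, 2, 5, 4, 7, 3, 4, 8, 7, 3, 2, 1, 9, 6, 5])] 1 0 3,
  .ref [(2, 0, [1, 0, 2, 1, 3, 4, 5, 6, 7, 3, 4, 5, 8, 7, 3, 2, 4, 3, 7, 9, 6, 5, 4, 3, 2], [1, 2, 3, 4, 5, 6, 7, 3, 2, 1, 4, 3, 5, 8, 7, 3, 2, 1, 0, 4, 3, 2, 5, 4, 7, 3, 2, 8, 7, 9, 6, 5, 4, 3, 2])] 1 0 3,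
  .ref [(2, 0, [1, 0, 2, 1, 3, 4, 5, 6, 7, 3, 4, 5, 8, 7, 3, 2, 4, 3, 7, 9, 6, 5, 4, 3, 2], [1, 2, 3, 4, 5, 6, 7, 3, 2, 1, 4, 3, 2, 5, 8, 7, 3, 2, 1, 0, 4, 3, 2, 5, 4, 7, 3, 8, 7, 9, 6, 5, 4, 3, 2])] 1 0 3,
  .ref [(2, 0, [1, 0, 2, 1, 3, 4, 5, 6, 7, 3, 4, 5, 8, 7, 3, 2, 4, 3, 7, 9, 6, 5, 4, 3, 2], [1, 2, 3, 4, 5, 6, 7, 3, 2, 1, 4, 3, 5, 8, 7, 3, 2, 1, 0, 4, 3, 2, 5, 4, 7, 3, 8, 7, 9, 6, 5, 4, 3, 2, 1])] 1 0 3,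
  .ref [(2, 0, [1, 0, 2, 1, 3, 4, 5, 6, 7, 3, 4, 5, 8, 7, 3, 2, 4, 3, 7, 9, 6, 5, 4, 3, 2], [1, 2, 3, 4, 5, 6, 7, 3, 2, 1, 4, 3, 2, 5, 8, 7, 3, 2, 1, 4, 3, 2, 5, 4, 7, 3, 8, 7, 9, 6, 5, 4, 3, 2])] 1 0 3,
  .ref [(2, 0, [1, 0, 2, 1, 3, 4, 5, 6, 7, 3, 4, 5, 8, 7, 3, 2, 4, 3, 7, 9, 6, 5, 4, 3, 2], [1, 2, 3, 4, 5, 6, 7, 3, 2, 1, 4, 3, 2, 5, 8, 7, 3, 2, 1, 4, 3, 2, 5, 4, 7, 3, 4, 8, 7, 3, 2, 9, 6, 5])] 1 0 3,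
  .ref [(2, 0, [1, 0, 2, 1, 3, 4, 5, 6, 7, 3, 4, 5, 8, 7, 3, 2, 4, 3, 7, 9, 6, 5, 4, 3, 2], [1, 2, 3, 4, 5, 6, 7, 3, 2, 1, 4, 3, 2, 5, 7, 8, 7, 3, 2, 1, 0, 4, 3, 2, 5, 4, 7, 3, 8, 7, 9, 6, 5, 4, 3, 2])] 1 0 3,
  .ref [(2, 0, [1, 0, 2, 1, 3, 4, 5, 6, 7, 3, 4, 5, 8, 7, 3, 2, 4, 3, 7, 9, 6, 5, 4, 3, 2], [1, 2, 3, 4, 5, 6, 7, 3, 2, 1, 4, 3, 2, 5, 7, 8, 7, 3, 2, 1, 4, 3, 2, 5, 4, 3, 7, 3, 8, 7, 9, 6, 5, 4, 3, 2])] 1 0 3,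
  .ref [(2, 0, [1, 0, 2, 1, 3, 4, 5, 6, 7, 3, 4, 5, 8, 7, 3, 2, 4, 3, 7, 9, 6, 5, 4, 3, 2], [1, 2, 3, 4, 5, 6, 7, 3, 2, 1, 4, 3, 5, 8, 7, 3, 2, 1, 4, 3, 2, 5, 4, 6, 7, 3, 8, 7, 9, 6, 5, 4, 3, 2])] 1 0 3,
  .ref [(2, 0, [1, 0, 2, 1, 3, 4, 5, 6, 7, 3, 4, 5, 8, 7, 3, 2, 4, 3, 7, 9, 6, 5, 4, 3, 2], [1, 2, 3, 4, 5, 6, 7, 3, 2, 1, 4, 3, 2, 5, 7, 8, 7, 3, 2, 1, 4, 3, 2, 5, 4, 7, 3, 8, 7, 9, 6, 5, 4, 3, 2, 1])] 1 0 3,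
  .ref [(2, 0, [1, 0, 2, 1, 3, 4, 5, 6, 7, 3, 4, 5, 8, 7, 3, 2, 4, 3, 7, 9, 6, 5, 4, 3, 2], [1, 2, 3, 4, 5, 6, 7, 3, 2, 1, 4, 3, 5, 8, 7, 3, 2, 1, 4, 3, 2, 5, 4, 7, 3, 2, 8, 7, 9, 6, 5, 4, 3, 2])] 1 0 3,
  .ref [(2, 0, [1, 0, 2, 1, 3, 4, 5, 6, 7, 3, 4, 5, 8, 7, 3, 2, 4, 3, 7, 9, 6, 5, 4, 3, 2], [1, 2, 3, 4, 5, 6, 7, 3, 2, 1, 4, 3, 5, 8, 7, 3, 2, 1, 4, 3, 2, 5, 4, 3, 7, 3, 2, 1, 4, 8, 7, 3, 2, 9, 6, 5])] 1 0 3,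
  .ref [(2, 0, [1, 0, 2, 1, 3, 4, 5, 6, 7, 3, 4, 5, 8, 7, 3, 2, 4, 3, 7, 9, 6, 5, 4, 3, 2], [1, 2, 3, 4, 5, 6, 7, 3, 2, 1, 4, 3, 2, 5, 8, 7, 3, 2, 1, 4, 3, 2, 5, 4, 3, 7, 3, 4, 5, 8, 7, 3, 2, 9, 6, 5])] 1 0 3,
  .ref [(2, 0, [1, 0, 2, 1, 3, 4, 5, 6, 7, 3, 4, 5, 8, 7, 3, 2, 4, 3, 7, 9, 6, 5, 4, 3, 2], [1, 2, 3, 4, 5, 6, 7, 3, 2, 1, 4, 3, 2, 5, 8, 7, 3, 2, 1, 4, 3, 2, 5, 4, 6, 7, 3, 4, 5, 8, 7, 3, 4, 9, 6, 5])] 1 0 3,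
  .ref [(2, 0, [1, 0, 2, 1, 3, 4, 5, 6, 7, 3, 4, 5, 8, 7, 3, 2, 4, 3, 7, 9, 6, 5, 4, 3, 2], [1, 2, 3, 4, 5, 6, 7, 3, 2, 1, 4, 3, 5, 8, 7, 3, 2, 1, 4, 3, 2, 5, 4, 7, 3, 2, 1, 4, 8, 7, 3, 2, 9, 6, 5, 4])] 1 0 3,
  .ref [(2, 0, [1, 0, 2, 1, 3, 4, 5, 6, 7, 3, 4, 5, 8, 7, 3, 2, 4, 3, 7, 9, 6, 5, 4, 3, 2], [1, 2, 3, 4, 5, 6, 7, 3, 2, 1, 4, 3, 2, 5, 8, 7, 3, 2, 1, 4, 3, 2, 5, 4, 6, 7, 3, 4, 5, 8, 7, 3, 2, 9, 6, 5])] 1 0 3,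
  .ref [(2, 0, [1, 0, 2, 1, 3, 4, 5, 6, 7, 3, 4, 5, 8, 7, 3, 2, 4, 3, 7, 9, 6, 5, 4, 3, 2], [1, 2, 3, 4, 5, 6, 7, 3, 2, 1, 4, 3, 2, 5, 8, 7, 3, 2, 1, 4, 3, 2, 5, 4, 3, 7, 3, 4, 8, 7, 3, 2, 1, 9, 6, 5])] 1 0 3,
  .ref [(2, 0, [1, 0, 2, 1, 3, 4, 5, 6, 7, 3, 4, 5, 8, 7, 3, 2, 4, 3, 7, 9, 6, 5, 4, 3, 2], [1, 2, 3, 4, 5, 6, 7, 3, 2, 1, 4, 3, 2, 5, 8, 7, 3, 2, 1, 4, 3, 2, 5, 4, 7, 3, 2, 4, 5, 8, 7, 3, 4, 9, 6, 5])] 1 0 3,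
  .ref [(2, 0, [1, 0, 2, 1, 3, 4, 5, 6, 7, 3, 4, 5, 8, 7, 3, 2, 4, 3, 7, 9, 6, 5, 4, 3, 2], [1, 2, 3, 4, 5, 6, 7, 3, 2, 1, 4, 3, 2, 5, 8, 7, 3, 2, 1, 4, 3, 2, 5, 4, 7, 3, 4, 5, 8, 7, 3, 2, 9, 6, 5, 4])] 1 0 3,
  .ref [(2, 0, [1, 0, 2, 1, 3, 4, 5, 6, 7, 3, 4, 5, 8, 7, 3, 2, 4, 3, 7, 9, 6, 5, 4, 3, 2], [1, 2, 3, 4, 5, 6, 7, 3, 2, 1, 4, 3, 2, 5, 4, 7, 8, 7, 3, 2, 1, 4, 3, 2, 5, 4, 3, 7, 3, 2, 8, 7, 3, 4, 9, 6, 5, 4])] 1 0 3,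
  .ref [(2, 0, [1, 0, 2, 1, 3, 4, 5, 6, 7, 3, 4, 5, 8, 7, 3, 2, 4, 3, 7, 9, 6, 5, 4, 3, 2], [1, 2, 3, 4, 5, 6, 7, 3, 2, 1, 4, 3, 2, 5, 8, 7, 3, 2, 1, 0, 4, 3, 2, 5, 4, 3, 7, 3, 4, 8, 7, 3, 2, 9, 6, 5])] 1 0 3,
  .ref [(2, 0, [1, 0, 2, 1, 3, 4, 5, 6, 7, 3, 4, 5, 8, 7, 3, 2, 4, 3, 7, 9, 6, 5, 4, 3, 2], [1, 2, 3, 4, 5, 6, 7, 3, 2, 1, 4, 3, 2, 5, 4, 7, 8, 7, 3, 2, 1, 4, 3, 2, 5, 4, 3, 7, 3, 4, 8, 7, 3, 2, 9, 6, 5, 4])] 1 0 3,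
  .ref [(2, 0, [1, 0, 2, 1, 3, 4, 5, 6, 7, 3, 4, 5, 8, 7, 3, 2, 4, 3, 7, 9, 6, 5, 4, 3, 2], [1, 2, 3, 4, 5, 6, 7, 3, 2, 1, 4, 3, 2, 5, 8, 7, 3, 2, 1, 0, 4, 3, 2, 5, 4, 7, 3, 4, 8, 7, 3, 2, 9, 6, 5, 4])] 1 0 3,
  .ref [(2, 0, [1, 0, 2, 1, 3, 4, 5, 6, 7, 3, 4, 5, 8, 7, 3, 2, 4, 3, 7, 9, 6, 5, 4, 3, 2], [1, 2, 3, 4, 5, 6, 7, 3, 2, 1, 4, 3, 2, 5, 4, 7, 8, 7, 3, 2, 1, 4, 3, 2, 5, 4, 7, 3, 2, 8, 7, 3, 4, 9, 6, 5, 4, 3])] 1 0 3,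
  .ref [(2, 0, [1, 0, 2, 1, 3, 4, 5, 6, 7, 3, 4, 5, 8, 7, 3, 2, 4, 3, 7, 9, 6, 5, 4, 3, 2], [1, 2, 3, 4, 5, 6, 7, 3, 2, 1, 4, 3, 2, 5, 4, 7, 8, 7, 3, 2, 1, 4, 3, 2, 5, 4, 7, 3, 2, 8, 7, 3, 4, 5, 9, 6, 5, 4])] 1 0 3,
  .ref [(2, 0, [1, 0, 2, 1, 3, 4, 5, 6, 7, 3, 4, 5, 8, 7, 3, 2, 4, 3, 7, 9, 6, 5, 4, 3, 2], [1, 2, 3, 4, 5, 6, 7, 3, 2, 1, 4, 3, 2, 5, 8, 7, 3, 2, 1, 0, 4, 3, 2, 5, 4, 7, 3, 2, 4, 8, 7, 3, 2, 9, 6, 5])] 1 0 3,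
  .ref [(2, 0, [1, 0, 2, 1, 3, 4, 5, 6, 7, 3, 4, 5, 8, 7, 3, 2, 4, 3, 7, 9, 6, 5, 4, 3, 2], [1, 2, 3, 4, 5, 6, 7, 3, 2, 1, 4, 3, 2, 5, 4, 7, 8, 7, 3, 2, 1, 4, 3, 2, 5, 4, 7, 3, 2, 4, 8, 7, 3, 2, 9, 6, 5, 4])] 1 0 3,
  .ref [(2, 0, [1, 0, 2, 1, 3, 4, 5, 6, 7, 3, 4, 5, 8, 7, 3, 2, 4, 3, 7, 9, 6, 5, 4, 3, 2], [1, 2, 3, 4, 5, 6, 7, 3, 2, 1, 4, 3, 2, 5, 4, 7, 8, 7, 3, 2, 1, 4, 3, 2, 5, 4, 7, 3, 2, 4, 8, 7, 3, 4, 9, 6, 5, 4])] 1 0 3,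
  .ref [(2, 0, [1, 0, 2, 1, 3, 4, 5, 6, 7, 3, 4, 5, 8, 7, 3, 2, 4, 3, 7, 9, 6, 5, 4, 3, 2], [1, 2, 3, 4, 5, 6, 7, 3, 2, 1, 4, 3, 2, 5, 4, 7, 8, 7, 3, 2, 1, 4, 3, 2, 5, 4, 7, 3, 4, 8, 7, 3, 2, 9, 6, 5, 4, 3])] 1 0 3,
  .ref [(2, 0, [1, 0, 2, 1, 3, 4, 5, 6, 7, 3, 4, 5, 8, 7, 3, 2, 4, 3, 7, 9, 6, 5, 4, 3, 2], [1, 2, 3, 4, 5, 6, 7, 3, 2, 1, 4, 3, 5, 8, 7, 3, 2, 1, 4, 3, 2, 5, 4, 3, 7, 3, 8, 7, 9, 6, 5, 4, 3, 2])] 1 0 3,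
  .ref [(2, 0, [1, 0, 2, 1, 3, 4, 5, 6, 7, 3, 4, 5, 8, 7, 3, 2, 4, 3, 7, 9, 6, 5, 4, 3, 2], [1, 2, 3, 4, 5, 6, 7, 3, 2, 1, 4, 3, 5, 8, 7, 3, 2, 1, 4, 3, 2, 5, 4, 7, 3, 8, 7, 9, 6, 5, 4, 3, 2, 1])] 1 0 3,
  .ref [(2, 0, [1, 0, 2, 1, 3, 4, 5, 6, 7, 3, 4, 5, 8, 7, 3, 2, 4, 3, 7, 9, 6, 5, 4, 3, 2], [1, 2, 3, 4, 5, 6, 7, 3, 2, 1, 4, 3, 5, 7, 8, 7, 3, 2, 1, 0, 4, 3, 2, 5, 4, 7, 3, 8, 7, 9, 6, 5, 4, 3, 2, 1])] 1 0 3,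
  .ref [(2, 0, [1, 0, 2, 1, 3, 4, 5, 6, 7, 3, 4, 5, 8, 7, 3, 2, 4, 3, 7, 9, 6, 5, 4, 3, 2], [1, 2, 3, 4, 5, 6, 7, 3, 2, 1, 4, 3, 5, 7, 8, 7, 3, 2, 1, 4, 3, 2, 5, 4, 3, 7, 3, 8, 7, 9, 6, 5, 4, 3, 2, 1])] 1 0 3,
  .ref [(2, 0, [1, 0, 2, 1, 3, 4, 5, 6, 7, 3, 4, 5, 8, 7, 3, 2, 4, 3, 7, 9, 6, 5, 4, 3, 2], [1, 2, 3, 4, 5, 6, 7, 3, 2, 1, 4, 3, 5, 7, 8, 7, 3, 2, 1, 4, 3, 2, 5, 4, 7, 3, 2, 8, 7, 9, 6, 5, 4, 3, 2, 1])] 1 0 3,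
  .ref [(2, 0, [1, 0, 2, 1, 3, 4, 5, 6, 7, 3, 4, 5, 8, 7, 3, 2, 4, 3, 7, 9, 6, 5, 4, 3, 2], [1, 2, 3, 4, 5, 6, 7, 3, 2, 1, 4, 3, 2, 5, 8, 7, 3, 2, 1, 0, 4, 3, 2, 5, 4, 3, 7, 3, 8, 7, 9, 6, 5, 4, 3, 2])] 1 0 3,
  .ref [(2, 0, [1, 0, 2, 1, 3, 4, 5, 6, 7, 3, 4, 5, 8, 7, 3, 2, 4, 3, 7, 9, 6, 5, 4, 3, 2], [1, 2, 3, 4, 5, 6, 7, 3, 2, 1, 4, 3, 2, 5, 8, 7, 3, 2, 1, 4, 3, 2, 5, 4, 6, 5, 7, 3, 8, 7, 9, 6, 5, 4, 3, 2])] 1 0 3,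
  .ref [(2, 0, [1, 0, 2, 1, 3, 4, 5, 6, 7, 3, 4, 5, 8, 7, 3, 2, 4, 3, 7, 9, 6, 5, 4, 3, 2], [1, 2, 3, 4, 5, 6, 7, 3, 2, 1, 4, 3, 5, 7, 8, 7, 3, 2, 1, 4, 3, 2, 5, 4, 7, 3, 8, 7, 9, 6, 5, 4, 3, 2, 1, 0])] 1 0 3,
  .ref [(2, 0, [1, 0, 2, 1, 3, 4, 5, 6, 7, 3, 4, 5, 8, 7, 3, 2, 4, 3, 7, 9, 6, 5, 4, 3, 2], [1, 2, 3, 4, 5, 6, 7, 3, 2, 1, 4, 3, 5, 7, 8, 7, 3, 2, 1, 4, 3, 2, 5, 4, 6, 7, 3, 8, 7, 9, 6, 5, 4, 3, 2, 1])] 1 0 3,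
  .ref [(2, 0, [1, 0, 2, 1, 3, 4, 5, 6, 7, 3, 4, 5, 8, 7, 3, 2, 4, 3, 7, 9, 6, 5, 4, 3, 2], [1, 2, 3, 4, 5, 6, 7, 3, 2, 1, 4, 3, 2, 5, 8, 7, 3, 2, 1, 4, 3, 2, 5, 4, 6, 7, 3, 4, 8, 7, 3, 2, 9, 6, 5, 4])] 1 0 3,
  .ref [(2, 0, [1, 0, 2, 1, 3, 4, 5, 6, 7, 3, 4, 5, 8, 7, 3, 2, 4, 3, 7, 9, 6, 5, 4, 3, 2], [1, 2, 3, 4, 5, 6, 7, 3, 2, 1, 4, 3, 2, 5, 8, 7, 3, 2, 1, 4, 3, 2, 5, 4, 7, 3, 2, 4, 8, 7, 3, 2, 9, 6, 5, 4])] 1 0 3,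
  .ref [(2, 0, [1, 0, 2, 1, 3, 4, 5, 6, 7, 3, 4, 5, 8, 7, 3, 2, 4, 3, 7, 9, 6, 5, 4, 3, 2], [1, 2, 3, 4, 5, 6, 7, 3, 2, 1, 4, 3, 5, 4, 8, 7, 3, 2, 1, 4, 3, 2, 5, 4, 7, 3, 2, 8, 7, 3, 4, 9, 6, 5, 4, 3])] 1 0 3,
  .ref [(2, 0, [1, 0, 2, 1, 3, 4, 5, 6, 7, 3, 4, 5, 8, 7, 3, 2, 4, 3, 7, 9, 6, 5, 4, 3, 2], [1, 2, 3, 4, 5, 6, 7, 3, 2, 1, 4, 3, 2, 5, 8, 7, 3, 2, 1, 4, 3, 2, 5, 4, 7, 3, 4, 8, 7, 3, 2, 1, 9, 6, 5, 4])] 1 0 3,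
  .ref [(2, 0, [1, 0, 2, 1, 3, 4, 5, 6, 7, 3, 4, 5, 8, 7, 3, 2, 4, 3, 7, 9, 6, 5, 4, 3, 2], [1, 2, 3, 4, 5, 6, 7, 3, 2, 1, 4, 3, 2, 5, 8, 7, 3, 2, 1, 4, 3, 2, 5, 4, 3, 7, 3, 4, 8, 7, 3, 2, 9, 6, 5, 4])] 1 0 3,
  .ref [(2, 0, [1, 0, 2, 1, 3, 4, 5, 6, 7, 3, 4, 5, 8, 7, 3, 2, 4, 3, 7, 9, 6, 5, 4, 3, 2], [1, 2, 3, 4, 5, 6, 7, 3, 2, 1, 4, 3, 2, 5, 8, 7, 3, 2, 1, 0, 4, 3, 2, 5, 4, 7, 3, 2, 8, 7, 9, 6, 5, 4, 3, 2])] 1 0 3,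
  .ref [(2, 0, [1, 0, 2, 1, 3, 4, 5, 6, 7, 3, 4, 5, 8, 7, 3, 2, 4, 3, 7, 9, 6, 5, 4, 3, 2], [1, 2, 3, 4, 5, 6, 7, 3, 2, 1, 4, 3, 5, 8, 7, 3, 2, 1, 0, 4, 3, 2, 5, 4, 7, 3, 2, 8, 7, 9, 6, 5, 4, 3, 2, 1])] 1 0 3,
  .ref [(2, 0, [1, 0, 2, 1, 3, 4, 5, 6, 7, 3, 4, 5, 8, 7, 3, 2, 4, 3, 7, 9, 6, 5, 4, 3, 2], [1, 2, 3, 4, 5, 6, 7, 3, 2, 1, 4, 3, 2, 5, 8, 7, 3, 2, 1, 0, 4, 3, 2, 5, 4, 6, 7, 3, 8, 7, 9, 6, 5, 4, 3, 2])] 1 0 3,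
  .ref [(2, 0, [1, 0, 2, 1, 3, 4, 5, 6, 7, 3, 4, 5, 8, 7, 3, 2, 4, 3, 7, 9, 6, 5, 4, 3, 2], [1, 2, 3, 4, 5, 6, 7, 3, 2, 1, 4, 3, 2, 5, 8, 7, 3, 2, 1, 0, 4, 3, 2, 5, 4, 7, 3, 8, 7, 9, 6, 5, 4, 3, 2, 1])] 1 0 3,
  .ref [(2, 0, [1, 0, 2, 1, 3, 4, 5, 6, 7, 3, 4, 5, 8, 7, 3, 2, 4, 3, 7, 9, 6, 5, 4, 3, 2], [1, 2, 3, 4, 5, 6, 7, 3, 2, 1, 4, 3, 5, 8, 7, 3, 2, 1, 0, 4, 3, 2, 5, 4, 7, 3, 8, 7, 9, 6, 5, 4, 3, 2, 1, 0])] 1 0 3,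
  .ref [(2, 0, [1, 0, 2, 1, 3, 4, 5, 6, 7, 3, 4, 5, 8, 7, 3, 2, 4, 3, 7, 9, 6, 5, 4, 3, 2], [1, 2, 3, 4, 5, 6, 7, 3, 2, 1, 4, 3, 2, 5, 8, 7, 3, 2, 1, 4, 3, 2, 5, 4, 3, 7, 3, 8, 7, 9, 6, 5, 4, 3, 2])] 1 0 3,
  .ref [(2, 0, [1, 0, 2, 1, 3, 4, 5, 6, 7, 3, 4, 5, 8, 7, 3, 2, 4, 3, 7, 9, 6, 5, 4, 3, 2], [1, 2, 3, 4, 5, 6, 7, 3, 2, 1, 4, 3, 2, 5, 8, 7, 3, 2, 1, 4, 3, 2, 5, 4, 7, 3, 2, 8, 7, 9, 6, 5, 4, 3, 2])] 1 0 3,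
  .ref [(2, 0, [1, 0, 2, 1, 3, 4, 5, 6, 7, 3, 4, 5, 8, 7, 3, 2, 4, 3, 7, 9, 6, 5, 4, 3, 2], [1, 2, 3, 4, 5, 6, 7, 3, 2, 1, 4, 3, 2, 5, 8, 7, 3, 2, 1, 4, 3, 2, 5, 4, 7, 3, 8, 7, 9, 6, 5, 4, 3, 2, 1])] 1 0 3,
  .ref [(2, 0, [1, 0, 2, 1, 3, 4, 5, 6, 7, 3, 4, 5, 8, 7, 3, 2, 4, 3, 7, 9, 6, 5, 4, 3, 2], [1, 2, 3, 4, 5, 6, 7, 3, 2, 1, 4, 3, 2, 5, 8, 7, 3, 2, 1, 4, 3, 2, 5, 4, 6, 7, 3, 8, 7, 9, 6, 5, 4, 3, 2])] 1 0 3,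
  .ref [(2, 0, [1, 0, 2, 1, 3, 4, 5, 6, 7, 3, 4, 5, 8, 7, 3, 2, 4, 3, 7, 9, 6, 5, 4, 3, 2], [1, 2, 3, 4, 5, 6, 7, 3, 2, 1, 4, 3, 2, 5, 8, 7, 3, 2, 1, 4, 3, 2, 5, 4, 7, 3, 4, 8, 7, 3, 2, 9, 6, 5, 4])] 1 0 3,
  .ref [(2, 0, [1, 0, 2, 1, 3, 4, 5, 6, 7, 3, 4, 5, 8, 7, 3, 2, 4, 3, 7, 9, 6, 5, 4, 3, 2], [1, 2, 3, 4, 5, 6, 7, 3, 2, 1, 4, 3, 2, 5, 7, 8, 7, 3, 2, 1, 0, 4, 3, 2, 5, 4, 7, 3, 8, 7, 9, 6, 5, 4, 3, 2, 1])] 1 0 3,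
  .ref [(2, 0, [1, 0, 2, 1, 3, 4, 5, 6, 7, 3, 4, 5, 8, 7, 3, 2, 4, 3, 7, 9, 6, 5, 4, 3, 2], [1, 2, 3, 4, 5, 6, 7, 3, 2, 1, 4, 3, 2, 5, 7, 8, 7, 3, 2, 1, 4, 3, 2, 5, 4, 3, 7, 3, 8, 7, 9, 6, 5, 4, 3, 2, 1])] 1 0 3,
  .ref [(2, 0, [1, 0, 2, 1, 3, 4, 5, 6, 7, 3, 4, 5, 8, 7, 3, 2, 4, 3, 7, 9, 6, 5, 4, 3, 2], [1, 2, 3, 4, 5, 6, 7, 3, 2, 1, 4, 3, 5, 8, 7, 3, 2, 1, 4, 3, 2, 5, 4, 3, 7, 3, 2, 8, 7, 9, 6, 5, 4, 3, 2])] 1 0 3,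
  .ref [(2, 0, [1, 0, 2, 1, 3, 4, 5, 6, 7, 3, 4, 5, 8, 7, 3, 2, 4, 3, 7, 9, 6, 5, 4, 3, 2], [1, 2, 3, 4, 5, 6, 7, 3, 2, 1, 4, 3, 5, 8, 7, 3, 2, 1, 4, 3, 2, 5, 4, 6, 7, 3, 8, 7, 9, 6, 5, 4, 3, 2, 1])] 1 0 3,
  .ref [(2, 0, [1, 0, 2, 1, 3, 4, 5, 6, 7, 3, 4, 5, 8, 7, 3, 2, 4, 3, 7, 9, 6, 5, 4, 3, 2], [1, 2, 3, 4, 5, 6, 7, 3, 2, 1, 4, 3, 2, 5, 7, 8, 7, 3, 2, 1, 4, 3, 2, 5, 4, 7, 3, 8, 7, 9, 6, 5, 4, 3, 2, 1, 0])] 1 0 3,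
  .ref [(2, 0, [1, 0, 2, 1, 3, 4, 5, 6, 7, 3, 4, 5, 8, 7, 3, 2, 4, 3, 7, 9, 6, 5, 4, 3, 2], [1, 2, 3, 4, 5, 6, 7, 3, 2, 1, 4, 3, 5, 8, 7, 3, 2, 1, 4, 3, 2, 5, 4, 7, 3, 2, 8, 7, 9, 6, 5, 4, 3, 2, 1])] 1 0 3,
  .ref [(2, 0, [1, 0, 2, 1, 3, 4, 5, 6, 7, 3, 4, 5, 8, 7, 3, 2, 4, 3, 7, 9, 6, 5, 4, 3, 2], [1, 2, 3, 4, 5, 6, 7, 3, 2, 1, 4, 3, 5, 8, 7, 3, 2, 1, 4, 3, 2, 5, 4, 3, 7, 3, 2, 1, 4, 8, 7, 3, 2, 9, 6, 5, 4])] 1 0 3,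
  .ref [(2, 0, [1, 0, 2, 1, 3, 4, 5, 6, 7, 3, 4, 5, 8, 7, 3, 2, 4, 3, 7, 9, 6, 5, 4, 3, 2], [1, 2, 3, 4, 5, 6, 7, 3, 2, 1, 4, 3, 2, 5, 8, 7, 3, 2, 1, 4, 3, 2, 5, 4, 3, 7, 3, 4, 5, 8, 7, 3, 2, 9, 6, 5, 4])] 1 0 3,
  .ref [(2, 0, [1, 0, 2, 1, 3, 4, 5, 6, 7, 3, 4, 5, 8, 7, 3, 2, 4, 3, 7, 9, 6, 5, 4, 3, 2], [1, 2, 3, 4, 5, 6, 7, 3, 2, 1, 4, 3, 2, 5, 8, 7, 3, 2, 1, 4, 3, 2, 5, 4, 6, 7, 3, 4, 5, 8, 7, 3, 4, 9, 6, 5, 4])] 1 0 3,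
  .ref [(2, 0, [1, 0, 2, 1, 3, 4, 5, 6, 7, 3, 4, 5, 8, 7, 3, 2, 4, 3, 7, 9, 6, 5, 4, 3, 2], [1, 2, 3, 4, 5, 6, 7, 3, 2, 1, 4, 3, 2, 5, 8, 7, 3, 2, 1, 4, 3, 2, 5, 4, 6, 7, 3, 4, 5, 8, 7, 3, 2, 9, 6, 5, 4])] 1 0 3,
  .ref [(2, 0, [1, 0, 2, 1, 3, 4, 5, 6, 7, 3, 4, 5, 8, 7, 3, 2, 4, 3, 7, 9, 6, 5, 4, 3, 2], [1, 2, 3, 4, 5, 6, 7, 3, 2, 1, 4, 3, 5, 8, 7, 3, 2, 1, 4, 3, 2, 5, 4, 7, 3, 2, 1, 4, 8, 7, 3, 2, 9, 6, 5, 4, 3])] 1 0 3,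
  .ref [(2, 0, [1, 0, 2, 1, 3, 4, 5, 6, 7, 3, 4, 5, 8, 7, 3, 2, 4, 3, 7, 9, 6, 5, 4, 3, 2], [1, 2, 3, 4, 5, 6, 7, 3, 2, 1, 4, 3, 2, 5, 8, 7, 3, 2, 1, 4, 3, 2, 5, 4, 3, 7, 3, 4, 8, 7, 3, 2, 1, 9, 6, 5, 4])] 1 0 3,
  .ref [(2, 0, [1, 0, 2, 1, 3, 4, 5, 6, 7, 3, 4, 5, 8, 7, 3, 2, 4, 3, 7, 9, 6, 5, 4, 3, 2], [1, 2, 3, 4, 5, 6, 7, 3, 2, 1, 4, 3, 2, 5, 8, 7, 3, 2, 1, 4, 3, 2, 5, 4, 7, 3, 2, 4, 5, 8, 7, 3, 4, 9, 6, 5, 4])] 1 0 3,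
  .ref [(2, 0, [1, 0, 2, 1, 3, 4, 5, 6, 7, 3, 4, 5, 8, 7, 3, 2, 4, 3, 7, 9, 6, 5, 4, 3, 2], [1, 2, 3, 4, 5, 6, 7, 3, 2, 1, 4, 3, 2, 5, 8, 7, 3, 2, 1, 4, 3, 2, 5, 4, 7, 3, 4, 5, 8, 7, 3, 2, 9, 6, 5, 4, 3])] 1 0 3,
  .ref [(2, 0, [1, 0, 2, 1, 3, 4, 5, 6, 7, 3, 4, 5, 8, 7, 3, 2, 4, 3, 7, 9, 6, 5, 4, 3, 2], [1, 2, 3, 4, 5, 6, 7, 3, 2, 1, 4, 3, 2, 5, 8, 7, 3, 2, 1, 0, 4, 3, 2, 5, 4, 3, 7, 3, 4, 8, 7, 3, 2, 9, 6, 5, 4])] 1 0 3,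
  .ref [(2, 0, [1, 0, 2, 1, 3, 4, 5, 6, 7, 3, 4, 5, 8, 7, 3, 2, 4, 3, 7, 9, 6, 5, 4, 3, 2], [1, 2, 3, 4, 5, 6, 7, 3, 2, 1, 4, 3, 2, 5, 4, 7, 8, 7, 3, 2, 1, 4, 3, 2, 5, 4, 3, 7, 3, 2, 8, 7, 3, 4, 9, 6, 5, 4, 3])] 1 0 3,
  .ref [(2, 0, [1, 0, 2, 1, 3, 4, 5, 6, 7, 3, 4, 5, 8, 7, 3, 2, 4, 3, 7, 9, 6, 5, 4, 3, 2], [1, 2, 3, 4, 5, 6, 7, 3, 2, 1, 4, 3, 2, 5, 4, 7, 8, 7, 3, 2, 1, 4, 3, 2, 5, 4, 3, 7, 3, 4, 8, 7, 3, 2, 9, 6, 5, 4, 3])] 1 0 3,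
  .ref [(2, 0, [1, 0, 2, 1, 3, 4, 5, 6, 7, 3, 4, 5, 8, 7, 3, 2, 4, 3, 7, 9, 6, 5, 4, 3, 2], [1, 2, 3, 4, 5, 6, 7, 3, 2, 1, 4, 3, 2, 5, 8, 7, 3, 2, 1, 0, 4, 3, 2, 5, 4, 7, 3, 4, 8, 7, 3, 2, 9, 6, 5, 4, 3])] 1 0 3,
  .ref [(2, 0, [1, 0, 2, 1, 3, 4, 5, 6, 7, 3, 4, 5, 8, 7, 3, 2, 4, 3, 7, 9, 6, 5, 4, 3, 2], [1, 2, 3, 4, 5, 6, 7, 3, 2, 1, 4, 3, 2, 5, 4, 7, 8, 7, 3, 2, 1, 4, 3, 2, 5, 4, 7, 3, 2, 4, 8, 7, 3, 4, 9, 6, 5, 4, 3])] 1 0 3,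
  .ref [(2, 0, [1, 0, 2, 1, 3, 4, 5, 6, 7, 3, 4, 5, 8, 7, 3, 2, 4, 3, 7, 9, 6, 5, 4, 3, 2], [1, 2, 3, 4, 5, 6, 7, 3, 2, 1, 4, 3, 2, 5, 4, 7, 8, 7, 3, 2, 1, 4, 3, 2, 5, 4, 7, 3, 2, 8, 7, 3, 4, 5, 9, 6, 5, 4, 3])] 1 0 3,
  .ref [(2, 0, [1, 0, 2, 1, 3, 4, 5, 6, 7, 3, 4, 5, 8, 7, 3, 2, 4, 3, 7, 9, 6, 5, 4, 3, 2], [1, 2, 3, 4, 5, 6, 7, 3, 2, 1, 4, 3, 2, 5, 8, 7, 3, 2, 1, 0, 4, 3, 2, 5, 4, 7, 3, 2, 4, 8, 7, 3, 2, 9, 6, 5, 4])] 1 0 3,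
  .ref [(2, 0, [1, 0, 2, 1, 3, 4, 5, 6, 7, 3, 4, 5, 8, 7, 3, 2, 4, 3, 7, 9, 6, 5, 4, 3, 2], [1, 2, 3, 4, 5, 6, 7, 3, 2, 1, 4, 3, 2, 5, 4, 7, 8, 7, 3, 2, 1, 4, 3, 2, 5, 4, 7, 3, 2, 4, 8, 7, 3, 2, 9, 6, 5, 4, 3])] 1 0 3,
  .ref [(2, 0, [1, 0, 2, 1, 3, 4, 5, 6, 7, 3, 4, 5, 8, 7, 3, 2, 4, 3, 7, 9, 6, 5, 4, 3, 2], [1, 2, 3, 4, 5, 6, 7, 3, 2, 1, 4, 3, 5, 8, 7, 3, 2, 1, 4, 3, 2, 5, 4, 3, 7, 3, 8, 7, 9, 6, 5, 4, 3, 2, 1])] 1 0 3,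
  .ref [(2, 0, [1, 0, 2, 1, 3, 4, 5, 6, 7, 3, 4, 5, 8, 7, 3, 2, 4, 3, 7, 9, 6, 5, 4, 3, 2], [1, 2, 3, 4, 5, 6, 7, 3, 2, 1, 4, 3, 5, 8, 7, 3, 2, 1, 4, 3, 2, 5, 4, 7, 3, 8, 7, 9, 6, 5, 4, 3, 2, 1, 0])] 1 0 3,
  .ref [(2, 0, [1, 0, 2, 1, 3, 4, 5, 6, 7, 3, 4, 5, 8, 7, 3, 2, 4, 3, 7, 9, 6, 5, 4, 3, 2], [1, 2, 3, 4, 5, 6, 7, 3, 2, 1, 4, 3, 5, 7, 8, 7, 3, 2, 1, 0, 4, 3, 2, 5, 4, 7, 3, 8, 7, 9, 6, 5, 4, 3, 2, 1, 0])] 1 0 3,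
  .ref [(2, 0, [1, 0, 2, 1, 3, 4, 5, 6, 7, 3, 4, 5, 8, 7, 3, 2, 4, 3, 7, 9, 6, 5, 4, 3, 2], [1, 2, 3, 4, 5, 6, 7, 3, 2, 1, 4, 3, 5, 7, 8, 7, 3, 2, 1, 4, 3, 2, 5, 4, 3, 7, 3, 8, 7, 9, 6, 5, 4, 3, 2, 1, 0])] 1 0 3,
  .ref [(2, 0, [1, 0, 2, 1, 3, 4, 5, 6, 7, 3, 4, 5, 8, 7, 3, 2, 4, 3, 7, 9, 6, 5, 4, 3, 2], [1, 2, 3, 4, 5, 6, 7, 3, 2, 1, 4, 3, 5, 7, 8, 7, 3, 2, 1, 4, 3, 2, 5, 4, 7, 3, 2, 8, 7, 9, 6, 5, 4, 3, 2, 1, 0])] 1 0 3,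
  .ref [(2, 0, [1, 0, 2, 1, 3, 4, 5, 6, 7, 3, 4, 5, 8, 7, 3, 2, 4, 3, 7, 9, 6, 5, 4, 3, 2], [1, 2, 3, 4, 5, 6, 7, 3, 2, 1, 4, 3, 2, 5, 8, 7, 3, 2, 1, 0, 4, 3, 2, 5, 4, 3, 7, 3, 8, 7, 9, 6, 5, 4, 3, 2, 1])] 1 0 3,
  .ref [(2, 0, [1, 0, 2, 1, 3, 4, 5, 6, 7, 3, 4, 5, 8, 7, 3, 2, 4, 3, 7, 9, 6, 5, 4, 3, 2], [1, 2, 3, 4, 5, 6, 7, 3, 2, 1, 4, 3, 2, 5, 8, 7, 3, 2, 1, 4, 3, 2, 5, 4, 6, 5, 7, 3, 8, 7, 9, 6, 5, 4, 3, 2, 1])] 1 0 3,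
  .ref [(2, 0, [1, 0, 2, 1, 3, 4, 5, 6, 7, 3, 4, 5, 8, 7, 3, 2, 4, 3, 7, 9, 6, 5, 4, 3, 2], [1, 2, 3, 4, 5, 6, 7, 3, 2, 1, 4, 3, 5, 7, 8, 7, 3, 2, 1, 4, 3, 2, 5, 4, 6, 7, 3, 8, 7, 9, 6, 5, 4, 3, 2, 1, 0])] 1 0 3,
  .ref [(2, 0, [1, 0, 2, 1, 3, 4, 5, 6, 7, 3, 4, 5, 8, 7, 3, 2, 4, 3, 7, 9, 6, 5, 4, 3, 2], [1, 2, 3, 4, 5, 6, 7, 3, 2, 1, 4, 3, 2, 5, 8, 7, 3, 2, 1, 4, 3, 2, 5, 4, 6, 7, 3, 4, 8, 7, 3, 2, 9, 6, 5, 4, 3])] 1 0 3,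
  .ref [(2, 0, [1, 0, 2, 1, 3, 4, 5, 6, 7, 3, 4, 5, 8, 7, 3, 2, 4, 3, 7, 9, 6, 5, 4, 3, 2], [1, 2, 3, 4, 5, 6, 7, 3, 2, 1, 4, 3, 2, 5, 8, 7, 3, 2, 1, 4, 3, 2, 5, 4, 7, 3, 2, 4, 8, 7, 3, 2, 9, 6, 5, 4, 3])] 1 0 3,
  .ref [(2, 0, [1, 0, 2, 1, 3, 4, 5, 6, 7, 3, 4, 5, 8, 7, 3, 2, 4, 3, 7, 9, 6, 5, 4, 3, 2], [1, 2, 3, 4, 5, 6, 7, 3, 2, 1, 4, 3, 2, 5, 8, 7, 3, 2, 1, 4, 3, 2, 5, 4, 3, 7, 3, 4, 8, 7, 3, 2, 9, 6, 5, 4, 3])] 1 0 3,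
  .ref [(2, 0, [1, 0, 2, 1, 3, 4, 5, 6, 7, 3, 4, 5, 8, 7, 3, 2, 4, 3, 7, 9, 6, 5, 4, 3, 2], [1, 2, 3, 4, 5, 6, 7, 3, 2, 1, 4, 3, 2, 5, 8, 7, 3, 2, 1, 4, 3, 2, 5, 4, 7, 3, 4, 8, 7, 3, 2, 1, 9, 6, 5, 4, 3])] 1 0 3,
  .ref [(2, 0, [1, 0, 2, 1, 3, 4, 5, 6, 7, 3, 4, 5, 8, 7, 3, 2, 4, 3, 7, 9, 6, 5, 4, 3, 2], [1, 2, 3, 4, 5, 6, 7, 3, 2, 1, 4, 3, 2, 5, 8, 7, 3, 2, 1, 0, 4, 3, 2, 5, 4, 7, 3, 2, 8, 7, 9, 6, 5, 4, 3, 2, 1])] 1 0 3,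
  .ref [(2, 0, [1, 0, 2, 1, 3, 4, 5, 6, 7, 3, 4, 5, 8, 7, 3, 2, 4, 3, 7, 9, 6, 5, 4, 3, 2], [1, 2, 3, 4, 5, 6, 7, 3, 2, 1, 4, 3, 5, 8, 7, 3, 2, 1, 0, 4, 3, 2, 5, 4, 7, 3, 2, 8, 7, 9, 6, 5, 4, 3, 2, 1, 0])] 1 0 3,
  .ref [(2, 0, [1, 0, 2, 1, 3, 4, 5, 6, 7, 3, 4, 5, 8, 7, 3, 2, 4, 3, 7, 9, 6, 5, 4, 3, 2], [1, 2, 3, 4, 5, 6, 7, 3, 2, 1, 4, 3, 2, 5, 8, 7, 3, 2, 1, 0, 4, 3, 2, 5, 4, 6, 7, 3, 8, 7, 9, 6, 5, 4, 3, 2, 1])] 1 0 3,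
  .ref [(2, 0, [1, 0, 2, 1, 3, 4, 5, 6, 7, 3, 4, 5, 8, 7, 3, 2, 4, 3, 7, 9, 6, 5, 4, 3, 2], [1, 2, 3, 4, 5, 6, 7, 3, 2, 1, 4, 3, 2, 5, 8, 7, 3, 2, 1, 0, 4, 3, 2, 5, 4, 7, 3, 8, 7, 9, 6, 5, 4, 3, 2, 1, 0])] 1 0 3,
  .ref [(2, 0, [1, 0, 2, 1, 3, 4, 5, 6, 7, 3, 4, 5, 8, 7, 3, 2, 4, 3, 7, 9, 6, 5, 4, 3, 2], [1, 2, 3, 4, 5, 6, 7, 3, 2, 1, 4, 3, 2, 5, 8, 7, 3, 2, 1, 4, 3, 2, 5, 4, 3, 7, 3, 8, 7, 9, 6, 5, 4, 3, 2, 1])] 1 0 3,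
  .ref [(2, 0, [1, 0, 2, 1, 3, 4, 5, 6, 7, 3, 4, 5, 8, 7, 3, 2, 4, 3, 7, 9, 6, 5, 4, 3, 2], [1, 2, 3, 4, 5, 6, 7, 3, 2, 1, 4, 3, 2, 5, 8, 7, 3, 2, 1, 4, 3, 2, 5, 4, 7, 3, 2, 8, 7, 9, 6, 5, 4, 3, 2, 1])] 1 0 3,
  .ref [(2, 0, [1, 0, 2, 1, 3, 4, 5, 6, 7, 3, 4, 5, 8, 7, 3, 2, 4, 3, 7, 9, 6, 5, 4, 3, 2], [1, 2, 3, 4, 5, 6, 7, 3, 2, 1, 4, 3, 2, 5, 8, 7, 3, 2, 1, 4, 3, 2, 5, 4, 7, 3, 8, 7, 9, 6, 5, 4, 3, 2, 1, 0])] 1 0 3,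
  .ref [(2, 0, [1, 0, 2, 1, 3, 4, 5, 6, 7, 3, 4, 5, 8, 7, 3, 2, 4, 3, 7, 9, 6, 5, 4, 3, 2], [1, 2, 3, 4, 5, 6, 7, 3, 2, 1, 4, 3, 2, 5, 8, 7, 3, 2, 1, 4, 3, 2, 5, 4, 6, 7, 3, 8, 7, 9, 6, 5, 4, 3, 2, 1])] 1 0 3,
  .ref [(2, 0, [1, 0, 2, 1, 3, 4, 5, 6, 7, 3, 4, 5, 8, 7, 3, 2, 4, 3, 7, 9, 6, 5, 4, 3, 2], [1, 2, 3, 4, 5, 6, 7, 3, 2, 1, 4, 3, 2, 5, 8, 7, 3, 2, 1, 4, 3, 2, 5, 4, 7, 3, 4, 8, 7, 3, 2, 9, 6, 5, 4, 3])] 1 0 3,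
  .ref [(2, 0, [1, 0, 2, 1, 3, 4, 5, 6, 7, 3, 4, 5, 8, 7, 3, 2, 4, 3, 7, 9, 6, 5, 4, 3, 2], [1, 2, 3, 4, 5, 6, 7, 3, 2, 1, 4, 3, 2, 5, 7, 8, 7, 3, 2, 1, 0, 4, 3, 2, 5, 4, 7, 3, 8, 7, 9, 6, 5, 4, 3, 2, 1, 0])] 1 0 3,
  .ref [(2, 0, [1, 0, 2, 1, 3, 4, 5, 6, 7, 3, 4, 5, 8, 7, 3, 2, 4, 3, 7, 9, 6, 5, 4, 3, 2], [1, 2, 3, 4, 5, 6, 7, 3, 2, 1, 4, 3, 2, 5, 7, 8, 7, 3, 2, 1, 4, 3, 2, 5, 4, 3, 7, 3, 8, 7, 9, 6, 5, 4, 3, 2, 1, 0])] 1 0 3,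
  .ref [(2, 0, [1, 0, 2, 1, 3, 4, 5, 6, 7, 3, 4, 5, 8, 7, 3, 2, 4, 3, 7, 9, 6, 5, 4, 3, 2], [1, 2, 3, 4, 5, 6, 7, 3, 2, 1, 4, 3, 5, 8, 7, 3, 2, 1, 4, 3, 2, 5, 4, 3, 7, 3, 2, 8, 7, 9, 6, 5, 4, 3, 2, 1])] 1 0 3,
  .ref [(2, 0, [1, 0, 2, 1, 3, 4, 5, 6, 7, 3, 4, 5, 8, 7, 3, 2, 4, 3, 7, 9, 6, 5, 4, 3, 2], [1, 2, 3, 4, 5, 6, 7, 3, 2, 1, 4, 3, 5, 8, 7, 3, 2, 1, 4, 3, 2, 5, 4, 6, 7, 3, 8, 7, 9, 6, 5, 4, 3, 2, 1, 0])] 1 0 3,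
  .ref [(2, 0, [1, 0, 2, 1, 3, 4, 5, 6, 7, 3, 4, 5, 8, 7, 3, 2, 4, 3, 7, 9, 6, 5, 4, 3, 2], [1, 2, 3, 4, 5, 6, 7, 3, 2, 1, 4, 3, 5, 8, 7, 3, 2, 1, 4, 3, 2, 5, 4, 7, 3, 2, 8, 7, 9, 6, 5, 4, 3, 2, 1, 0])] 1 0 3,
  .ref [(2, 0, [1, 0, 2, 1, 3, 4, 5, 6, 7, 3, 4, 5, 8, 7, 3, 2, 4, 3, 7, 9, 6, 5, 4, 3, 2], [1, 2, 3, 4, 5, 6, 7, 3, 2, 1, 4, 3, 5, 8, 7, 3, 2, 1, 4, 3, 2, 5, 4, 3, 7, 3, 2, 1, 4, 8, 7, 3, 2, 9, 6, 5, 4, 3])] 1 0 3,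
  .ref [(2, 0, [1, 0, 2, 1, 3, 4, 5, 6, 7, 3, 4, 5, 8, 7, 3, 2, 4, 3, 7, 9, 6, 5, 4, 3, 2], [1, 2, 3, 4, 5, 6, 7, 3, 2, 1, 4, 3, 2, 5, 8, 7, 3, 2, 1, 4, 3, 2, 5, 4, 3, 7, 3, 4, 5, 8, 7, 3, 2, 9, 6, 5, 4, 3])] 1 0 3,
  .ref [(2, 0, [1, 0, 2, 1, 3, 4, 5, 6, 7, 3, 4, 5, 8, 7, 3, 2, 4, 3, 7, 9, 6, 5, 4, 3, 2], [1, 2, 3, 4, 5, 6, 7, 3, 2, 1, 4, 3, 2, 5, 8, 7, 3, 2, 1, 4, 3, 2, 5, 4, 6, 7, 3, 4, 5, 8, 7, 3, 2, 9, 6, 5, 4, 3])] 1 0 3,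
  .ref [(2, 0, [1, 0, 2, 1, 3, 4, 5, 6, 7, 3, 4, 5, 8, 7, 3, 2, 4, 3, 7, 9, 6, 5, 4, 3, 2], [1, 2, 3, 4, 5, 6, 7, 3, 2, 1, 4, 3, 2, 5, 8, 7, 3, 2, 1, 4, 3, 2, 5, 4, 6, 7, 3, 4, 5, 8, 7, 3, 4, 9, 6, 5, 4, 3])] 1 0 3,
  .ref [(2, 0, [1, 0, 2, 1, 3, 4, 5, 6, 7, 3, 4, 5, 8, 7, 3, 2, 4, 3, 7, 9, 6, 5, 4, 3, 2], [1, 2, 3, 4, 5, 6, 7, 3, 2, 1, 4, 3, 2, 5, 8, 7, 3, 2, 1, 4, 3, 2, 5, 4, 7, 3, 2, 4, 5, 8, 7, 3, 4, 9, 6, 5, 4, 3])] 1 0 3,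
  .ref [(2, 0, [1, 0, 2, 1, 3, 4, 5, 6, 7, 3, 4, 5, 8, 7, 3, 2, 4, 3, 7, 9, 6, 5, 4, 3, 2], [1, 2, 3, 4, 5, 6, 7, 3, 2, 1, 4, 3, 2, 5, 8, 7, 3, 2, 1, 4, 3, 2, 5, 4, 3, 7, 3, 4, 8, 7, 3, 2, 1, 9, 6, 5, 4, 3])] 1 0 3,
  .ref [(2, 0, [1, 0, 2, 1, 3, 4, 5, 6, 7, 3, 4, 5, 8, 7, 3, 2, 4, 3, 7, 9, 6, 5, 4, 3, 2], [1, 2, 3, 4, 5, 6, 7, 3, 2, 1, 4, 3, 2, 5, 8, 7, 3, 2, 1, 0, 4, 3, 2, 5, 4, 3, 7, 3, 4, 8, 7, 3, 2, 9, 6, 5, 4, 3])] 1 0 3,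
  .ref [(2, 0, [1, 0, 2, 1, 3, 4, 5, 6, 7, 3, 4, 5, 8, 7, 3, 2, 4, 3, 7, 9, 6, 5, 4, 3, 2], [1, 2, 3, 4, 5, 6, 7, 3, 2, 1, 4, 3, 2, 5, 8, 7, 3, 2, 1, 0, 4, 3, 2, 5, 4, 7, 3, 2, 4, 8, 7, 3, 2, 9, 6, 5, 4, 3])] 1 0 3,
  .ref [(2, 0, [1, 0, 2, 1, 3, 4, 5, 6, 7, 3, 4, 5, 8, 7, 3, 2, 4, 3, 7, 9, 6, 5, 4, 3, 2], [1, 2, 3, 4, 5, 6, 7, 3, 2, 1, 4, 3, 5, 8, 7, 3, 2, 1, 4, 3, 2, 5, 4, 3, 7, 3, 8, 7, 9, 6, 5, 4, 3, 2, 1, 0])] 1 0 3,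
  .ref [(2, 0, [1, 0, 2, 1, 3, 4, 5, 6, 7, 3, 4, 5, 8, 7, 3, 2, 4, 3, 7, 9, 6, 5, 4, 3, 2], [1, 2, 3, 4, 5, 6, 7, 3, 2, 1, 4, 3, 2, 5, 8, 7, 3, 2, 1, 0, 4, 3, 2, 5, 4, 3, 7, 3, 8, 7, 9, 6, 5, 4, 3, 2, 1, 0])] 1 0 3,
  .ref [(2, 0, [1, 0, 2, 1, 3, 4, 5, 6, 7, 3, 4, 5, 8, 7, 3, 2, 4, 3, 7, 9, 6, 5, 4, 3, 2], [1, 2, 3, 4, 5, 6, 7, 3, 2, 1, 4, 3, 2, 5, 8, 7, 3, 2, 1, 4, 3, 2, 5, 4, 6, 5, 7, 3, 8, 7, 9, 6, 5, 4, 3, 2, 1, 0])] 1 0 3,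
  .ref [(2, 0, [1, 0, 2, 1, 3, 4, 5, 6, 7, 3, 4, 5, 8, 7, 3, 2, 4, 3, 7, 9, 6, 5, 4, 3, 2], [1, 2, 3, 4, 5, 6, 7, 3, 2, 1, 4, 3, 2, 5, 8, 7, 3, 2, 1, 0, 4, 3, 2, 5, 4, 7, 3, 2, 8, 7, 9, 6, 5, 4, 3, 2, 1, 0])] 1 0 3,
  .ref [(2, 0, [1, 0, 2, 1, 3, 4, 5, 6, 7, 3, 4, 5, 8, 7, 3, 2, 4, 3, 7, 9, 6, 5, 4, 3, 2], [1, 2, 3, 4, 5, 6, 7, 3, 2, 1, 4, 3, 2, 5, 8, 7, 3, 2, 1, 0, 4, 3, 2, 5, 4, 6, 7, 3, 8, 7, 9, 6, 5, 4, 3, 2, 1, 0])] 1 0 3,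
  .ref [(2, 0, [1, 0, 2, 1, 3, 4, 5, 6, 7, 3, 4, 5, 8, 7, 3, 2, 4, 3, 7, 9, 6, 5, 4, 3, 2], [1, 2, 3, 4, 5, 6, 7, 3, 2, 1, 4, 3, 2, 5, 8, 7, 3, 2, 1, 4, 3, 2, 5, 4, 3, 7, 3, 8, 7, 9, 6, 5, 4, 3, 2, 1, 0])] 1 0 3,
  .ref [(2, 0, [1, 0, 2, 1, 3, 4, 5, 6, 7, 3, 4, 5, 8, 7, 3, 2, 4, 3, 7, 9, 6, 5, 4, 3, 2], [1, 2, 3, 4, 5, 6, 7, 3, 2, 1, 4, 3, 2, 5, 8, 7, 3, 2, 1, 4, 3, 2, 5, 4, 7, 3, 2, 8, 7, 9, 6, 5, 4, 3, 2, 1, 0])] 1 0 3,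
  .ref [(2, 0, [1, 0, 2, 1, 3, 4, 5, 6, 7, 3, 4, 5, 8, 7, 3, 2, 4, 3, 7, 9, 6, 5, 4, 3, 2], [1, 2, 3, 4, 5, 6, 7, 3, 2, 1, 4, 3, 2, 5, 8, 7, 3, 2, 1, 4, 3, 2, 5, 4, 6, 7, 3, 8, 7, 9, 6, 5, 4, 3, 2, 1, 0])] 1 0 3,
  .ref [(2, 0, [1, 0, 2, 1, 3, 4, 5, 6, 7, 3, 4, 5, 8, 7, 3, 2, 4, 3, 7, 9, 6, 5, 4, 3, 2], [1, 2, 3, 4, 5, 6, 7, 3, 2, 1, 4, 3, 5, 8, 7, 3, 2, 1, 4, 3, 2, 5, 4, 3, 7, 3, 2, 8, 7, 9, 6, 5, 4, 3, 2, 1, 0])] 1 0 3]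

def cases3 : List Case := [
  .ref [] 1 1 3,
  .ref [] 1 2 3,
  .tr [],
  .tr [22, 15, 13, 10, 8, 7, 5, 2, 1, 1, 0],
  .ref [(3, 1, [1, 2, 3, 4, 5, 6, 7, 3, 2, 1, 4, 3, 2, 5, 4, 7, 9, 6, 5], [1, 2, 3, 4, 5, 6, 7, 3, 2, 1, 4, 3, 2, 5, 4, 3, 8, 7, 9, 6, 5])] 1 1 4,
  .tr [22, 21, 15, 13, 11, 10, 9, 8, 6, 6, 5, 4, 4, 2, 2, 1, 0, 0],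
  .ref [(3, 1, [1, 2, 3, 4, 5, 6, 7, 3, 2, 1, 4, 3, 2, 5, 4, 7, 9, 6, 5], [1, 2, 3, 4, 5, 6, 7, 3, 2, 1, 4, 3, 2, 5, 4, 3, 8, 7, 9, 6, 5, 4])] 1 1 4,
  .ref [(3, 1, [1, 2, 3, 4, 5, 6, 7, 3, 2, 1, 4, 3, 2, 5, 4, 7, 9, 6, 5], [1, 2, 3, 4, 5, 6, 7, 3, 2, 1, 4, 3, 2, 5, 4, 3, 8, 7, 3, 9, 6, 5])] 1 1 4,
  .tr [21, 21, 12, 9, 8, 6, 5, 4, 4, 3, 3, 2],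
  .ref [(3, 0, [1, 2, 3, 4, 5, 6, 7, 3, 2, 1, 4, 3, 2, 5, 4, 7, 9, 6, 5], [1, 0, 2, 3, 4, 5, 6, 7, 3, 2, 4, 3, 5, 4, 8, 7, 3, 2, 9, 6, 5, 4, 3, 7])] 1 0 4,
  .ref [(3, 1, [1, 2, 3, 4, 5, 6, 7, 3, 2, 1, 4, 3, 2, 5, 4, 7, 9, 6, 5], [1, 2, 3, 4, 5, 6, 7, 3, 2, 1, 4, 3, 2, 5, 4, 3, 8, 7, 9, 6, 5, 4, 3])] 1 1 4,
  .ref [(3, 1, [1, 2, 3, 4, 5, 6, 7, 3, 2, 1, 4, 3, 2, 5, 4, 7, 9, 6, 5], [1, 2, 3, 4, 5, 6, 7, 3, 2, 1, 4, 3, 2, 5, 4, 3, 8, 7, 3, 9, 6, 5, 4])] 1 1 4,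
  .ref [(3, 0, [1, 2, 3, 4, 5, 6, 7, 3, 2, 1, 4, 3, 2, 5, 4, 7, 9, 6, 5], [1, 2, 3, 4, 5, 6, 7, 3, 2, 4, 3, 5, 4, 8, 7, 3, 2, 9, 6, 5, 4, 3, 7])] 1 0 4,
  .ref [(3, 0, [1, 2, 3, 4, 5, 6, 7, 3, 2, 1, 4, 3, 2, 5, 4, 7, 9, 6, 5], [1, 0, 2, 3, 4, 5, 6, 7, 3, 2, 4, 3, 5, 4, 8, 7, 3, 2, 1, 9, 6, 5, 4, 3, 7])] 1 0 4,
  .ref [(3, 1, [1, 2, 3, 4, 5, 6, 7, 3, 2, 1, 4, 3, 2, 5, 4, 7, 9, 6, 5], [1, 2, 3, 4, 5, 6, 7, 3, 2, 1, 4, 3, 2, 5, 4, 3, 8, 7, 3, 9, 6, 5, 4, 3])] 1 1 4,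
  .ref [(3, 0, [1, 2, 3, 4, 5, 6, 7, 3, 2, 1, 4, 3, 2, 5, 4, 7, 9, 6, 5], [1, 2, 3, 4, 5, 6, 7, 3, 2, 4, 3, 5, 4, 8, 7, 3, 2, 1, 9, 6, 5, 4, 3, 7])] 1 0 4,
  .ref [(3, 0, [1, 2, 3, 4, 5, 6, 7, 3, 2, 1, 4, 3, 2, 5, 4, 7, 9, 6, 5], [1, 2, 3, 4, 5, 6, 7, 3, 4, 5, 8, 7, 3, 2, 4, 3, 7, 8, 9, 6, 5, 4, 3, 7])] 1 0 4,
  .ref [(3, 0, [1, 2, 3, 4, 5, 6, 7, 3, 2, 1, 4, 3, 2, 5, 4, 7, 9, 6, 5], [1, 2, 3, 4, 5, 6, 7, 3, 2, 4, 3, 5, 4, 8, 7, 3, 2, 1, 0, 9, 6, 5, 4, 3, 7])] 1 0 4,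
  .tr [22, 21, 21, 15, 9, 8, 6, 5, 5, 4, 4, 3, 3, 2],
  .ref [(3, 1, [1, 2, 3, 4, 5, 6, 7, 3, 2, 1, 4, 3, 2, 5, 4, 7, 9, 6, 5], [1, 2, 3, 4, 5, 6, 7, 3, 2, 1, 4, 3, 2, 5, 4, 3, 8, 7, 3, 4, 5, 9])] 1 1 4,
  .tr [21, 13, 10, 4, 0],
  .ref [(3, 1, [1, 2, 3, 4, 5, 6, 7, 3, 2, 1, 4, 3, 2, 5, 4, 7, 9, 6, 5], [1, 2, 3, 4, 5, 6, 7, 3, 2, 1, 4, 3, 2, 5, 4, 3, 8, 7, 3, 4, 5, 9, 6])] 1 1 4,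
  .ref [(3, 1, [1, 2, 3, 4, 5, 6, 7, 3, 2, 1, 4, 3, 2, 5, 4, 7, 9, 6, 5], [1, 2, 3, 4, 5, 6, 7, 3, 2, 1, 4, 3, 2, 5, 4, 3, 8, 7, 3, 4, 5])] 1 1 4,
  .ref [(3, 1, [1, 2, 3, 4, 5, 6, 7, 3, 2, 1, 4, 3, 2, 5, 4, 7, 9, 6, 5], [1, 2, 3, 4, 5, 6, 7, 3, 2, 1, 4, 3, 2, 5, 4, 3, 8, 7, 3, 4, 5, 6, 9, 6])] 1 1 4,
  .ref [(3, 1, [1, 2, 3, 4, 5, 6, 7, 3, 2, 1, 4, 3, 2, 5, 4, 7, 9, 6, 5], [1, 2, 3, 4, 5, 6, 7, 3, 2, 1, 4, 3, 2, 5, 4, 3, 8, 7, 3, 4, 5, 6])] 1 1 4,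
  .ref [(3, 1, [1, 2, 3, 4, 5, 6, 7, 3, 2, 1, 4, 3, 2, 5, 4, 7, 9, 6, 5], [1, 2, 3, 4, 5, 6, 7, 3, 2, 1, 4, 3, 2, 5, 4, 3, 8, 7, 3, 4, 5, 6, 9])] 1 1 4,
  .ref [(3, 1, [1, 2, 3, 4, 5, 6, 7, 3, 2, 1, 4, 3, 2, 5, 4, 7, 9, 6, 5], [1, 0, 2, 1, 3, 2, 4, 3, 5, 4, 6, 5, 9])] 1 1 4,
  .ref [(3, 1, [1, 2, 3, 4, 5, 6, 7, 3, 2, 1, 4, 3, 2, 5, 4, 7, 9, 6, 5], [1, 0, 2, 1, 3, 2, 4])] 1 1 4,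
  .ref [(3, 0, [1, 2, 3, 4, 5, 6, 7, 3, 2, 1, 4, 3, 2, 5, 4, 7, 9, 6, 5], [1, 2, 3, 4, 5, 6, 7, 3, 2, 1, 4, 3, 5, 4, 7, 8, 7, 3, 2, 1, 4, 3, 5, 4, 7, 9, 6, 5, 4, 3, 2, 7])] 1 0 4,
  .ref [(3, 1, [1, 2, 3, 4, 5, 6, 7, 3, 2, 1, 4, 3, 2, 5, 4, 7, 9, 6, 5], [1, 0, 2, 1, 3, 2, 4, 3, 5, 4, 6, 5, 9, 6])] 1 1 4,
  .ref [(3, 1, [1, 2, 3, 4, 5, 6, 7, 3, 2, 1, 4, 3, 2, 5, 4, 7, 9, 6, 5], [1, 0, 2, 1, 3, 2, 4, 3, 5, 4, 6, 5])] 1 1 4,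
  .ref [(3, 1, [1, 2, 3, 4, 5, 6, 7, 3, 2, 1, 4, 3, 2, 5, 4, 7, 9, 6, 5], [1, 0, 2, 1, 3, 2, 4, 3])] 1 1 4,
  .ref [(3, 1, [1, 2, 3, 4, 5, 6, 7, 3, 2, 1, 4, 3, 2, 5, 4, 7, 9, 6, 5], [1, 0, 2, 1, 3, 2])] 1 1 4,
  .ref [(3, 0, [1, 2, 3, 4, 5, 6, 7, 3, 2, 1, 4, 3, 2, 5, 4, 7, 9, 6, 5], [1, 0])] 1 0 4,
  .ref [(2, 1, [1, 0, 2, 1, 3, 4, 5, 6, 7, 3, 4, 5, 8, 7, 3, 2, 4, 3, 7, 9, 6, 5, 4, 3, 2], [1, 0, 2, 1, 3, 4, 5, 6, 7, 3, 4, 5, 8, 7, 3, 2, 4, 3, 7, 9, 6, 5, 4, 3, 2])] 1 3 4,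
  .ref [(3, 0, [1, 2, 3, 4, 5, 6, 7, 3, 2, 1, 4, 3, 2, 5, 4, 7, 9, 6, 5], [1, 2, 3, 4, 5, 6, 7, 3, 2, 1, 4, 3, 2, 5, 4, 7, 8, 7, 3, 2, 1, 4, 3, 5, 4, 7, 9, 6, 5, 4, 3, 2, 7])] 1 0 4,
  .ref [(3, 0, [1, 2, 3, 4, 5, 6, 7, 3, 2, 1, 4, 3, 2, 5, 4, 7, 9, 6, 5], [1, 2, 3, 4, 5, 6, 7, 3, 2, 1, 4, 5, 8, 7, 3, 2, 1, 4, 3, 2, 5, 7, 3, 4, 9, 6, 5, 4, 3, 2, 7])] 1 0 4,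
  .ref [(3, 0, [1, 2, 3, 4, 5, 6, 7, 3, 2, 1, 4, 3, 2, 5, 4, 7, 9, 6, 5], [1, 2, 3, 4, 5, 6, 7, 3, 2, 1, 4, 3, 5, 4, 7, 8, 7, 3, 2, 1, 4, 3, 5, 4, 7, 9, 6, 5, 4, 3, 2, 7, 3])] 1 0 4,
  .ref [(3, 0, [1, 2, 3, 4, 5, 6, 7, 3, 2, 1, 4, 3, 2, 5, 4, 7, 9, 6, 5], [1, 2, 3, 4, 5, 6, 7, 3, 2, 1, 4, 3, 5, 4, 7, 8, 7, 3, 2, 1, 4, 3, 5, 4, 7, 9, 6, 5, 4, 3, 2, 1, 7])] 1 0 4,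
  .ref [(3, 0, [1, 2, 3, 4, 5, 6, 7, 3, 2, 1, 4, 3, 2, 5, 4, 7, 9, 6, 5], [1, 2, 3, 4, 5, 6, 7, 3, 2, 1, 4, 3, 5, 4, 7, 8, 7, 3, 2, 1, 4, 3, 5, 4, 7, 3, 9, 6, 5, 4, 3, 2, 7])] 1 0 4,
  .ref [(3, 0, [1, 2, 3, 4, 5, 6, 7, 3, 2, 1, 4, 3, 2, 5, 4, 7, 9, 6, 5], [1, 2, 3, 4, 5, 6, 7, 3, 2, 1, 4, 3, 5, 4, 7, 8, 7, 3, 2, 1, 4, 3, 5, 4, 7, 9, 6, 5, 4, 3, 2, 7, 8])] 1 0 4,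
  .ref [(3, 0, [1, 2, 3, 4, 5, 6, 7, 3, 2, 1, 4, 3, 2, 5, 4, 7, 9, 6, 5], [1, 2, 3, 4, 5, 6, 7, 3, 2, 1, 4, 3, 5, 4, 7, 8, 7, 3, 2, 1, 4, 3, 5, 4, 6, 7, 9, 6, 5, 4, 3, 2, 7])] 1 0 4,
  .ref [(3, 0, [1, 2, 3, 4, 5, 6, 7, 3, 2, 1, 4, 3, 2, 5, 4, 7, 9, 6, 5], [1])] 1 0 4,
  .ref [(3, 0, [1, 2, 3, 4, 5, 6, 7, 3, 2, 1, 4, 3, 2, 5, 4, 7, 9, 6, 5], [1, 2, 3, 4, 5, 6, 7, 3, 2, 1, 4, 5, 8, 7, 3, 2, 1, 4, 3, 2, 5, 7, 3, 4, 5, 9, 6, 5, 4, 3, 2, 7])] 1 0 4,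
  .ref [(3, 0, [1, 2, 3, 4, 5, 6, 7, 3, 2, 1, 4, 3, 2, 5, 4, 7, 9, 6, 5], [1, 2, 3, 4, 5, 6, 7, 3, 2, 1, 4, 5, 8, 7, 3, 2, 1, 4, 3, 2, 5, 7, 3, 4, 9, 6, 5, 4, 3, 2, 7, 8])] 1 0 4,
  .ref [(3, 0, [1, 2, 3, 4, 5, 6, 7, 3, 2, 1, 4, 3, 2, 5, 4, 7, 9, 6, 5], [1, 2, 3, 4, 5, 6, 7, 3, 2, 1, 4, 3, 2, 5, 4, 7, 8, 7, 3, 2, 1, 4, 3, 5, 4, 7, 9, 6, 5, 4, 3, 2, 1, 7])] 1 0 4,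
  .ref [(3, 0, [1, 2, 3, 4, 5, 6, 7, 3, 2, 1, 4, 3, 2, 5, 4, 7, 9, 6, 5], [1, 2, 3, 4, 5, 6, 7, 3, 2, 1, 4, 3, 2, 5, 4, 7, 8, 7, 3, 2, 1, 4, 3, 5, 4, 7, 3, 9, 6, 5, 4, 3, 2, 7])] 1 0 4,
  .ref [(3, 0, [1, 2, 3, 4, 5, 6, 7, 3, 2, 1, 4, 3, 2, 5, 4, 7, 9, 6, 5], [1, 2, 3, 4, 5, 6, 7, 3, 2, 1, 4, 5, 8, 7, 3, 2, 1, 4, 3, 2, 5, 7, 3, 4, 9, 6, 5, 4, 3, 2, 7, 3])] 1 0 4,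
  .ref [(3, 0, [1, 2, 3, 4, 5, 6, 7, 3, 2, 1, 4, 3, 2, 5, 4, 7, 9, 6, 5], [1, 2, 3, 4, 5, 6, 7, 3, 2, 1, 4, 3, 5, 8, 7, 3, 2, 4, 3, 5, 4, 7, 3, 2, 1, 9, 6, 5, 4, 3, 2, 7])] 1 0 4,
  .ref [(3, 0, [1, 2, 3, 4, 5, 6, 7, 3, 2, 1, 4, 3, 2, 5, 4, 7, 9, 6, 5], [1, 2, 3, 4, 5, 6, 7, 3, 2, 1, 4, 3, 5, 4, 7, 8, 7, 3, 2, 1, 4, 3, 2, 5, 4, 7, 3, 8, 7, 9])] 1 0 4,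
  .ref [(3, 0, [1, 2, 3, 4, 5, 6, 7, 3, 2, 1, 4, 3, 2, 5, 4, 7, 9, 6, 5], [1, 2, 3, 4, 5, 6, 7, 3, 2, 1, 4, 5, 8, 7, 3, 2, 1, 4, 3, 2, 5, 7, 3, 4, 9, 6, 5, 4, 3, 2, 1, 7])] 1 0 4,
  .ref [(3, 0, [1, 2, 3, 4, 5, 6, 7, 3, 2, 1, 4, 3, 2, 5, 4, 7, 9, 6, 5], [1, 2, 3, 4, 5, 6, 7, 3, 2, 1, 4, 5, 8, 7, 3, 2, 1, 4, 3, 2, 5, 4, 7, 3, 4, 9, 6, 5, 4, 3, 2, 7])] 1 0 4,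
  .ref [(3, 0, [1, 2, 3, 4, 5, 6, 7, 3, 2, 1, 4, 3, 2, 5, 4, 7, 9, 6, 5], [1, 2, 3, 4, 5, 6, 7, 3, 2, 1, 4, 5, 8, 7, 3, 2, 1, 4, 3, 2, 5, 6, 7, 3, 4, 9, 6, 5, 4, 3, 2, 7])] 1 0 4,
  .ref [(3, 0, [1, 2, 3, 4, 5, 6, 7, 3, 2, 1, 4, 3, 2, 5, 4, 7, 9, 6, 5], [1, 2, 3, 4, 5, 6, 7, 3, 2, 1, 4, 3, 5, 4, 7, 8, 7, 3, 2, 1, 4, 3, 5, 4, 7, 9, 6, 5, 4, 3, 2, 1, 7, 3])] 1 0 4,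
  .ref [(3, 0, [1, 2, 3, 4, 5, 6, 7, 3, 2, 1, 4, 3, 2, 5, 4, 7, 9, 6, 5], [1, 2, 3, 4, 5, 6, 7, 3, 2, 1, 4, 3, 5, 4, 7, 8, 7, 3, 2, 1, 4, 3, 5, 4, 7, 9, 6, 5, 4, 3, 2, 7, 3, 4])] 1 0 4,
  .ref [(3, 0, [1, 2, 3, 4, 5, 6, 7, 3, 2, 1, 4, 3, 2, 5, 4, 7, 9, 6, 5], [1, 2, 3, 4, 5, 6, 7, 3, 2, 1, 4, 3, 5, 4, 7, 8, 7, 3, 2, 1, 4, 3, 5, 4, 6, 7, 9, 6, 5, 4, 3, 2, 7, 3])] 1 0 4,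
  .ref [(3, 0, [1, 2, 3, 4, 5, 6, 7, 3, 2, 1, 4, 3, 2, 5, 4, 7, 9, 6, 5], [1, 2, 3, 4, 5, 6, 7, 3, 2, 1, 4, 3, 5, 4, 7, 8, 7, 3, 2, 1, 4, 3, 5, 4, 7, 9, 6, 5, 4, 3, 2, 1, 0, 7])] 1 0 4,
  .ref [(3, 0, [1, 2, 3, 4, 5, 6, 7, 3, 2, 1, 4, 3, 2, 5, 4, 7, 9, 6, 5], [1, 2, 3, 4, 5, 6, 7, 3, 2, 1, 4, 3, 5, 4, 7, 8, 7, 3, 2, 1, 4, 3, 5, 4, 6, 7, 9, 6, 5, 4, 3, 2, 7, 8])] 1 0 4,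
  .ref [(3, 0, [1, 2, 3, 4, 5, 6, 7, 3, 2, 1, 4, 3, 2, 5, 4, 7, 9, 6, 5], [1, 2, 3, 4, 5, 6, 7, 3, 2, 1, 4, 3, 5, 4, 7, 8, 7, 3, 2, 1, 4, 3, 5, 4, 6, 7, 3, 9, 6, 5, 4, 3, 2, 7])] 1 0 4,
  .ref [(3, 0, [1, 2, 3, 4, 5, 6, 7, 3, 2, 1, 4, 3, 2, 5, 4, 7, 9, 6, 5], [1, 2, 3, 4, 5, 6, 7, 3, 2, 1, 4, 3, 5, 4, 7, 8, 7, 3, 2, 1, 4, 3, 5, 4, 6, 7, 9, 6, 5, 4, 3, 2, 1, 7])] 1 0 4,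
  .ref [(3, 0, [1, 2, 3, 4, 5, 6, 7, 3, 2, 1, 4, 3, 2, 5, 4, 7, 9, 6, 5], [1, 2, 3, 4, 5, 6, 7, 3, 2, 1, 4, 3, 5, 4, 7, 8, 7, 3, 2, 1, 4, 3, 5, 4, 7, 3, 9, 6, 5, 4, 3, 2, 7, 3])] 1 0 4,
  .ref [(3, 0, [1, 2, 3, 4, 5, 6, 7, 3, 2, 1, 4, 3, 2, 5, 4, 7, 9, 6, 5], [1, 2, 3, 4, 5, 6, 7, 3, 2, 1, 4, 3, 2, 5, 8, 7, 3, 2, 4, 3, 5, 4, 6, 7, 3, 2, 1, 9, 6, 5, 4, 3, 2, 7])] 1 0 4,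
  .ref [] 1 0 3,
  .ref [(3, 0, [1, 2, 3, 4, 5, 6, 7, 3, 2, 1, 4, 3, 2, 5, 4, 7, 9, 6, 5], [1, 2, 3, 4, 5, 6, 7, 3, 2, 1, 4, 5, 8, 7, 3, 2, 1, 4, 3, 2, 5, 7, 3, 4, 5, 9, 6, 5, 4, 3, 2, 1, 7])] 1 0 4,
  .ref [(3, 0, [1, 2, 3, 4, 5, 6, 7, 3, 2, 1, 4, 3, 2, 5, 4, 7, 9, 6, 5], [1, 2, 3, 4, 5, 6, 7, 3, 2, 1, 4, 5, 8, 7, 3, 2, 1, 4, 3, 2, 5, 4, 7, 3, 4, 5, 9, 6, 5, 4, 3, 2, 7])] 1 0 4,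
  .ref [(3, 0, [1, 2, 3, 4, 5, 6, 7, 3, 2, 1, 4, 3, 2, 5, 4, 7, 9, 6, 5], [1, 2, 3, 4, 5, 6, 7, 3, 2, 1, 4, 3, 5, 8, 7, 3, 2, 4, 3, 5, 4, 7, 3, 2, 1, 0, 9, 6, 5, 4, 3, 2, 7])] 1 0 4,
  .ref [(3, 0, [1, 2, 3, 4, 5, 6, 7, 3, 2, 1, 4, 3, 2, 5, 4, 7, 9, 6, 5], [1, 2, 3, 4, 5, 6, 7, 3, 2, 1, 4, 5, 8, 7, 3, 2, 1, 4, 3, 2, 5, 7, 3, 4, 9, 6, 5, 4, 3, 2, 1, 7, 8])] 1 0 4,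
  .ref [(3, 0, [1, 2, 3, 4, 5, 6, 7, 3, 2, 1, 4, 3, 2, 5, 4, 7, 9, 6, 5], [1, 2, 3, 4, 5, 6, 7, 3, 2, 1, 4, 5, 8, 7, 3, 2, 1, 4, 3, 2, 5, 4, 7, 3, 4, 9, 6, 5, 4, 3, 2, 7, 8])] 1 0 4,
  .ref [(3, 0, [1, 2, 3, 4, 5, 6, 7, 3, 2, 1, 4, 3, 2, 5, 4, 7, 9, 6, 5], [1, 2, 3, 4, 5, 6, 7, 3, 2, 1, 4, 3, 5, 8, 7, 3, 2, 4, 3, 5, 4, 7, 3, 2, 1, 9, 6, 5, 4, 3, 2, 7, 3])] 1 0 4,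
  .ref [(3, 0, [1, 2, 3, 4, 5, 6, 7, 3, 2, 1, 4, 3, 2, 5, 4, 7, 9, 6, 5], [1, 2, 3, 4, 5, 6, 7, 3, 2, 1, 4, 3, 2, 5, 4, 7, 8, 7, 3, 2, 1, 4, 3, 5, 4, 7, 9, 6, 5, 4, 3, 2, 1, 0, 7])] 1 0 4,
  .ref [(3, 0, [1, 2, 3, 4, 5, 6, 7, 3, 2, 1, 4, 3, 2, 5, 4, 7, 9, 6, 5], [1, 2, 3, 4, 5, 6, 7, 3, 2, 1, 4, 3, 2, 5, 4, 7, 8, 7, 3, 2, 1, 4, 3, 5, 4, 7, 3, 9, 6, 5, 4, 3, 2, 1, 7])] 1 0 4,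
  .ref [(3, 0, [1, 2, 3, 4, 5, 6, 7, 3, 2, 1, 4, 3, 2, 5, 4, 7, 9, 6, 5], [1, 2, 3, 4, 5, 6, 7, 3, 2, 1, 4, 5, 8, 7, 3, 2, 1, 4, 3, 2, 5, 7, 3, 4, 9, 6, 5, 4, 3, 2, 1, 7, 3])] 1 0 4,
  .ref [(3, 0, [1, 2, 3, 4, 5, 6, 7, 3, 2, 1, 4, 3, 2, 5, 4, 7, 9, 6, 5], [1, 2, 3, 4, 5, 6, 7, 3, 2, 1, 4, 3, 5, 8, 7, 3, 2, 4, 3, 5, 4, 7, 3, 2, 1, 9, 6, 5, 4, 3, 2, 1, 7])] 1 0 4,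
  .ref [(3, 0, [1, 2, 3, 4, 5, 6, 7, 3, 2, 1, 4, 3, 2, 5, 4, 7, 9, 6, 5], [1, 2, 3, 4, 5, 6, 7, 3, 2, 1, 4, 3, 2, 5, 4, 7, 8, 7, 3, 2, 1, 4, 3, 5, 4, 7, 3, 9, 6, 5, 4, 3, 2, 7, 3])] 1 0 4,
  .ref [(3, 0, [1, 2, 3, 4, 5, 6, 7, 3, 2, 1, 4, 3, 2, 5, 4, 7, 9, 6, 5], [1, 2, 3, 4, 5, 6, 7, 3, 2, 1, 4, 5, 8, 7, 3, 2, 1, 4, 3, 2, 5, 7, 3, 4, 9, 6, 5, 4, 3, 2, 7, 3, 4])] 1 0 4,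
  .ref [(3, 0, [1, 2, 3, 4, 5, 6, 7, 3, 2, 1, 4, 3, 2, 5, 4, 7, 9, 6, 5], [1, 2, 3, 4, 5, 6, 7, 3, 2, 1, 4, 3, 5, 4, 8, 7, 3, 2, 4, 3, 5, 4, 7, 3, 2, 1, 9, 6, 5, 4, 3, 2, 7])] 1 0 4,
  .ref [(3, 0, [1, 2, 3, 4, 5, 6, 7, 3, 2, 1, 4, 3, 2, 5, 4, 7, 9, 6, 5], [1, 2, 3, 4, 5, 6, 7, 3, 2, 1, 4, 3, 5, 8, 7, 3, 2, 4, 3, 5, 4, 7, 3, 2, 1, 9, 6, 5, 4, 3, 2, 7, 8])] 1 0 4,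
  .ref [(3, 0, [1, 2, 3, 4, 5, 6, 7, 3, 2, 1, 4, 3, 2, 5, 4, 7, 9, 6, 5], [1, 2, 3, 4, 5, 6, 7, 3, 2, 1, 4, 3, 2, 5, 8, 7, 3, 2, 4, 3, 5, 4, 7, 3, 2, 1, 9, 6, 5, 4, 3, 2, 7])] 1 0 4,
  .ref [(3, 0, [1, 2, 3, 4, 5, 6, 7, 3, 2, 1, 4, 3, 2, 5, 4, 7, 9, 6, 5], [1, 2, 3, 4, 5, 6, 7, 3, 2, 1, 4, 3, 5, 7, 8, 7, 3, 2, 1, 4, 3, 2, 5, 4, 7, 3, 8, 7, 9])] 1 0 4,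
  .ref [(3, 0, [1, 2, 3, 4, 5, 6, 7, 3, 2, 1, 4, 3, 2, 5, 4, 7, 9, 6, 5], [1, 2, 3, 4, 5, 6, 7, 3, 2, 1, 4, 3, 5, 4, 8, 7, 3, 2, 1, 4, 3, 2, 5, 4, 7, 3, 8, 7, 9])] 1 0 4,
  .ref [(3, 0, [1, 2, 3, 4, 5, 6, 7, 3, 2, 1, 4, 3, 2, 5, 4, 7, 9, 6, 5], [1, 2, 3, 4, 5, 6, 7, 3, 2, 1, 4, 3, 5, 8, 7, 3, 2, 1, 4, 3, 2, 5, 4, 7, 3, 4, 8, 7, 9])] 1 0 4,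
  .ref [(3, 0, [1, 2, 3, 4, 5, 6, 7, 3, 2, 1, 4, 3, 2, 5, 4, 7, 9, 6, 5], [1, 2, 3, 4, 5, 6, 7, 3, 2, 1, 4, 3, 5, 4, 7, 8, 7, 3, 2, 1, 4, 3, 2, 5, 4, 3, 7, 3, 8, 7, 9])] 1 0 4,
  .ref [(3, 0, [1, 2, 3, 4, 5, 6, 7, 3, 2, 1, 4, 3, 2, 5, 4, 7, 9, 6, 5], [1, 2, 3, 4, 5, 6, 7, 3, 2, 1, 4, 3, 5, 4, 7, 8, 7, 3, 2, 1, 4, 3, 2, 5, 4, 7, 3, 8, 7, 9, 6])] 1 0 4,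
  .ref [(3, 0, [1, 2, 3, 4, 5, 6, 7, 3, 2, 1, 4, 3, 2, 5, 4, 7, 9, 6, 5], [1, 2, 3, 4, 5, 6, 7, 3, 2, 1, 4, 3, 5, 8, 7, 3, 2, 1, 0, 4, 3, 2, 5, 4, 7, 3, 8, 7, 9])] 1 0 4,
  .ref [(3, 0, [1, 2, 3, 4, 5, 6, 7, 3, 2, 1, 4, 3, 2, 5, 4, 7, 9, 6, 5], [1, 2, 3, 4, 5, 6, 7, 3, 2, 1, 4, 3, 5, 4, 7, 8, 7, 3, 2, 1, 4, 3, 2, 5, 4, 7, 3, 8, 7])] 1 0 4,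
  .ref [(3, 0, [1, 2, 3, 4, 5, 6, 7, 3, 2, 1, 4, 3, 2, 5, 4, 7, 9, 6, 5], [1, 2, 3, 4, 5, 6, 7, 3, 2, 1, 4, 5, 8, 7, 3, 2, 1, 4, 3, 2, 5, 7, 3, 4, 9, 6, 5, 4, 3, 2, 1, 0, 7])] 1 0 4,
  .ref [(3, 0, [1, 2, 3, 4, 5, 6, 7, 3, 2, 1, 4, 3, 2, 5, 4, 7, 9, 6, 5], [1, 2, 3, 4, 5, 6, 7, 3, 2, 1, 4, 5, 8, 7, 3, 2, 1, 4, 3, 2, 5, 4, 7, 3, 4, 9, 6, 5, 4, 3, 2, 1, 7])] 1 0 4,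
  .ref [(3, 0, [1, 2, 3, 4, 5, 6, 7, 3, 2, 1, 4, 3, 2, 5, 4, 7, 9, 6, 5], [1, 2, 3, 4, 5, 6, 7, 3, 2, 1, 4, 5, 8, 7, 3, 2, 1, 4, 3, 2, 5, 6, 7, 3, 4, 9, 6, 5, 4, 3, 2, 1, 7])] 1 0 4,
  .ref [(3, 0, [1, 2, 3, 4, 5, 6, 7, 3, 2, 1, 4, 3, 2, 5, 4, 7, 9, 6, 5], [1, 2, 3, 4, 5, 6, 7, 3, 2, 1, 4, 5, 8, 7, 3, 2, 1, 4, 3, 2, 5, 4, 7, 3, 4, 9, 6, 5, 4, 3, 2, 7, 3])] 1 0 4,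
  .ref [(3, 0, [1, 2, 3, 4, 5, 6, 7, 3, 2, 1, 4, 3, 2, 5, 4, 7, 9, 6, 5], [1, 2, 3, 4, 5, 6, 7, 3, 2, 1, 4, 5, 8, 7, 3, 2, 1, 4, 3, 2, 5, 4, 6, 7, 3, 4, 9, 6, 5, 4, 3, 2, 7])] 1 0 4,
  .ref [(3, 0, [1, 2, 3, 4, 5, 6, 7, 3, 2, 1, 4, 3, 2, 5, 4, 7, 9, 6, 5], [1, 2, 3, 4, 5, 6, 7, 3, 2, 1, 4, 5, 8, 7, 3, 2, 1, 4, 3, 2, 5, 6, 7, 3, 4, 5, 9, 6, 5, 4, 3, 2, 7])] 1 0 4,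
  .ref [(3, 0, [1, 2, 3, 4, 5, 6, 7, 3, 2, 1, 4, 3, 2, 5, 4, 7, 9, 6, 5], [1, 2, 3, 4, 5, 6, 7, 3, 2, 1, 4, 3, 5, 4, 7, 8, 7, 3, 2, 1, 4, 3, 5, 4, 7, 9, 6, 5, 4, 3, 2, 1, 0, 7, 3])] 1 0 4,
  .ref [(3, 0, [1, 2, 3, 4, 5, 6, 7, 3, 2, 1, 4, 3, 2, 5, 4, 7, 9, 6, 5], [1, 2, 3, 4, 5, 6, 7, 3, 2, 1, 4, 3, 5, 4, 7, 8, 7, 3, 2, 1, 4, 3, 5, 4, 7, 9, 6, 5, 4, 3, 2, 1, 7, 3, 4])] 1 0 4,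
  .ref [(3, 0, [1, 2, 3, 4, 5, 6, 7, 3, 2, 1, 4, 3, 2, 5, 4, 7, 9, 6, 5], [1, 2, 3, 4, 5, 6, 7, 3, 2, 1, 4, 3, 5, 4, 7, 8, 7, 3, 2, 1, 4, 3, 5, 4, 6, 7, 9, 6, 5, 4, 3, 2, 1, 7, 3])] 1 0 4,
  .ref [(3, 0, [1, 2, 3, 4, 5, 6, 7, 3, 2, 1, 4, 3, 2, 5, 4, 7, 9, 6, 5], [1, 2, 3, 4, 5, 6, 7, 3, 2, 1, 4, 3, 5, 4, 7, 8, 7, 3, 2, 1, 4, 3, 5, 4, 7, 3, 9, 6, 5, 4, 3, 2, 7, 3, 4])] 1 0 4,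
  .ref [(3, 0, [1, 2, 3, 4, 5, 6, 7, 3, 2, 1, 4, 3, 2, 5, 4, 7, 9, 6, 5], [1, 2, 3, 4, 5, 6, 7, 3, 2, 1, 4, 3, 2, 5, 8, 7, 3, 2, 4, 3, 5, 4, 7, 3, 2, 1, 9, 6, 5, 4, 3, 2, 1, 0, 7])] 1 0 4,
  .ref [(3, 0, [1, 2, 3, 4, 5, 6, 7, 3, 2, 1, 4, 3, 2, 5, 4, 7, 9, 6, 5], [1, 2, 3, 4, 5, 6, 7, 3, 2, 1, 4, 3, 2, 5, 8, 7, 3, 2, 4, 3, 5, 4, 6, 7, 3, 2, 1, 9, 6, 5, 4, 3, 2, 7, 3])] 1 0 4,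
  .ref [(3, 0, [1, 2, 3, 4, 5, 6, 7, 3, 2, 1, 4, 3, 2, 5, 4, 7, 9, 6, 5], [1, 2, 3, 4, 5, 6, 7, 3, 2, 1, 4, 5, 8, 7, 3, 2, 1, 4, 3, 2, 5, 4, 6, 7, 3, 4, 9, 6, 5, 4, 3, 2, 7, 3])] 1 0 4,
  .ref [(3, 0, [1, 2, 3, 4, 5, 6, 7, 3, 2, 1, 4, 3, 2, 5, 4, 7, 9, 6, 5], [1, 2, 3, 4, 5, 6, 7, 3, 2, 1, 4, 5, 8, 7, 3, 2, 1, 4, 3, 2, 5, 4, 7, 3, 4, 5, 9, 6, 5, 4, 3, 2, 1, 7])] 1 0 4,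
  .ref [(3, 0, [1, 2, 3, 4, 5, 6, 7, 3, 2, 1, 4, 3, 2, 5, 4, 7, 9, 6, 5], [1, 2, 3, 4, 5, 6, 7, 3, 2, 1, 4, 5, 8, 7, 3, 2, 1, 4, 3, 2, 5, 4, 7, 3, 4, 5, 9, 6, 5, 4, 3, 2, 7, 3])] 1 0 4,
  .ref [(3, 0, [1, 2, 3, 4, 5, 6, 7, 3, 2, 1, 4, 3, 2, 5, 4, 7, 9, 6, 5], [1, 2, 3, 4, 5, 6, 7, 3, 2, 1, 4, 3, 5, 4, 8, 7, 3, 2, 4, 3, 5, 4, 7, 3, 2, 1, 0, 9, 6, 5, 4, 3, 2, 7])] 1 0 4,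
  .ref [(3, 0, [1, 2, 3, 4, 5, 6, 7, 3, 2, 1, 4, 3, 2, 5, 4, 7, 9, 6, 5], [1, 2, 3, 4, 5, 6, 7, 3, 2, 1, 4, 3, 2, 5, 8, 7, 3, 2, 4, 3, 5, 4, 7, 3, 2, 1, 0, 9, 6, 5, 4, 3, 2, 7])] 1 0 4,
  .ref [(3, 0, [1, 2, 3, 4, 5, 6, 7, 3, 2, 1, 4, 3, 2, 5, 4, 7, 9, 6, 5], [1, 2, 3, 4, 5, 6, 7, 3, 2, 1, 4, 5, 8, 7, 3, 2, 1, 4, 3, 2, 5, 4, 6, 7, 3, 4, 9, 6, 5, 4, 3, 2, 1, 7])] 1 0 4,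
  .ref [(3, 0, [1, 2, 3, 4, 5, 6, 7, 3, 2, 1, 4, 3, 2, 5, 4, 7, 9, 6, 5], [1, 2, 3, 4, 5, 6, 7, 3, 2, 1, 4, 5, 8, 7, 3, 2, 1, 4, 3, 2, 5, 4, 7, 3, 4, 9, 6, 5, 4, 3, 2, 1, 7, 8])] 1 0 4,
  .ref [(3, 0, [1, 2, 3, 4, 5, 6, 7, 3, 2, 1, 4, 3, 2, 5, 4, 7, 9, 6, 5], [1, 2, 3, 4, 5, 6, 7, 3, 2, 1, 4, 3, 5, 8, 7, 3, 2, 4, 3, 5, 4, 7, 3, 2, 1, 9, 6, 5, 4, 3, 2, 1, 7, 3])] 1 0 4,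
  .ref [(3, 0, [1, 2, 3, 4, 5, 6, 7, 3, 2, 1, 4, 3, 2, 5, 4, 7, 9, 6, 5], [1, 2, 3, 4, 5, 6, 7, 3, 2, 1, 4, 5, 8, 7, 3, 2, 1, 4, 3, 2, 5, 4, 7, 3, 4, 9, 6, 5, 4, 3, 2, 7, 3, 8])] 1 0 4,
  .ref [(3, 0, [1, 2, 3, 4, 5, 6, 7, 3, 2, 1, 4, 3, 2, 5, 4, 7, 9, 6, 5], [1, 2, 3, 4, 5, 6, 7, 3, 2, 1, 4, 3, 2, 5, 8, 7, 3, 2, 4, 3, 5, 4, 7, 3, 2, 1, 9, 6, 5, 4, 3, 2, 7, 3])] 1 0 4,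
  .ref [(3, 0, [1, 2, 3, 4, 5, 6, 7, 3, 2, 1, 4, 3, 2, 5, 4, 7, 9, 6, 5], [1, 2, 3, 4, 5, 6, 7, 3, 2, 1, 4, 5, 8, 7, 3, 2, 1, 4, 3, 2, 5, 4, 6, 7, 3, 4, 5, 9, 6, 5, 4, 3, 2, 7])] 1 0 4,
  .ref [(3, 0, [1, 2, 3, 4, 5, 6, 7, 3, 2, 1, 4, 3, 2, 5, 4, 7, 9, 6, 5], [1, 2, 3, 4, 5, 6, 7, 3, 2, 1, 4, 3, 5, 8, 7, 3, 2, 4, 3, 5, 4, 7, 3, 2, 1, 9, 6, 5, 4, 3, 2, 1, 0, 7])] 1 0 4,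
  .ref [(3, 0, [1, 2, 3, 4, 5, 6, 7, 3, 2, 1, 4, 3, 2, 5, 4, 7, 9, 6, 5], [1, 2, 3, 4, 5, 6, 7, 3, 2, 1, 4, 3, 2, 5, 8, 7, 3, 2, 4, 3, 5, 4, 7, 3, 2, 1, 9, 6, 5, 4, 3, 2, 7, 8])] 1 0 4,
  .ref [(3, 0, [1, 2, 3, 4, 5, 6, 7, 3, 2, 1, 4, 3, 2, 5, 4, 7, 9, 6, 5], [1, 2, 3, 4, 5, 6, 7, 3, 2, 1, 4, 3, 2, 5, 4, 8, 7, 3, 2, 4, 3, 5, 4, 7, 3, 2, 1, 9, 6, 5, 4, 3, 2, 7])] 1 0 4,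
  .ref [(3, 0, [1, 2, 3, 4, 5, 6, 7, 3, 2, 1, 4, 3, 2, 5, 4, 7, 9, 6, 5], [1, 2, 3, 4, 5, 6, 7, 3, 2, 1, 4, 3, 2, 5, 8, 7, 3, 2, 4, 3, 5, 4, 7, 3, 2, 1, 9, 6, 5, 4, 3, 2, 1, 7])] 1 0 4,
  .ref [(3, 0, [1, 2, 3, 4, 5, 6, 7, 3, 2, 1, 4, 3, 2, 5, 4, 7, 9, 6, 5], [1, 2, 3, 4, 5, 6, 7, 3, 2, 1, 4, 5, 8, 7, 3, 2, 1, 4, 3, 2, 5, 4, 7, 3, 4, 9, 6, 5, 4, 3, 2, 7, 3, 4])] 1 0 4,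
  .ref [(3, 0, [1, 2, 3, 4, 5, 6, 7, 3, 2, 1, 4, 3, 2, 5, 4, 7, 9, 6, 5], [1, 2, 3, 4, 5, 6, 7, 3, 2, 1, 4, 3, 5, 4, 8, 7, 3, 2, 4, 3, 5, 4, 7, 3, 2, 1, 9, 6, 5, 4, 3, 2, 7, 3])] 1 0 4,
  .ref [(3, 0, [1, 2, 3, 4, 5, 6, 7, 3, 2, 1, 4, 3, 2, 5, 4, 7, 9, 6, 5], [1, 2, 3, 4, 5, 6, 7, 3, 2, 1, 4, 3, 5, 8, 7, 3, 2, 1, 4, 3, 2, 5, 4, 7, 3, 8, 7, 9])] 1 0 4,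
  .ref [(3, 0, [1, 2, 3, 4, 5, 6, 7, 3, 2, 1, 4, 3, 2, 5, 4, 7, 9, 6, 5], [1, 2, 3, 4, 5, 6, 7, 3, 2, 1, 4, 3, 5, 7, 8, 7, 3, 2, 1, 0, 4, 3, 2, 5, 4, 7, 3, 8, 7, 9])] 1 0 4,
  .ref [(3, 0, [1, 2, 3, 4, 5, 6, 7, 3, 2, 1, 4, 3, 2, 5, 4, 7, 9, 6, 5], [1, 2, 3, 4, 5, 6, 7, 3, 2, 1, 4, 3, 5, 7, 8, 7, 3, 2, 1, 4, 3, 2, 5, 4, 3, 7, 3, 8, 7, 9])] 1 0 4,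
  .ref [(3, 0, [1, 2, 3, 4, 5, 6, 7, 3, 2, 1, 4, 3, 2, 5, 4, 7, 9, 6, 5], [1, 2, 3, 4, 5, 6, 7, 3, 2, 1, 4, 3, 5, 7, 8, 7, 3, 2, 1, 4, 3, 2, 5, 4, 7, 3, 8, 7, 9, 6])] 1 0 4,
  .ref [(3, 0, [1, 2, 3, 4, 5, 6, 7, 3, 2, 1, 4, 3, 2, 5, 4, 7, 9, 6, 5], [1, 2, 3, 4, 5, 6, 7, 3, 2, 1, 4, 3, 5, 7, 8, 7, 3, 2, 1, 4, 3, 2, 5, 4, 7, 3, 4, 8, 7, 9])] 1 0 4,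
  .ref [(3, 0, [1, 2, 3, 4, 5, 6, 7, 3, 2, 1, 4, 3, 2, 5, 4, 7, 9, 6, 5], [1, 2, 3, 4, 5, 6, 7, 3, 2, 1, 4, 3, 5, 7, 8, 7, 3, 2, 1, 4, 3, 2, 5, 4, 7, 3, 8, 7])] 1 0 4,
  .ref [(3, 0, [1, 2, 3, 4, 5, 6, 7, 3, 2, 1, 4, 3, 2, 5, 4, 7, 9, 6, 5], [1, 2, 3, 4, 5, 6, 7, 3, 2, 1, 4, 3, 5, 4, 8, 7, 3, 2, 1, 0, 4, 3, 2, 5, 4, 7, 3, 8, 7, 9])] 1 0 4,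
  .ref [(3, 0, [1, 2, 3, 4, 5, 6, 7, 3, 2, 1, 4, 3, 2, 5, 4, 7, 9, 6, 5], [1, 2, 3, 4, 5, 6, 7, 3, 2, 1, 4, 3, 5, 4, 8, 7, 3, 2, 1, 4, 3, 2, 5, 4, 3, 7, 3, 8, 7, 9])] 1 0 4,
  .ref [(3, 0, [1, 2, 3, 4, 5, 6, 7, 3, 2, 1, 4, 3, 2, 5, 4, 7, 9, 6, 5], [1, 2, 3, 4, 5, 6, 7, 3, 2, 1, 4, 3, 5, 4, 8, 7, 3, 2, 1, 4, 3, 2, 5, 4, 7, 3, 8, 7, 9, 6])] 1 0 4,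
  .ref [(3, 0, [1, 2, 3, 4, 5, 6, 7, 3, 2, 1, 4, 3, 2, 5, 4, 7, 9, 6, 5], [1, 2, 3, 4, 5, 6, 7, 3, 2, 1, 4, 3, 5, 4, 8, 7, 3, 2, 1, 4, 3, 2, 5, 4, 7, 3, 4, 8, 7, 9])] 1 0 4,
  .ref [(3, 0, [1, 2, 3, 4, 5, 6, 7, 3, 2, 1, 4, 3, 2, 5, 4, 7, 9, 6, 5], [1, 2, 3, 4, 5, 6, 7, 3, 2, 1, 4, 3, 5, 4, 8, 7, 3, 2, 1, 4, 3, 2, 5, 4, 7, 3, 8, 7])] 1 0 4,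
  .ref [(3, 0, [1, 2, 3, 4, 5, 6, 7, 3, 2, 1, 4, 3, 2, 5, 4, 7, 9, 6, 5], [1, 2, 3, 4, 5, 6, 7, 3, 2, 1, 4, 3, 5, 8, 7, 3, 2, 1, 4, 3, 2, 5, 4, 3, 7, 3, 4, 8, 7, 9])] 1 0 4,
  .ref [(3, 0, [1, 2, 3, 4, 5, 6, 7, 3, 2, 1, 4, 3, 2, 5, 4, 7, 9, 6, 5], [1, 2, 3, 4, 5, 6, 7, 3, 2, 1, 4, 3, 5, 8, 7, 3, 2, 1, 4, 3, 2, 5, 4, 7, 3, 4, 8, 7, 9, 6])] 1 0 4,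
  .ref [(3, 0, [1, 2, 3, 4, 5, 6, 7, 3, 2, 1, 4, 3, 2, 5, 4, 7, 9, 6, 5], [1, 2, 3, 4, 5, 6, 7, 3, 2, 1, 4, 3, 5, 8, 7, 3, 2, 1, 4, 3, 2, 5, 4, 7, 3, 4, 8, 7])] 1 0 4,
  .ref [(3, 0, [1, 2, 3, 4, 5, 6, 7, 3, 2, 1, 4, 3, 2, 5, 4, 7, 9, 6, 5], [1, 2, 3, 4, 5, 6, 7, 3, 2, 1, 4, 3, 5, 4, 7, 8, 7, 3, 2, 1, 4, 3, 2, 5, 4, 3, 7, 3, 8, 7, 9, 6])] 1 0 4,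
  .ref [(3, 0, [1, 2, 3, 4, 5, 6, 7, 3, 2, 1, 4, 3, 2, 5, 4, 7, 9, 6, 5], [1, 2, 3, 4, 5, 6, 7, 3, 2, 1, 4, 3, 5, 7, 8, 7, 3, 2, 1, 4, 3, 2, 5, 4, 6, 7, 3, 8, 7, 9])] 1 0 4,
  .ref [(3, 0, [1, 2, 3, 4, 5, 6, 7, 3, 2, 1, 4, 3, 2, 5, 4, 7, 9, 6, 5], [1, 2, 3, 4, 5, 6, 7, 3, 2, 1, 4, 3, 5, 4, 7, 8, 7, 3, 2, 1, 4, 3, 2, 5, 4, 3, 7, 3, 8, 7])] 1 0 4,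
  .ref [(3, 0, [1, 2, 3, 4, 5, 6, 7, 3, 2, 1, 4, 3, 2, 5, 4, 7, 9, 6, 5], [1, 2, 3, 4, 5, 6, 7, 3, 2, 1, 4, 3, 5, 8, 7, 3, 2, 1, 0, 4, 3, 2, 5, 4, 7, 3, 8, 7, 9, 6])] 1 0 4,
  .ref [(3, 0, [1, 2, 3, 4, 5, 6, 7, 3, 2, 1, 4, 3, 2, 5, 4, 7, 9, 6, 5], [1, 2, 3, 4, 5, 6, 7, 3, 2, 1, 4, 3, 5, 4, 7, 8, 7, 3, 2, 1, 4, 3, 2, 5, 4, 6, 7, 3, 8, 7, 9, 6])] 1 0 4,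
  .ref [(3, 0, [1, 2, 3, 4, 5, 6, 7, 3, 2, 1, 4, 3, 2, 5, 4, 7, 9, 6, 5], [1, 2, 3, 4, 5, 6, 7, 3, 2, 1, 4, 3, 5, 8, 7, 3, 2, 1, 0, 4, 3, 2, 5, 4, 7, 3, 8, 7])] 1 0 4,
  .ref [(3, 0, [1, 2, 3, 4, 5, 6, 7, 3, 2, 1, 4, 3, 2, 5, 4, 7, 9, 6, 5], [1, 2, 3, 4, 5, 6, 7, 3, 2, 1, 4, 3, 5, 4, 7, 8, 7, 3, 2, 1, 4, 3, 2, 5, 4, 6, 7, 3, 8, 7])] 1 0 4,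
  .ref [(3, 0, [1, 2, 3, 4, 5, 6, 7, 3, 2, 1, 4, 3, 2, 5, 4, 7, 9, 6, 5], [1, 2, 3, 4, 5, 6, 7, 3, 2, 1, 4, 3, 5, 8, 7, 3, 2, 1, 4, 3, 2, 5, 4, 6, 7, 3, 8, 7, 9])] 1 0 4,
  .ref [(3, 0, [1, 2, 3, 4, 5, 6, 7, 3, 2, 1, 4, 3, 2, 5, 4, 7, 9, 6, 5], [1, 2, 3, 4, 5, 6, 7, 3, 2, 1, 4, 3, 2, 5, 8, 7, 3, 2, 4, 3, 5, 4, 7, 3, 2, 1, 9, 6, 5, 4, 3, 2, 1, 7, 3])] 1 0 4,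
  .ref [(3, 0, [1, 2, 3, 4, 5, 6, 7, 3, 2, 1, 4, 3, 2, 5, 4, 7, 9, 6, 5], [1, 2, 3, 4, 5, 6, 7, 3, 2, 1, 4, 3, 2, 5, 4, 8, 7, 3, 2, 4, 3, 5, 4, 7, 3, 2, 1, 0, 9, 6, 5, 4, 3, 2, 7])] 1 0 4,
  .ref [(3, 0, [1, 2, 3, 4, 5, 6, 7, 3, 2, 1, 4, 3, 2, 5, 4, 7, 9, 6, 5], [1, 2, 3, 4, 5, 6, 7, 3, 2, 1, 4, 3, 5, 8, 7, 3, 2, 1, 4, 3, 2, 5, 4, 3, 7, 3, 8, 7, 9])] 1 0 4,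
  .ref [(3, 0, [1, 2, 3, 4, 5, 6, 7, 3, 2, 1, 4, 3, 2, 5, 4, 7, 9, 6, 5], [1, 2, 3, 4, 5, 6, 7, 3, 2, 1, 4, 3, 5, 8, 7, 3, 2, 1, 4, 3, 2, 5, 4, 7, 3, 8, 7, 9, 6])] 1 0 4,
  .ref [(3, 0, [1, 2, 3, 4, 5, 6, 7, 3, 2, 1, 4, 3, 2, 5, 4, 7, 9, 6, 5], [1, 2, 3, 4, 5, 6, 7, 3, 2, 1, 4, 3, 5, 8, 7, 3, 2, 1, 4, 3, 2, 5, 4, 7, 3, 8, 7])] 1 0 4,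
  .ref [(3, 0, [1, 2, 3, 4, 5, 6, 7, 3, 2, 1, 4, 3, 2, 5, 4, 7, 9, 6, 5], [1, 2, 3, 4, 5, 6, 7, 3, 2, 1, 4, 3, 5, 4, 8, 7, 3, 2, 1, 0, 4, 3, 2, 5, 4, 7, 3, 4, 8, 7, 9])] 1 0 4,
  .ref [(3, 0, [1, 2, 3, 4, 5, 6, 7, 3, 2, 1, 4, 3, 2, 5, 4, 7, 9, 6, 5], [1, 2, 3, 4, 5, 6, 7, 3, 2, 1, 4, 3, 5, 7, 8, 7, 3, 2, 1, 0, 4, 3, 2, 5, 4, 7, 3, 8, 7, 9, 6])] 1 0 4,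
  .ref [(3, 0, [1, 2, 3, 4, 5, 6, 7, 3, 2, 1, 4, 3, 2, 5, 4, 7, 9, 6, 5], [1, 2, 3, 4, 5, 6, 7, 3, 2, 1, 4, 3, 5, 4, 8, 7, 3, 2, 1, 0, 4, 3, 2, 1, 5, 4, 7, 3, 8, 7, 9])] 1 0 4,
  .ref [(3, 0, [1, 2, 3, 4, 5, 6, 7, 3, 2, 1, 4, 3, 2, 5, 4, 7, 9, 6, 5], [1, 2, 3, 4, 5, 6, 7, 3, 2, 1, 4, 3, 5, 7, 8, 7, 3, 2, 1, 0, 4, 3, 2, 5, 4, 7, 3, 8, 7])] 1 0 4,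
  .ref [(3, 0, [1, 2, 3, 4, 5, 6, 7, 3, 2, 1, 4, 3, 2, 5, 4, 7, 9, 6, 5], [1, 2, 3, 4, 5, 6, 7, 3, 2, 1, 4, 3, 5, 7, 8, 7, 3, 2, 1, 4, 3, 2, 5, 4, 3, 7, 3, 8, 7, 9, 6])] 1 0 4,
  .ref [(3, 0, [1, 2, 3, 4, 5, 6, 7, 3, 2, 1, 4, 3, 2, 5, 4, 7, 9, 6, 5], [1, 2, 3, 4, 5, 6, 7, 3, 2, 1, 4, 3, 5, 4, 7, 8, 7, 3, 2, 1, 4, 3, 2, 5, 4, 6, 7, 3, 8, 7, 9])] 1 0 4,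
  .ref [(3, 0, [1, 2, 3, 4, 5, 6, 7, 3, 2, 1, 4, 3, 2, 5, 4, 7, 9, 6, 5], [1, 2, 3, 4, 5, 6, 7, 3, 2, 1, 4, 3, 5, 7, 8, 7, 3, 2, 1, 4, 3, 2, 5, 4, 3, 7, 3, 8, 7])] 1 0 4,
  .ref [(3, 0, [1, 2, 3, 4, 5, 6, 7, 3, 2, 1, 4, 3, 2, 5, 4, 7, 9, 6, 5], [1, 2, 3, 4, 5, 6, 7, 3, 2, 1, 4, 3, 5, 7, 8, 7, 3, 2, 1, 4, 3, 2, 5, 4, 7, 3, 4, 8, 7, 9, 6])] 1 0 4,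
  .ref [(3, 0, [1, 2, 3, 4, 5, 6, 7, 3, 2, 1, 4, 3, 2, 5, 4, 7, 9, 6, 5], [1, 2, 3, 4, 5, 6, 7, 3, 2, 1, 4, 3, 5, 7, 8, 7, 3, 2, 1, 4, 3, 2, 5, 4, 6, 7, 3, 8, 7, 9, 6])] 1 0 4,
  .ref [(3, 0, [1, 2, 3, 4, 5, 6, 7, 3, 2, 1, 4, 3, 2, 5, 4, 7, 9, 6, 5], [1, 2, 3, 4, 5, 6, 7, 3, 2, 1, 4, 3, 5, 7, 8, 7, 3, 2, 1, 4, 3, 2, 5, 4, 7, 3, 4, 8, 7])] 1 0 4,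
  .ref [(3, 0, [1, 2, 3, 4, 5, 6, 7, 3, 2, 1, 4, 3, 2, 5, 4, 7, 9, 6, 5], [1, 2, 3, 4, 5, 6, 7, 3, 2, 1, 4, 3, 5, 7, 8, 7, 3, 2, 1, 4, 3, 2, 5, 4, 6, 7, 3, 8, 7])] 1 0 4,
  .ref [(3, 0, [1, 2, 3, 4, 5, 6, 7, 3, 2, 1, 4, 3, 2, 5, 4, 7, 9, 6, 5], [1, 2, 3, 4, 5, 6, 7, 3, 2, 1, 4, 3, 5, 4, 8, 7, 3, 2, 1, 0, 4, 3, 2, 5, 4, 3, 7, 3, 8, 7, 9])] 1 0 4,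
  .ref [(3, 0, [1, 2, 3, 4, 5, 6, 7, 3, 2, 1, 4, 3, 2, 5, 4, 7, 9, 6, 5], [1, 2, 3, 4, 5, 6, 7, 3, 2, 1, 4, 3, 5, 4, 8, 7, 3, 2, 1, 0, 4, 3, 2, 5, 4, 7, 3, 8, 7, 9, 6])] 1 0 4,
  .ref [(3, 0, [1, 2, 3, 4, 5, 6, 7, 3, 2, 1, 4, 3, 2, 5, 4, 7, 9, 6, 5], [1, 2, 3, 4, 5, 6, 7, 3, 2, 1, 4, 3, 5, 4, 8, 7, 3, 2, 1, 0, 4, 3, 2, 5, 4, 7, 3, 8, 7])] 1 0 4,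
  .ref [(3, 0, [1, 2, 3, 4, 5, 6, 7, 3, 2, 1, 4, 3, 2, 5, 4, 7, 9, 6, 5], [1, 2, 3, 4, 5, 6, 7, 3, 2, 1, 4, 3, 5, 4, 8, 7, 3, 2, 1, 4, 3, 2, 5, 4, 3, 7, 3, 8, 7, 9, 6])] 1 0 4,
  .ref [(3, 0, [1, 2, 3, 4, 5, 6, 7, 3, 2, 1, 4, 3, 2, 5, 4, 7, 9, 6, 5], [1, 2, 3, 4, 5, 6, 7, 3, 2, 1, 4, 3, 5, 4, 8, 7, 3, 2, 1, 0, 4, 3, 2, 5, 4, 6, 7, 3, 8, 7, 9])] 1 0 4,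
  .ref [(3, 0, [1, 2, 3, 4, 5, 6, 7, 3, 2, 1, 4, 3, 2, 5, 4, 7, 9, 6, 5], [1, 2, 3, 4, 5, 6, 7, 3, 2, 1, 4, 3, 5, 4, 8, 7, 3, 2, 1, 4, 3, 2, 5, 4, 3, 7, 3, 8, 7])] 1 0 4,
  .ref [(3, 0, [1, 2, 3, 4, 5, 6, 7, 3, 2, 1, 4, 3, 2, 5, 4, 7, 9, 6, 5], [1, 2, 3, 4, 5, 6, 7, 3, 2, 1, 4, 3, 5, 4, 8, 7, 3, 2, 1, 4, 3, 2, 5, 4, 7, 3, 4, 8, 7, 9, 6])] 1 0 4,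
  .ref [(3, 0, [1, 2, 3, 4, 5, 6, 7, 3, 2, 1, 4, 3, 2, 5, 4, 7, 9, 6, 5], [1, 2, 3, 4, 5, 6, 7, 3, 2, 1, 4, 3, 5, 4, 8, 7, 3, 2, 1, 4, 3, 2, 5, 4, 6, 7, 3, 8, 7, 9, 6])] 1 0 4,
  .ref [(3, 0, [1, 2, 3, 4, 5, 6, 7, 3, 2, 1, 4, 3, 2, 5, 4, 7, 9, 6, 5], [1, 2, 3, 4, 5, 6, 7, 3, 2, 1, 4, 3, 5, 4, 8, 7, 3, 2, 1, 4, 3, 2, 5, 4, 7, 3, 4, 8, 7])] 1 0 4,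
  .ref [(3, 0, [1, 2, 3, 4, 5, 6, 7, 3, 2, 1, 4, 3, 2, 5, 4, 7, 9, 6, 5], [1, 2, 3, 4, 5, 6, 7, 3, 2, 1, 4, 3, 5, 4, 8, 7, 3, 2, 1, 4, 3, 2, 5, 4, 6, 7, 3, 8, 7])] 1 0 4,
  .ref [(3, 0, [1, 2, 3, 4, 5, 6, 7, 3, 2, 1, 4, 3, 2, 5, 4, 7, 9, 6, 5], [1, 2, 3, 4, 5, 6, 7, 3, 2, 1, 4, 3, 5, 8, 7, 3, 2, 1, 4, 3, 2, 5, 4, 3, 7, 3, 4, 8, 7, 9, 6])] 1 0 4,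
  .ref [(3, 0, [1, 2, 3, 4, 5, 6, 7, 3, 2, 1, 4, 3, 2, 5, 4, 7, 9, 6, 5], [1, 2, 3, 4, 5, 6, 7, 3, 2, 1, 4, 3, 5, 8, 7, 3, 2, 1, 4, 3, 2, 5, 4, 3, 7, 3, 4, 8, 7])] 1 0 4,
  .ref [(3, 0, [1, 2, 3, 4, 5, 6, 7, 3, 2, 1, 4, 3, 2, 5, 4, 7, 9, 6, 5], [1, 2, 3, 4, 5, 6, 7, 3, 2, 1, 4, 3, 5, 8, 7, 3, 2, 1, 4, 3, 2, 5, 4, 6, 7, 3, 4, 8, 7, 9, 6])] 1 0 4,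
  .ref [(3, 0, [1, 2, 3, 4, 5, 6, 7, 3, 2, 1, 4, 3, 2, 5, 4, 7, 9, 6, 5], [1, 2, 3, 4, 5, 6, 7, 3, 2, 1, 4, 3, 5, 8, 7, 3, 2, 1, 4, 3, 2, 5, 4, 6, 7, 3, 4, 8, 7])] 1 0 4,
  .ref [(3, 0, [1, 2, 3, 4, 5, 6, 7, 3, 2, 1, 4, 3, 2, 5, 4, 7, 9, 6, 5], [1, 2, 3, 4, 5, 6, 7, 3, 2, 1, 4, 3, 5, 8, 7, 3, 2, 1, 4, 3, 2, 5, 4, 6, 7, 3, 8, 7, 9, 6])] 1 0 4,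
  .ref [(3, 0, [1, 2, 3, 4, 5, 6, 7, 3, 2, 1, 4, 3, 2, 5, 4, 7, 9, 6, 5], [1, 2, 3, 4, 5, 6, 7, 3, 2, 1, 4, 3, 5, 4, 8, 7, 3, 2, 1, 4, 3, 2, 5, 4, 6, 7, 3, 8, 7, 9])] 1 0 4,
  .ref [(3, 0, [1, 2, 3, 4, 5, 6, 7, 3, 2, 1, 4, 3, 2, 5, 4, 7, 9, 6, 5], [1, 2, 3, 4, 5, 6, 7, 3, 2, 1, 4, 3, 5, 8, 7, 3, 2, 1, 4, 3, 2, 5, 4, 6, 7, 3, 4, 8, 7, 9])] 1 0 4,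
  .ref [(3, 0, [1, 2, 3, 4, 5, 6, 7, 3, 2, 1, 4, 3, 2, 5, 4, 7, 9, 6, 5], [1, 2, 3, 4, 5, 6, 7, 3, 2, 1, 4, 3, 5, 8, 7, 3, 2, 1, 4, 3, 2, 5, 4, 6, 7, 3, 8, 7])] 1 0 4,
  .ref [(3, 0, [1, 2, 3, 4, 5, 6, 7, 3, 2, 1, 4, 3, 2, 5, 4, 7, 9, 6, 5], [1, 2, 3, 4, 5, 6, 7, 3, 2, 1, 4, 3, 5, 8, 7, 3, 2, 1, 4, 3, 2, 5, 4, 3, 7, 3, 8, 7, 9, 6])] 1 0 4,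
  .ref [(3, 0, [1, 2, 3, 4, 5, 6, 7, 3, 2, 1, 4, 3, 2, 5, 4, 7, 9, 6, 5], [1, 2, 3, 4, 5, 6, 7, 3, 2, 1, 4, 3, 5, 8, 7, 3, 2, 1, 4, 3, 2, 5, 4, 3, 7, 3, 8, 7])] 1 0 4,
  .ref [(3, 0, [1, 2, 3, 4, 5, 6, 7, 3, 2, 1, 4, 3, 2, 5, 4, 7, 9, 6, 5], [1, 2, 3, 4, 5, 6, 7, 3, 2, 1, 4, 3, 5, 4, 8, 7, 3, 2, 1, 0, 4, 3, 2, 5, 4, 7, 3, 4, 8, 7, 9, 6])] 1 0 4,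
  .ref [(3, 0, [1, 2, 3, 4, 5, 6, 7, 3, 2, 1, 4, 3, 2, 5, 4, 7, 9, 6, 5], [1, 2, 3, 4, 5, 6, 7, 3, 2, 1, 4, 3, 5, 4, 8, 7, 3, 2, 1, 0, 4, 3, 2, 5, 4, 7, 3, 4, 8, 7])] 1 0 4,
  .ref [(3, 0, [1, 2, 3, 4, 5, 6, 7, 3, 2, 1, 4, 3, 2, 5, 4, 7, 9, 6, 5], [1, 2, 3, 4, 5, 6, 7, 3, 2, 1, 4, 3, 5, 4, 8, 7, 3, 2, 1, 0, 4, 3, 2, 1, 5, 4, 7, 3, 8, 7, 9, 6])] 1 0 4,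
  .ref [(3, 0, [1, 2, 3, 4, 5, 6, 7, 3, 2, 1, 4, 3, 2, 5, 4, 7, 9, 6, 5], [1, 2, 3, 4, 5, 6, 7, 3, 2, 1, 4, 3, 5, 4, 8, 7, 3, 2, 1, 0, 4, 3, 2, 1, 5, 4, 7, 3, 8, 7])] 1 0 4,
  .ref [(3, 0, [1, 2, 3, 4, 5, 6, 7, 3, 2, 1, 4, 3, 2, 5, 4, 7, 9, 6, 5], [1, 2, 3, 4, 5, 6, 7, 3, 2, 1, 4, 3, 5, 4, 8, 7, 3, 2, 1, 0, 4, 3, 2, 5, 4, 3, 7, 3, 8, 7, 9, 6])] 1 0 4,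
  .ref [(3, 0, [1, 2, 3, 4, 5, 6, 7, 3, 2, 1, 4, 3, 2, 5, 4, 7, 9, 6, 5], [1, 2, 3, 4, 5, 6, 7, 3, 2, 1, 4, 3, 5, 4, 8, 7, 3, 2, 1, 0, 4, 3, 2, 5, 4, 3, 7, 3, 8, 7])] 1 0 4,
  .ref [(3, 0, [1, 2, 3, 4, 5, 6, 7, 3, 2, 1, 4, 3, 2, 5, 4, 7, 9, 6, 5], [1, 2, 3, 4, 5, 6, 7, 3, 2, 1, 4, 3, 5, 4, 8, 7, 3, 2, 1, 0, 4, 3, 2, 5, 4, 6, 7, 3, 8, 7, 9, 6])] 1 0 4,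
  .ref [(3, 0, [1, 2, 3, 4, 5, 6, 7, 3, 2, 1, 4, 3, 2, 5, 4, 7, 9, 6, 5], [1, 2, 3, 4, 5, 6, 7, 3, 2, 1, 4, 3, 5, 4, 8, 7, 3, 2, 1, 0, 4, 3, 2, 5, 4, 6, 7, 3, 8, 7])] 1 0 4,
  .ref [(3, 0, [1, 2, 3, 4, 5, 6, 7, 3, 2, 1, 4, 3, 2, 5, 4, 7, 9, 6, 5], [1, 2, 3, 4, 5, 6, 7, 3, 2, 1, 4, 3, 2, 5, 4, 7, 8, 7, 3, 2, 1, 4, 3, 2, 5, 4, 7, 3, 2, 8, 7, 3, 4, 9, 6, 5])] 1 0 4,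
  .ref [(3, 0, [1, 2, 3, 4, 5, 6, 7, 3, 2, 1, 4, 3, 2, 5, 4, 7, 9, 6, 5], [1, 2, 3, 4, 5, 6, 7, 3, 2, 1, 4, 3, 2, 5, 4, 7, 8, 7, 3, 2, 1, 4, 3, 2, 5, 4, 7, 3, 4, 8, 7, 3, 2, 9, 6, 5])] 1 0 4,
  .ref [(3, 0, [1, 2, 3, 4, 5, 6, 7, 3, 2, 1, 4, 3, 2, 5, 4, 7, 9, 6, 5], [1, 2, 3, 4, 5, 6, 7, 3, 2, 1, 4, 3, 5, 7, 8, 7, 3, 2, 1, 4, 3, 2, 5, 4, 7, 3, 8, 7, 9, 6, 5, 4, 3, 2])] 1 0 4,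
  .ref [(3, 0, [1, 2, 3, 4, 5, 6, 7, 3, 2, 1, 4, 3, 2, 5, 4, 7, 9, 6, 5], [1, 2, 3, 4, 5, 6, 7, 3, 2, 1, 4, 3, 5, 4, 8, 7, 3, 2, 1, 4, 3, 2, 5, 4, 7, 3, 2, 8, 7, 3, 4, 9, 6, 5])] 1 0 4,
  .ref [(3, 0, [1, 2, 3, 4, 5, 6, 7, 3, 2, 1, 4, 3, 2, 5, 4, 7, 9, 6, 5], [1, 2, 3, 4, 5, 6, 7, 3, 2, 1, 4, 3, 5, 8, 7, 3, 2, 1, 0, 4, 3, 2, 5, 4, 7, 3, 8, 7, 9, 6, 5, 4, 3, 2])] 1 0 4,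
  .ref [(3, 0, [1, 2, 3, 4, 5, 6, 7, 3, 2, 1, 4, 3, 2, 5, 4, 7, 9, 6, 5], [1, 2, 3, 4, 5, 6, 7, 3, 2, 1, 4, 3, 2, 5, 7, 8, 7, 3, 2, 1, 4, 3, 2, 5, 4, 7, 3, 8, 7, 9, 6, 5, 4, 3, 2])] 1 0 4,
  .ref [(3, 0, [1, 2, 3, 4, 5, 6, 7, 3, 2, 1, 4, 3, 2, 5, 4, 7, 9, 6, 5], [1, 2, 3, 4, 5, 6, 7, 3, 2, 1, 4, 3, 5, 8, 7, 3, 2, 1, 4, 3, 2, 5, 4, 7, 3, 2, 1, 4, 8, 7, 3, 2, 9, 6, 5])] 1 0 4,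
  .ref [(3, 0, [1, 2, 3, 4, 5, 6, 7, 3, 2, 1, 4, 3, 2, 5, 4, 7, 9, 6, 5], [1, 2, 3, 4, 5, 6, 7, 3, 2, 1, 4, 3, 2, 5, 8, 7, 3, 2, 1, 4, 3, 2, 5, 4, 7, 3, 4, 5, 8, 7, 3, 2, 9, 6, 5])] 1 0 4,
  .ref [(3, 0, [1, 2, 3, 4, 5, 6, 7, 3, 2, 1, 4, 3, 2, 5, 4, 7, 9, 6, 5], [1, 2, 3, 4, 5, 6, 7, 3, 2, 1, 4, 3, 2, 5, 4, 7, 8, 7, 3, 2, 1, 4, 3, 2, 5, 4, 3, 7, 3, 2, 8, 7, 3, 4, 9, 6, 5])] 1 0 4,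
  .ref [(3, 0, [1, 2, 3, 4, 5, 6, 7, 3, 2, 1, 4, 3, 2, 5, 4, 7, 9, 6, 5], [1, 2, 3, 4, 5, 6, 7, 3, 2, 1, 4, 3, 2, 5, 4, 7, 8, 7, 3, 2, 1, 4, 3, 2, 5, 4, 3, 7, 3, 4, 8, 7, 3, 2, 9, 6, 5])] 1 0 4,
  .ref [(3, 0, [1, 2, 3, 4, 5, 6, 7, 3, 2, 1, 4, 3, 2, 5, 4, 7, 9, 6, 5], [1, 2, 3, 4, 5, 6, 7, 3, 2, 1, 4, 3, 2, 5, 4, 7, 8, 7, 3, 2, 1, 4, 3, 2, 5, 4, 7, 3, 2, 8, 7, 3, 4, 9, 6, 5, 4])] 1 0 4,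
  .ref [(3, 0, [1, 2, 3, 4, 5, 6, 7, 3, 2, 1, 4, 3, 2, 5, 4, 7, 9, 6, 5], [1, 2, 3, 4, 5, 6, 7, 3, 2, 1, 4, 3, 2, 5, 8, 7, 3, 2, 1, 0, 4, 3, 2, 5, 4, 7, 3, 4, 8, 7, 3, 2, 9, 6, 5])] 1 0 4,
  .ref [(3, 0, [1, 2, 3, 4, 5, 6, 7, 3, 2, 1, 4, 3, 2, 5, 4, 7, 9, 6, 5], [1, 2, 3, 4, 5, 6, 7, 3, 2, 1, 4, 3, 2, 5, 4, 7, 8, 7, 3, 2, 1, 4, 3, 2, 5, 4, 7, 3, 2, 4, 8, 7, 3, 2, 9, 6, 5])] 1 0 4,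
  .ref [(3, 0, [1, 2, 3, 4, 5, 6, 7, 3, 2, 1, 4, 3, 2, 5, 4, 7, 9, 6, 5], [1, 2, 3, 4, 5, 6, 7, 3, 2, 1, 4, 3, 2, 5, 4, 7, 8, 7, 3, 2, 1, 4, 3, 2, 5, 4, 7, 3, 2, 4, 8, 7, 3, 4, 9, 6, 5])] 1 0 4,
  .ref [(3, 0, [1, 2, 3, 4, 5, 6, 7, 3, 2, 1, 4, 3, 2, 5, 4, 7, 9, 6, 5], [1, 2, 3, 4, 5, 6, 7, 3, 2, 1, 4, 3, 2, 5, 4, 7, 8, 7, 3, 2, 1, 4, 3, 2, 5, 4, 7, 3, 2, 8, 7, 3, 4, 5, 9, 6, 5])] 1 0 4,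
  .ref [(3, 0, [1, 2, 3, 4, 5, 6, 7, 3, 2, 1, 4, 3, 2, 5, 4, 7, 9, 6, 5], [1, 2, 3, 4, 5, 6, 7, 3, 2, 1, 4, 3, 2, 5, 4, 7, 8, 7, 3, 2, 1, 4, 3, 2, 5, 4, 7, 3, 4, 8, 7, 3, 2, 9, 6, 5, 4])] 1 0 4,
  .ref [(3, 0, [1, 2, 3, 4, 5, 6, 7, 3, 2, 1, 4, 3, 2, 5, 4, 7, 9, 6, 5], [1, 2, 3, 4, 5, 6, 7, 3, 2, 1, 4, 3, 5, 8, 7, 3, 2, 1, 4, 3, 2, 5, 4, 7, 3, 8, 7, 9, 6, 5, 4, 3, 2])] 1 0 4,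
  .ref [(3, 0, [1, 2, 3, 4, 5, 6, 7, 3, 2, 1, 4, 3, 2, 5, 4, 7, 9, 6, 5], [1, 2, 3, 4, 5, 6, 7, 3, 2, 1, 4, 3, 5, 7, 8, 7, 3, 2, 1, 0, 4, 3, 2, 5, 4, 7, 3, 8, 7, 9, 6, 5, 4, 3, 2])] 1 0 4,
  .ref [(3, 0, [1, 2, 3, 4, 5, 6, 7, 3, 2, 1, 4, 3, 2, 5, 4, 7, 9, 6, 5], [1, 2, 3, 4, 5, 6, 7, 3, 2, 1, 4, 3, 5, 7, 8, 7, 3, 2, 1, 4, 3, 2, 5, 4, 3, 7, 3, 8, 7, 9, 6, 5, 4, 3, 2])] 1 0 4,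
  .ref [(3, 0, [1, 2, 3, 4, 5, 6, 7, 3, 2, 1, 4, 3, 2, 5, 4, 7, 9, 6, 5], [1, 2, 3, 4, 5, 6, 7, 3, 2, 1, 4, 3, 5, 7, 8, 7, 3, 2, 1, 4, 3, 2, 5, 4, 7, 3, 2, 8, 7, 9, 6, 5, 4, 3, 2])] 1 0 4,
  .ref [(3, 0, [1, 2, 3, 4, 5, 6, 7, 3, 2, 1, 4, 3, 2, 5, 4, 7, 9, 6, 5], [1, 2, 3, 4, 5, 6, 7, 3, 2, 1, 4, 3, 5, 7, 8, 7, 3, 2, 1, 4, 3, 2, 5, 4, 7, 3, 8, 7, 9, 6, 5, 4, 3, 2, 1])] 1 0 4,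
  .ref [(3, 0, [1, 2, 3, 4, 5, 6, 7, 3, 2, 1, 4, 3, 2, 5, 4, 7, 9, 6, 5], [1, 2, 3, 4, 5, 6, 7, 3, 2, 1, 4, 3, 5, 7, 8, 7, 3, 2, 1, 4, 3, 2, 5, 4, 6, 7, 3, 8, 7, 9, 6, 5, 4, 3, 2])] 1 0 4,
  .ref [(3, 0, [1, 2, 3, 4, 5, 6, 7, 3, 2, 1, 4, 3, 2, 5, 4, 7, 9, 6, 5], [1, 2, 3, 4, 5, 6, 7, 3, 2, 1, 4, 3, 2, 5, 8, 7, 3, 2, 1, 4, 3, 2, 5, 4, 6, 7, 3, 4, 8, 7, 3, 2, 9, 6, 5])] 1 0 4,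
  .ref [(3, 0, [1, 2, 3, 4, 5, 6, 7, 3, 2, 1, 4, 3, 2, 5, 4, 7, 9, 6, 5], [1, 2, 3, 4, 5, 6, 7, 3, 2, 1, 4, 3, 2, 5, 8, 7, 3, 2, 1, 4, 3, 2, 5, 4, 7, 3, 2, 4, 8, 7, 3, 2, 9, 6, 5])] 1 0 4,
  .ref [(3, 0, [1, 2, 3, 4, 5, 6, 7, 3, 2, 1, 4, 3, 2, 5, 4, 7, 9, 6, 5], [1, 2, 3, 4, 5, 6, 7, 3, 2, 1, 4, 3, 5, 4, 8, 7, 3, 2, 1, 4, 3, 2, 5, 4, 7, 3, 2, 8, 7, 3, 4, 9, 6, 5, 4])] 1 0 4,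
  .ref [(3, 0, [1, 2, 3, 4, 5, 6, 7, 3, 2, 1, 4, 3, 2, 5, 4, 7, 9, 6, 5], [1, 2, 3, 4, 5, 6, 7, 3, 2, 1, 4, 3, 2, 5, 8, 7, 3, 2, 1, 4, 3, 2, 5, 4, 3, 7, 3, 4, 8, 7, 3, 2, 9, 6, 5])] 1 0 4,
  .ref [(3, 0, [1, 2, 3, 4, 5, 6, 7, 3, 2, 1, 4, 3, 2, 5, 4, 7, 9, 6, 5], [1, 2, 3, 4, 5, 6, 7, 3, 2, 1, 4, 3, 2, 5, 8, 7, 3, 2, 1, 4, 3, 2, 5, 4, 7, 3, 4, 8, 7, 3, 2, 1, 9, 6, 5])] 1 0 4,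
  .ref [(3, 0, [1, 2, 3, 4, 5, 6, 7, 3, 2, 1, 4, 3, 2, 5, 4, 7, 9, 6, 5], [1, 2, 3, 4, 5, 6, 7, 3, 2, 1, 4, 3, 5, 8, 7, 3, 2, 1, 0, 4, 3, 2, 5, 4, 7, 3, 2, 8, 7, 9, 6, 5, 4, 3, 2])] 1 0 4,
  .ref [(3, 0, [1, 2, 3, 4, 5, 6, 7, 3, 2, 1, 4, 3, 2, 5, 4, 7, 9, 6, 5], [1, 2, 3, 4, 5, 6, 7, 3, 2, 1, 4, 3, 2, 5, 8, 7, 3, 2, 1, 0, 4, 3, 2, 5, 4, 7, 3, 8, 7, 9, 6, 5, 4, 3, 2])] 1 0 4,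
  .ref [(3, 0, [1, 2, 3, 4, 5, 6, 7, 3, 2, 1, 4, 3, 2, 5, 4, 7, 9, 6, 5], [1, 2, 3, 4, 5, 6, 7, 3, 2, 1, 4, 3, 5, 8, 7, 3, 2, 1, 0, 4, 3, 2, 5, 4, 7, 3, 8, 7, 9, 6, 5, 4, 3, 2, 1])] 1 0 4,
  .ref [(3, 0, [1, 2, 3, 4, 5, 6, 7, 3, 2, 1, 4, 3, 2, 5, 4, 7, 9, 6, 5], [1, 2, 3, 4, 5, 6, 7, 3, 2, 1, 4, 3, 2, 5, 8, 7, 3, 2, 1, 4, 3, 2, 5, 4, 7, 3, 8, 7, 9, 6, 5, 4, 3, 2])] 1 0 4,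
  .ref [(3, 0, [1, 2, 3, 4, 5, 6, 7, 3, 2, 1, 4, 3, 2, 5, 4, 7, 9, 6, 5], [1, 2, 3, 4, 5, 6, 7, 3, 2, 1, 4, 3, 2, 5, 8, 7, 3, 2, 1, 4, 3, 2, 5, 4, 7, 3, 4, 8, 7, 3, 2, 9, 6, 5])] 1 0 4,
  .ref [(3, 0, [1, 2, 3, 4, 5, 6, 7, 3, 2, 1, 4, 3, 2, 5, 4, 7, 9, 6, 5], [1, 2, 3, 4, 5, 6, 7, 3, 2, 1, 4, 3, 2, 5, 7, 8, 7, 3, 2, 1, 0, 4, 3, 2, 5, 4, 7, 3, 8, 7, 9, 6, 5, 4, 3, 2])] 1 0 4,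
  .ref [(3, 0, [1, 2, 3, 4, 5, 6, 7, 3, 2, 1, 4, 3, 2, 5, 4, 7, 9, 6, 5], [1, 2, 3, 4, 5, 6, 7, 3, 2, 1, 4, 3, 2, 5, 7, 8, 7, 3, 2, 1, 4, 3, 2, 5, 4, 3, 7, 3, 8, 7, 9, 6, 5, 4, 3, 2])] 1 0 4,
  .ref [(3, 0, [1, 2, 3, 4, 5, 6, 7, 3, 2, 1, 4, 3, 2, 5, 4, 7, 9, 6, 5], [1, 2, 3, 4, 5, 6, 7, 3, 2, 1, 4, 3, 5, 8, 7, 3, 2, 1, 4, 3, 2, 5, 4, 6, 7, 3, 8, 7, 9, 6, 5, 4, 3, 2])] 1 0 4,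
  .ref [(3, 0, [1, 2, 3, 4, 5, 6, 7, 3, 2, 1, 4, 3, 2, 5, 4, 7, 9, 6, 5], [1, 2, 3, 4, 5, 6, 7, 3, 2, 1, 4, 3, 2, 5, 7, 8, 7, 3, 2, 1, 4, 3, 2, 5, 4, 7, 3, 8, 7, 9, 6, 5, 4, 3, 2, 1])] 1 0 4,
  .ref [(3, 0, [1, 2, 3, 4, 5, 6, 7, 3, 2, 1, 4, 3, 2, 5, 4, 7, 9, 6, 5], [1, 2, 3, 4, 5, 6, 7, 3, 2, 1, 4, 3, 5, 8, 7, 3, 2, 1, 4, 3, 2, 5, 4, 7, 3, 2, 8, 7, 9, 6, 5, 4, 3, 2])] 1 0 4,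
  .ref [(3, 0, [1, 2, 3, 4, 5, 6, 7, 3, 2, 1, 4, 3, 2, 5, 4, 7, 9, 6, 5], [1, 2, 3, 4, 5, 6, 7, 3, 2, 1, 4, 3, 5, 8, 7, 3, 2, 1, 4, 3, 2, 5, 4, 3, 7, 3, 2, 1, 4, 8, 7, 3, 2, 9, 6, 5])] 1 0 4,
  .ref [(3, 0, [1, 2, 3, 4, 5, 6, 7, 3, 2, 1, 4, 3, 2, 5, 4, 7, 9, 6, 5], [1, 2, 3, 4, 5, 6, 7, 3, 2, 1, 4, 3, 2, 5, 8, 7, 3, 2, 1, 4, 3, 2, 5, 4, 3, 7, 3, 4, 5, 8, 7, 3, 2, 9, 6, 5])] 1 0 4,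
  .ref [(3, 0, [1, 2, 3, 4, 5, 6, 7, 3, 2, 1, 4, 3, 2, 5, 4, 7, 9, 6, 5], [1, 2, 3, 4, 5, 6, 7, 3, 2, 1, 4, 3, 2, 5, 8, 7, 3, 2, 1, 4, 3, 2, 5, 4, 6, 7, 3, 4, 5, 8, 7, 3, 4, 9, 6, 5])] 1 0 4,
  .ref [(3, 0, [1, 2, 3, 4, 5, 6, 7, 3, 2, 1, 4, 3, 2, 5, 4, 7, 9, 6, 5], [1, 2, 3, 4, 5, 6, 7, 3, 2, 1, 4, 3, 5, 8, 7, 3, 2, 1, 4, 3, 2, 5, 4, 7, 3, 2, 1, 4, 8, 7, 3, 2, 9, 6, 5, 4])] 1 0 4,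
  .ref [(3, 0, [1, 2, 3, 4, 5, 6, 7, 3, 2, 1, 4, 3, 2, 5, 4, 7, 9, 6, 5], [1, 2, 3, 4, 5, 6, 7, 3, 2, 1, 4, 3, 2, 5, 8, 7, 3, 2, 1, 4, 3, 2, 5, 4, 6, 7, 3, 4, 5, 8, 7, 3, 2, 9, 6, 5])] 1 0 4,
  .ref [(3, 0, [1, 2, 3, 4, 5, 6, 7, 3, 2, 1, 4, 3, 2, 5, 4, 7, 9, 6, 5], [1, 2, 3, 4, 5, 6, 7, 3, 2, 1, 4, 3, 2, 5, 8, 7, 3, 2, 1, 4, 3, 2, 5, 4, 3, 7, 3, 4, 8, 7, 3, 2, 1, 9, 6, 5])] 1 0 4,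
  .ref [(3, 0, [1, 2, 3, 4, 5, 6, 7, 3, 2, 1, 4, 3, 2, 5, 4, 7, 9, 6, 5], [1, 2, 3, 4, 5, 6, 7, 3, 2, 1, 4, 3, 2, 5, 8, 7, 3, 2, 1, 4, 3, 2, 5, 4, 7, 3, 2, 4, 5, 8, 7, 3, 4, 9, 6, 5])] 1 0 4,
  .ref [(3, 0, [1, 2, 3, 4, 5, 6, 7, 3, 2, 1, 4, 3, 2, 5, 4, 7, 9, 6, 5], [1, 2, 3, 4, 5, 6, 7, 3, 2, 1, 4, 3, 2, 5, 8, 7, 3, 2, 1, 4, 3, 2, 5, 4, 7, 3, 4, 5, 8, 7, 3, 2, 9, 6, 5, 4])] 1 0 4,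
  .ref [(3, 0, [1, 2, 3, 4, 5, 6, 7, 3, 2, 1, 4, 3, 2, 5, 4, 7, 9, 6, 5], [1, 2, 3, 4, 5, 6, 7, 3, 2, 1, 4, 3, 2, 5, 4, 7, 8, 7, 3, 2, 1, 4, 3, 2, 5, 4, 3, 7, 3, 2, 8, 7, 3, 4, 9, 6, 5, 4])] 1 0 4,
  .ref [(3, 0, [1, 2, 3, 4, 5, 6, 7, 3, 2, 1, 4, 3, 2, 5, 4, 7, 9, 6, 5], [1, 2, 3, 4, 5, 6, 7, 3, 2, 1, 4, 3, 2, 5, 8, 7, 3, 2, 1, 0, 4, 3, 2, 5, 4, 3, 7, 3, 4, 8, 7, 3, 2, 9, 6, 5])] 1 0 4,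
  .ref [(3, 0, [1, 2, 3, 4, 5, 6, 7, 3, 2, 1, 4, 3, 2, 5, 4, 7, 9, 6, 5], [1, 2, 3, 4, 5, 6, 7, 3, 2, 1, 4, 3, 2, 5, 4, 7, 8, 7, 3, 2, 1, 4, 3, 2, 5, 4, 3, 7, 3, 4, 8, 7, 3, 2, 9, 6, 5, 4])] 1 0 4,
  .ref [(3, 0, [1, 2, 3, 4, 5, 6, 7, 3, 2, 1, 4, 3, 2, 5, 4, 7, 9, 6, 5], [1, 2, 3, 4, 5, 6, 7, 3, 2, 1, 4, 3, 2, 5, 8, 7, 3, 2, 1, 0, 4, 3, 2, 5, 4, 7, 3, 4, 8, 7, 3, 2, 9, 6, 5, 4])] 1 0 4,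
  .ref [(3, 0, [1, 2, 3, 4, 5, 6, 7, 3, 2, 1, 4, 3, 2, 5, 4, 7, 9, 6, 5], [1, 2, 3, 4, 5, 6, 7, 3, 2, 1, 4, 3, 2, 5, 4, 7, 8, 7, 3, 2, 1, 4, 3, 2, 5, 4, 7, 3, 2, 8, 7, 3, 4, 9, 6, 5, 4, 3])] 1 0 4,
  .ref [(3, 0, [1, 2, 3, 4, 5, 6, 7, 3, 2, 1, 4, 3, 2, 5, 4, 7, 9, 6, 5], [1, 2, 3, 4, 5, 6, 7, 3, 2, 1, 4, 3, 2, 5, 4, 7, 8, 7, 3, 2, 1, 4, 3, 2, 5, 4, 7, 3, 2, 8, 7, 3, 4, 5, 9, 6, 5, 4])] 1 0 4,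
  .ref [(3, 0, [1, 2, 3, 4, 5, 6, 7, 3, 2, 1, 4, 3, 2, 5, 4, 7, 9, 6, 5], [1, 2, 3, 4, 5, 6, 7, 3, 2, 1, 4, 3, 2, 5, 8, 7, 3, 2, 1, 0, 4, 3, 2, 5, 4, 7, 3, 2, 4, 8, 7, 3, 2, 9, 6, 5])] 1 0 4,
  .ref [(3, 0, [1, 2, 3, 4, 5, 6, 7, 3, 2, 1, 4, 3, 2, 5, 4, 7, 9, 6, 5], [1, 2, 3, 4, 5, 6, 7, 3, 2, 1, 4, 3, 2, 5, 4, 7, 8, 7, 3, 2, 1, 4, 3, 2, 5, 4, 7, 3, 2, 4, 8, 7, 3, 2, 9, 6, 5, 4])] 1 0 4,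
  .ref [(3, 0, [1, 2, 3, 4, 5, 6, 7, 3, 2, 1, 4, 3, 2, 5, 4, 7, 9, 6, 5], [1, 2, 3, 4, 5, 6, 7, 3, 2, 1, 4, 3, 2, 5, 4, 7, 8, 7, 3, 2, 1, 4, 3, 2, 5, 4, 7, 3, 2, 4, 8, 7, 3, 4, 9, 6, 5, 4])] 1 0 4,
  .ref [(3, 0, [1, 2, 3, 4, 5, 6, 7, 3, 2, 1, 4, 3, 2, 5, 4, 7, 9, 6, 5], [1, 2, 3, 4, 5, 6, 7, 3, 2, 1, 4, 3, 2, 5, 4, 7, 8, 7, 3, 2, 1, 4, 3, 2, 5, 4, 7, 3, 4, 8, 7, 3, 2, 9, 6, 5, 4, 3])] 1 0 4,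
  .ref [(3, 0, [1, 2, 3, 4, 5, 6, 7, 3, 2, 1, 4, 3, 2, 5, 4, 7, 9, 6, 5], [1, 2, 3, 4, 5, 6, 7, 3, 2, 1, 4, 3, 5, 8, 7, 3, 2, 1, 4, 3, 2, 5, 4, 3, 7, 3, 8, 7, 9, 6, 5, 4, 3, 2])] 1 0 4,
  .ref [(3, 0, [1, 2, 3, 4, 5, 6, 7, 3, 2, 1, 4, 3, 2, 5, 4, 7, 9, 6, 5], [1, 2, 3, 4, 5, 6, 7, 3, 2, 1, 4, 3, 5, 8, 7, 3, 2, 1, 4, 3, 2, 5, 4, 7, 3, 8, 7, 9, 6, 5, 4, 3, 2, 1])] 1 0 4,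
  .ref [(3, 0, [1, 2, 3, 4, 5, 6, 7, 3, 2, 1, 4, 3, 2, 5, 4, 7, 9, 6, 5], [1, 2, 3, 4, 5, 6, 7, 3, 2, 1, 4, 3, 5, 7, 8, 7, 3, 2, 1, 0, 4, 3, 2, 5, 4, 7, 3, 8, 7, 9, 6, 5, 4, 3, 2, 1])] 1 0 4,
  .ref [(3, 0, [1, 2, 3, 4, 5, 6, 7, 3, 2, 1, 4, 3, 2, 5, 4, 7, 9, 6, 5], [1, 2, 3, 4, 5, 6, 7, 3, 2, 1, 4, 3, 5, 7, 8, 7, 3, 2, 1, 4, 3, 2, 5, 4, 3, 7, 3, 8, 7, 9, 6, 5, 4, 3, 2, 1])] 1 0 4,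
  .ref [(3, 0, [1, 2, 3, 4, 5, 6, 7, 3, 2, 1, 4, 3, 2, 5, 4, 7, 9, 6, 5], [1, 2, 3, 4, 5, 6, 7, 3, 2, 1, 4, 3, 5, 7, 8, 7, 3, 2, 1, 4, 3, 2, 5, 4, 7, 3, 2, 8, 7, 9, 6, 5, 4, 3, 2, 1])] 1 0 4,
  .ref [(3, 0, [1, 2, 3, 4, 5, 6, 7, 3, 2, 1, 4, 3, 2, 5, 4, 7, 9, 6, 5], [1, 2, 3, 4, 5, 6, 7, 3, 2, 1, 4, 3, 2, 5, 8, 7, 3, 2, 1, 0, 4, 3, 2, 5, 4, 3, 7, 3, 8, 7, 9, 6, 5, 4, 3, 2])] 1 0 4,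
  .ref [(3, 0, [1, 2, 3, 4, 5, 6, 7, 3, 2, 1, 4, 3, 2, 5, 4, 7, 9, 6, 5], [1, 2, 3, 4, 5, 6, 7, 3, 2, 1, 4, 3, 2, 5, 8, 7, 3, 2, 1, 4, 3, 2, 5, 4, 6, 5, 7, 3, 8, 7, 9, 6, 5, 4, 3, 2])] 1 0 4,
  .ref [(3, 0, [1, 2, 3, 4, 5, 6, 7, 3, 2, 1, 4, 3, 2, 5, 4, 7, 9, 6, 5], [1, 2, 3, 4, 5, 6, 7, 3, 2, 1, 4, 3, 5, 7, 8, 7, 3, 2, 1, 4, 3, 2, 5, 4, 7, 3, 8, 7, 9, 6, 5, 4, 3, 2, 1, 0])] 1 0 4,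
  .ref [(3, 0, [1, 2, 3, 4, 5, 6, 7, 3, 2, 1, 4, 3, 2, 5, 4, 7, 9, 6, 5], [1, 2, 3, 4, 5, 6, 7, 3, 2, 1, 4, 3, 5, 7, 8, 7, 3, 2, 1, 4, 3, 2, 5, 4, 6, 7, 3, 8, 7, 9, 6, 5, 4, 3, 2, 1])] 1 0 4,
  .ref [(3, 0, [1, 2, 3, 4, 5, 6, 7, 3, 2, 1, 4, 3, 2, 5, 4, 7, 9, 6, 5], [1, 2, 3, 4, 5, 6, 7, 3, 2, 1, 4, 3, 2, 5, 8, 7, 3, 2, 1, 4, 3, 2, 5, 4, 6, 7, 3, 4, 8, 7, 3, 2, 9, 6, 5, 4])] 1 0 4,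
  .ref [(3, 0, [1, 2, 3, 4, 5, 6, 7, 3, 2, 1, 4, 3, 2, 5, 4, 7, 9, 6, 5], [1, 2, 3, 4, 5, 6, 7, 3, 2, 1, 4, 3, 2, 5, 8, 7, 3, 2, 1, 4, 3, 2, 5, 4, 7, 3, 2, 4, 8, 7, 3, 2, 9, 6, 5, 4])] 1 0 4,
  .ref [(3, 0, [1, 2, 3, 4, 5, 6, 7, 3, 2, 1, 4, 3, 2, 5, 4, 7, 9, 6, 5], [1, 2, 3, 4, 5, 6, 7, 3, 2, 1, 4, 3, 5, 4, 8, 7, 3, 2, 1, 4, 3, 2, 5, 4, 7, 3, 2, 8, 7, 3, 4, 9, 6, 5, 4, 3])] 1 0 4,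
  .ref [(3, 0, [1, 2, 3, 4, 5, 6, 7, 3, 2, 1, 4, 3, 2, 5, 4, 7, 9, 6, 5], [1, 2, 3, 4, 5, 6, 7, 3, 2, 1, 4, 3, 2, 5, 8, 7, 3, 2, 1, 4, 3, 2, 5, 4, 7, 3, 4, 8, 7, 3, 2, 1, 9, 6, 5, 4])] 1 0 4,
  .ref [(3, 0, [1, 2, 3, 4, 5, 6, 7, 3, 2, 1, 4, 3, 2, 5, 4, 7, 9, 6, 5], [1, 2, 3, 4, 5, 6, 7, 3, 2, 1, 4, 3, 2, 5, 8, 7, 3, 2, 1, 4, 3, 2, 5, 4, 3, 7, 3, 4, 8, 7, 3, 2, 9, 6, 5, 4])] 1 0 4,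
  .ref [(3, 0, [1, 2, 3, 4, 5, 6, 7, 3, 2, 1, 4, 3, 2, 5, 4, 7, 9, 6, 5], [1, 2, 3, 4, 5, 6, 7, 3, 2, 1, 4, 3, 2, 5, 8, 7, 3, 2, 1, 0, 4, 3, 2, 5, 4, 7, 3, 2, 8, 7, 9, 6, 5, 4, 3, 2])] 1 0 4,
  .ref [(3, 0, [1, 2, 3, 4, 5, 6, 7, 3, 2, 1, 4, 3, 2, 5, 4, 7, 9, 6, 5], [1, 2, 3, 4, 5, 6, 7, 3, 2, 1, 4, 3, 5, 8, 7, 3, 2, 1, 0, 4, 3, 2, 5, 4, 7, 3, 2, 8, 7, 9, 6, 5, 4, 3, 2, 1])] 1 0 4,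
  .ref [(3, 0, [1, 2, 3, 4, 5, 6, 7, 3, 2, 1, 4, 3, 2, 5, 4, 7, 9, 6, 5], [1, 2, 3, 4, 5, 6, 7, 3, 2, 1, 4, 3, 2, 5, 8, 7, 3, 2, 1, 0, 4, 3, 2, 5, 4, 6, 7, 3, 8, 7, 9, 6, 5, 4, 3, 2])] 1 0 4,
  .ref [(3, 0, [1, 2, 3, 4, 5, 6, 7, 3, 2, 1, 4, 3, 2, 5, 4, 7, 9, 6, 5], [1, 2, 3, 4, 5, 6, 7, 3, 2, 1, 4, 3, 2, 5, 8, 7, 3, 2, 1, 0, 4, 3, 2, 5, 4, 7, 3, 8, 7, 9, 6, 5, 4, 3, 2, 1])] 1 0 4,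
  .ref [(3, 0, [1, 2, 3, 4, 5, 6, 7, 3, 2, 1, 4, 3, 2, 5, 4, 7, 9, 6, 5], [1, 2, 3, 4, 5, 6, 7, 3, 2, 1, 4, 3, 5, 8, 7, 3, 2, 1, 0, 4, 3, 2, 5, 4, 7, 3, 8, 7, 9, 6, 5, 4, 3, 2, 1, 0])] 1 0 4,
  .ref [(3, 0, [1, 2, 3, 4, 5, 6, 7, 3, 2, 1, 4, 3, 2, 5, 4, 7, 9, 6, 5], [1, 2, 3, 4, 5, 6, 7, 3, 2, 1, 4, 3, 2, 5, 8, 7, 3, 2, 1, 4, 3, 2, 5, 4, 3, 7, 3, 8, 7, 9, 6, 5, 4, 3, 2])] 1 0 4,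
  .ref [(3, 0, [1, 2, 3, 4, 5, 6, 7, 3, 2, 1, 4, 3, 2, 5, 4, 7, 9, 6, 5], [1, 2, 3, 4, 5, 6, 7, 3, 2, 1, 4, 3, 2, 5, 8, 7, 3, 2, 1, 4, 3, 2, 5, 4, 7, 3, 2, 8, 7, 9, 6, 5, 4, 3, 2])] 1 0 4,
  .ref [(3, 0, [1, 2, 3, 4, 5, 6, 7, 3, 2, 1, 4, 3, 2, 5, 4, 7, 9, 6, 5], [1, 2, 3, 4, 5, 6, 7, 3, 2, 1, 4, 3, 2, 5, 8, 7, 3, 2, 1, 4, 3, 2, 5, 4, 7, 3, 8, 7, 9, 6, 5, 4, 3, 2, 1])] 1 0 4,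
  .ref [(3, 0, [1, 2, 3, 4, 5, 6, 7, 3, 2, 1, 4, 3, 2, 5, 4, 7, 9, 6, 5], [1, 2, 3, 4, 5, 6, 7, 3, 2, 1, 4, 3, 2, 5, 8, 7, 3, 2, 1, 4, 3, 2, 5, 4, 6, 7, 3, 8, 7, 9, 6, 5, 4, 3, 2])] 1 0 4,
  .ref [(3, 0, [1, 2, 3, 4, 5, 6, 7, 3, 2, 1, 4, 3, 2, 5, 4, 7, 9, 6, 5], [1, 2, 3, 4, 5, 6, 7, 3, 2, 1, 4, 3, 2, 5, 8, 7, 3, 2, 1, 4, 3, 2, 5, 4, 7, 3, 4, 8, 7, 3, 2, 9, 6, 5, 4])] 1 0 4,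
  .ref [(3, 0, [1, 2, 3, 4, 5, 6, 7, 3, 2, 1, 4, 3, 2, 5, 4, 7, 9, 6, 5], [1, 2, 3, 4, 5, 6, 7, 3, 2, 1, 4, 3, 2, 5, 7, 8, 7, 3, 2, 1, 0, 4, 3, 2, 5, 4, 7, 3, 8, 7, 9, 6, 5, 4, 3, 2, 1])] 1 0 4,
  .ref [(3, 0, [1, 2, 3, 4, 5, 6, 7, 3, 2, 1, 4, 3, 2, 5, 4, 7, 9, 6, 5], [1, 2, 3, 4, 5, 6, 7, 3, 2, 1, 4, 3, 2, 5, 7, 8, 7, 3, 2, 1, 4, 3, 2, 5, 4, 3, 7, 3, 8, 7, 9, 6, 5, 4, 3, 2, 1])] 1 0 4,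
  .ref [(3, 0, [1, 2, 3, 4, 5, 6, 7, 3, 2, 1, 4, 3, 2, 5, 4, 7, 9, 6, 5], [1, 2, 3, 4, 5, 6, 7, 3, 2, 1, 4, 3, 5, 8, 7, 3, 2, 1, 4, 3, 2, 5, 4, 3, 7, 3, 2, 8, 7, 9, 6, 5, 4, 3, 2])] 1 0 4,
  .ref [(3, 0, [1, 2, 3, 4, 5, 6, 7, 3, 2, 1, 4, 3, 2, 5, 4, 7, 9, 6, 5], [1, 2, 3, 4, 5, 6, 7, 3, 2, 1, 4, 3, 5, 8, 7, 3, 2, 1, 4, 3, 2, 5, 4, 6, 7, 3, 8, 7, 9, 6, 5, 4, 3, 2, 1])] 1 0 4,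
  .ref [(3, 0, [1, 2, 3, 4, 5, 6, 7, 3, 2, 1, 4, 3, 2, 5, 4, 7, 9, 6, 5], [1, 2, 3, 4, 5, 6, 7, 3, 2, 1, 4, 3, 2, 5, 7, 8, 7, 3, 2, 1, 4, 3, 2, 5, 4, 7, 3, 8, 7, 9, 6, 5, 4, 3, 2, 1, 0])] 1 0 4,
  .ref [(3, 0, [1, 2, 3, 4, 5, 6, 7, 3, 2, 1, 4, 3, 2, 5, 4, 7, 9, 6, 5], [1, 2, 3, 4, 5, 6, 7, 3, 2, 1, 4, 3, 5, 8, 7, 3, 2, 1, 4, 3, 2, 5, 4, 7, 3, 2, 8, 7, 9, 6, 5, 4, 3, 2, 1])] 1 0 4,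
  .ref [(3, 0, [1, 2, 3, 4, 5, 6, 7, 3, 2, 1, 4, 3, 2, 5, 4, 7, 9, 6, 5], [1, 2, 3, 4, 5, 6, 7, 3, 2, 1, 4, 3, 5, 8, 7, 3, 2, 1, 4, 3, 2, 5, 4, 3, 7, 3, 2, 1, 4, 8, 7, 3, 2, 9, 6, 5, 4])] 1 0 4,
  .ref [(3, 0, [1, 2, 3, 4, 5, 6, 7, 3, 2, 1, 4, 3, 2, 5, 4, 7, 9, 6, 5], [1, 2, 3, 4, 5, 6, 7, 3, 2, 1, 4, 3, 2, 5, 8, 7, 3, 2, 1, 4, 3, 2, 5, 4, 3, 7, 3, 4, 5, 8, 7, 3, 2, 9, 6, 5, 4])] 1 0 4,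
  .ref [(3, 0, [1, 2, 3, 4, 5, 6, 7, 3, 2, 1, 4, 3, 2, 5, 4, 7, 9, 6, 5], [1, 2, 3, 4, 5, 6, 7, 3, 2, 1, 4, 3, 2, 5, 8, 7, 3, 2, 1, 4, 3, 2, 5, 4, 6, 7, 3, 4, 5, 8, 7, 3, 4, 9, 6, 5, 4])] 1 0 4,
  .ref [(3, 0, [1, 2, 3, 4, 5, 6, 7, 3, 2, 1, 4, 3, 2, 5, 4, 7, 9, 6, 5], [1, 2, 3, 4, 5, 6, 7, 3, 2, 1, 4, 3, 2, 5, 8, 7, 3, 2, 1, 4, 3, 2, 5, 4, 6, 7, 3, 4, 5, 8, 7, 3, 2, 9, 6, 5, 4])] 1 0 4,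
  .ref [(3, 0, [1, 2, 3, 4, 5, 6, 7, 3, 2, 1, 4, 3, 2, 5, 4, 7, 9, 6, 5], [1, 2, 3, 4, 5, 6, 7, 3, 2, 1, 4, 3, 5, 8, 7, 3, 2, 1, 4, 3, 2, 5, 4, 7, 3, 2, 1, 4, 8, 7, 3, 2, 9, 6, 5, 4, 3])] 1 0 4,
  .ref [(3, 0, [1, 2, 3, 4, 5, 6, 7, 3, 2, 1, 4, 3, 2, 5, 4, 7, 9, 6, 5], [1, 2, 3, 4, 5, 6, 7, 3, 2, 1, 4, 3, 2, 5, 8, 7, 3, 2, 1, 4, 3, 2, 5, 4, 3, 7, 3, 4, 8, 7, 3, 2, 1, 9, 6, 5, 4])] 1 0 4,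
  .ref [(3, 0, [1, 2, 3, 4, 5, 6, 7, 3, 2, 1, 4, 3, 2, 5, 4, 7, 9, 6, 5], [1, 2, 3, 4, 5, 6, 7, 3, 2, 1, 4, 3, 2, 5, 8, 7, 3, 2, 1, 4, 3, 2, 5, 4, 7, 3, 2, 4, 5, 8, 7, 3, 4, 9, 6, 5, 4])] 1 0 4,
  .ref [(3, 0, [1, 2, 3, 4, 5, 6, 7, 3, 2, 1, 4, 3, 2, 5, 4, 7, 9, 6, 5], [1, 2, 3, 4, 5, 6, 7, 3, 2, 1, 4, 3, 2, 5, 8, 7, 3, 2, 1, 4, 3, 2, 5, 4, 7, 3, 4, 5, 8, 7, 3, 2, 9, 6, 5, 4, 3])] 1 0 4,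
  .ref [(3, 0, [1, 2, 3, 4, 5, 6, 7, 3, 2, 1, 4, 3, 2, 5, 4, 7, 9, 6, 5], [1, 2, 3, 4, 5, 6, 7, 3, 2, 1, 4, 3, 2, 5, 8, 7, 3, 2, 1, 0, 4, 3, 2, 5, 4, 3, 7, 3, 4, 8, 7, 3, 2, 9, 6, 5, 4])] 1 0 4,
  .ref [(3, 0, [1, 2, 3, 4, 5, 6, 7, 3, 2, 1, 4, 3, 2, 5, 4, 7, 9, 6, 5], [1, 2, 3, 4, 5, 6, 7, 3, 2, 1, 4, 3, 2, 5, 4, 7, 8, 7, 3, 2, 1, 4, 3, 2, 5, 4, 3, 7, 3, 2, 8, 7, 3, 4, 9, 6, 5, 4, 3])] 1 0 4,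
  .ref [(3, 0, [1, 2, 3, 4, 5, 6, 7, 3, 2, 1, 4, 3, 2, 5, 4, 7, 9, 6, 5], [1, 2, 3, 4, 5, 6, 7, 3, 2, 1, 4, 3, 2, 5, 4, 7, 8, 7, 3, 2, 1, 4, 3, 2, 5, 4, 3, 7, 3, 4, 8, 7, 3, 2, 9, 6, 5, 4, 3])] 1 0 4,
  .ref [(3, 0, [1, 2, 3, 4, 5, 6, 7, 3, 2, 1, 4, 3, 2, 5, 4, 7, 9, 6, 5], [1, 2, 3, 4, 5, 6, 7, 3, 2, 1, 4, 3, 2, 5, 8, 7, 3, 2, 1, 0, 4, 3, 2, 5, 4, 7, 3, 4, 8, 7, 3, 2, 9, 6, 5, 4, 3])] 1 0 4,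
  .ref [(3, 0, [1, 2, 3, 4, 5, 6, 7, 3, 2, 1, 4, 3, 2, 5, 4, 7, 9, 6, 5], [1, 2, 3, 4, 5, 6, 7, 3, 2, 1, 4, 3, 2, 5, 4, 7, 8, 7, 3, 2, 1, 4, 3, 2, 5, 4, 7, 3, 2, 4, 8, 7, 3, 4, 9, 6, 5, 4, 3])] 1 0 4,
  .ref [(3, 0, [1, 2, 3, 4, 5, 6, 7, 3, 2, 1, 4, 3, 2, 5, 4, 7, 9, 6, 5], [1, 2, 3, 4, 5, 6, 7, 3, 2, 1, 4, 3, 2, 5, 4, 7, 8, 7, 3, 2, 1, 4, 3, 2, 5, 4, 7, 3, 2, 8, 7, 3, 4, 5, 9, 6, 5, 4, 3])] 1 0 4,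
  .ref [(3, 0, [1, 2, 3, 4, 5, 6, 7, 3, 2, 1, 4, 3, 2, 5, 4, 7, 9, 6, 5], [1, 2, 3, 4, 5, 6, 7, 3, 2, 1, 4, 3, 2, 5, 8, 7, 3, 2, 1, 0, 4, 3, 2, 5, 4, 7, 3, 2, 4, 8, 7, 3, 2, 9, 6, 5, 4])] 1 0 4,
  .ref [(3, 0, [1, 2, 3, 4, 5, 6, 7, 3, 2, 1, 4, 3, 2, 5, 4, 7, 9, 6, 5], [1, 2, 3, 4, 5, 6, 7, 3, 2, 1, 4, 3, 2, 5, 4, 7, 8, 7, 3, 2, 1, 4, 3, 2, 5, 4, 7, 3, 2, 4, 8, 7, 3, 2, 9, 6, 5, 4, 3])] 1 0 4,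
  .ref [(3, 0, [1, 2, 3, 4, 5, 6, 7, 3, 2, 1, 4, 3, 2, 5, 4, 7, 9, 6, 5], [1, 2, 3, 4, 5, 6, 7, 3, 2, 1, 4, 3, 5, 8, 7, 3, 2, 1, 4, 3, 2, 5, 4, 3, 7, 3, 8, 7, 9, 6, 5, 4, 3, 2, 1])] 1 0 4,
  .ref [(3, 0, [1, 2, 3, 4, 5, 6, 7, 3, 2, 1, 4, 3, 2, 5, 4, 7, 9, 6, 5], [1, 2, 3, 4, 5, 6, 7, 3, 2, 1, 4, 3, 5, 8, 7, 3, 2, 1, 4, 3, 2, 5, 4, 7, 3, 8, 7, 9, 6, 5, 4, 3, 2, 1, 0])] 1 0 4,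
  .ref [(3, 0, [1, 2, 3, 4, 5, 6, 7, 3, 2, 1, 4, 3, 2, 5, 4, 7, 9, 6, 5], [1, 2, 3, 4, 5, 6, 7, 3, 2, 1, 4, 3, 5, 7, 8, 7, 3, 2, 1, 0, 4, 3, 2, 5, 4, 7, 3, 8, 7, 9, 6, 5, 4, 3, 2, 1, 0])] 1 0 4,
  .ref [(3, 0, [1, 2, 3, 4, 5, 6, 7, 3, 2, 1, 4, 3, 2, 5, 4, 7, 9, 6, 5], [1, 2, 3, 4, 5, 6, 7, 3, 2, 1, 4, 3, 5, 7, 8, 7, 3, 2, 1, 4, 3, 2, 5, 4, 3, 7, 3, 8, 7, 9, 6, 5, 4, 3, 2, 1, 0])] 1 0 4,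
  .ref [(3, 0, [1, 2, 3, 4, 5, 6, 7, 3, 2, 1, 4, 3, 2, 5, 4, 7, 9, 6, 5], [1, 2, 3, 4, 5, 6, 7, 3, 2, 1, 4, 3, 5, 7, 8, 7, 3, 2, 1, 4, 3, 2, 5, 4, 7, 3, 2, 8, 7, 9, 6, 5, 4, 3, 2, 1, 0])] 1 0 4,
  .ref [(3, 0, [1, 2, 3, 4, 5, 6, 7, 3, 2, 1, 4, 3, 2, 5, 4, 7, 9, 6, 5], [1, 2, 3, 4, 5, 6, 7, 3, 2, 1, 4, 3, 2, 5, 8, 7, 3, 2, 1, 0, 4, 3, 2, 5, 4, 3, 7, 3, 8, 7, 9, 6, 5, 4, 3, 2, 1])] 1 0 4,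
  .ref [(3, 0, [1, 2, 3, 4, 5, 6, 7, 3, 2, 1, 4, 3, 2, 5, 4, 7, 9, 6, 5], [1, 2, 3, 4, 5, 6, 7, 3, 2, 1, 4, 3, 2, 5, 8, 7, 3, 2, 1, 4, 3, 2, 5, 4, 6, 5, 7, 3, 8, 7, 9, 6, 5, 4, 3, 2, 1])] 1 0 4,
  .ref [(3, 0, [1, 2, 3, 4, 5, 6, 7, 3, 2, 1, 4, 3, 2, 5, 4, 7, 9, 6, 5], [1, 2, 3, 4, 5, 6, 7, 3, 2, 1, 4, 3, 5, 7, 8, 7, 3, 2, 1, 4, 3, 2, 5, 4, 6, 7, 3, 8, 7, 9, 6, 5, 4, 3, 2, 1, 0])] 1 0 4,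
  .ref [(3, 0, [1, 2, 3, 4, 5, 6, 7, 3, 2, 1, 4, 3, 2, 5, 4, 7, 9, 6, 5], [1, 2, 3, 4, 5, 6, 7, 3, 2, 1, 4, 3, 2, 5, 8, 7, 3, 2, 1, 4, 3, 2, 5, 4, 6, 7, 3, 4, 8, 7, 3, 2, 9, 6, 5, 4, 3])] 1 0 4,
  .ref [(3, 0, [1, 2, 3, 4, 5, 6, 7, 3, 2, 1, 4, 3, 2, 5, 4, 7, 9, 6, 5], [1, 2, 3, 4, 5, 6, 7, 3, 2, 1, 4, 3, 2, 5, 8, 7, 3, 2, 1, 4, 3, 2, 5, 4, 7, 3, 2, 4, 8, 7, 3, 2, 9, 6, 5, 4, 3])] 1 0 4,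
  .ref [(3, 0, [1, 2, 3, 4, 5, 6, 7, 3, 2, 1, 4, 3, 2, 5, 4, 7, 9, 6, 5], [1, 2, 3, 4, 5, 6, 7, 3, 2, 1, 4, 3, 2, 5, 8, 7, 3, 2, 1, 4, 3, 2, 5, 4, 3, 7, 3, 4, 8, 7, 3, 2, 9, 6, 5, 4, 3])] 1 0 4,
  .ref [(3, 0, [1, 2, 3, 4, 5, 6, 7, 3, 2, 1, 4, 3, 2, 5, 4, 7, 9, 6, 5], [1, 2, 3, 4, 5, 6, 7, 3, 2, 1, 4, 3, 2, 5, 8, 7, 3, 2, 1, 4, 3, 2, 5, 4, 7, 3, 4, 8, 7, 3, 2, 1, 9, 6, 5, 4, 3])] 1 0 4,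
  .ref [(3, 0, [1, 2, 3, 4, 5, 6, 7, 3, 2, 1, 4, 3, 2, 5, 4, 7, 9, 6, 5], [1, 2, 3, 4, 5, 6, 7, 3, 2, 1, 4, 3, 2, 5, 8, 7, 3, 2, 1, 0, 4, 3, 2, 5, 4, 7, 3, 2, 8, 7, 9, 6, 5, 4, 3, 2, 1])] 1 0 4,
  .ref [(3, 0, [1, 2, 3, 4, 5, 6, 7, 3, 2, 1, 4, 3, 2, 5, 4, 7, 9, 6, 5], [1, 2, 3, 4, 5, 6, 7, 3, 2, 1, 4, 3, 5, 8, 7, 3, 2, 1, 0, 4, 3, 2, 5, 4, 7, 3, 2, 8, 7, 9, 6, 5, 4, 3, 2, 1, 0])] 1 0 4,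
  .ref [(3, 0, [1, 2, 3, 4, 5, 6, 7, 3, 2, 1, 4, 3, 2, 5, 4, 7, 9, 6, 5], [1, 2, 3, 4, 5, 6, 7, 3, 2, 1, 4, 3, 2, 5, 8, 7, 3, 2, 1, 0, 4, 3, 2, 5, 4, 6, 7, 3, 8, 7, 9, 6, 5, 4, 3, 2, 1])] 1 0 4,
  .ref [(3, 0, [1, 2, 3, 4, 5, 6, 7, 3, 2, 1, 4, 3, 2, 5, 4, 7, 9, 6, 5], [1, 2, 3, 4, 5, 6, 7, 3, 2, 1, 4, 3, 2, 5, 8, 7, 3, 2, 1, 0, 4, 3, 2, 5, 4, 7, 3, 8, 7, 9, 6, 5, 4, 3, 2, 1, 0])] 1 0 4,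
  .ref [(3, 0, [1, 2, 3, 4, 5, 6, 7, 3, 2, 1, 4, 3, 2, 5, 4, 7, 9, 6, 5], [1, 2, 3, 4, 5, 6, 7, 3, 2, 1, 4, 3, 2, 5, 8, 7, 3, 2, 1, 4, 3, 2, 5, 4, 3, 7, 3, 8, 7, 9, 6, 5, 4, 3, 2, 1])] 1 0 4,
  .ref [(3, 0, [1, 2, 3, 4, 5, 6, 7, 3, 2, 1, 4, 3, 2, 5, 4, 7, 9, 6, 5], [1, 2, 3, 4, 5, 6, 7, 3, 2, 1, 4, 3, 2, 5, 8, 7, 3, 2, 1, 4, 3, 2, 5, 4, 7, 3, 2, 8, 7, 9, 6, 5, 4, 3, 2, 1])] 1 0 4,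
  .ref [(3, 0, [1, 2, 3, 4, 5, 6, 7, 3, 2, 1, 4, 3, 2, 5, 4, 7, 9, 6, 5], [1, 2, 3, 4, 5, 6, 7, 3, 2, 1, 4, 3, 2, 5, 8, 7, 3, 2, 1, 4, 3, 2, 5, 4, 7, 3, 8, 7, 9, 6, 5, 4, 3, 2, 1, 0])] 1 0 4,
  .ref [(3, 0, [1, 2, 3, 4, 5, 6, 7, 3, 2, 1, 4, 3, 2, 5, 4, 7, 9, 6, 5], [1, 2, 3, 4, 5, 6, 7, 3, 2, 1, 4, 3, 2, 5, 8, 7, 3, 2, 1, 4, 3, 2, 5, 4, 6, 7, 3, 8, 7, 9, 6, 5, 4, 3, 2, 1])] 1 0 4,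
  .ref [(3, 0, [1, 2, 3, 4, 5, 6, 7, 3, 2, 1, 4, 3, 2, 5, 4, 7, 9, 6, 5], [1, 2, 3, 4, 5, 6, 7, 3, 2, 1, 4, 3, 2, 5, 8, 7, 3, 2, 1, 4, 3, 2, 5, 4, 7, 3, 4, 8, 7, 3, 2, 9, 6, 5, 4, 3])] 1 0 4,
  .ref [(3, 0, [1, 2, 3, 4, 5, 6, 7, 3, 2, 1, 4, 3, 2, 5, 4, 7, 9, 6, 5], [1, 2, 3, 4, 5, 6, 7, 3, 2, 1, 4, 3, 2, 5, 7, 8, 7, 3, 2, 1, 0, 4, 3, 2, 5, 4, 7, 3, 8, 7, 9, 6, 5, 4, 3, 2, 1, 0])] 1 0 4,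
  .ref [(3, 0, [1, 2, 3, 4, 5, 6, 7, 3, 2, 1, 4, 3, 2, 5, 4, 7, 9, 6, 5], [1, 2, 3, 4, 5, 6, 7, 3, 2, 1, 4, 3, 2, 5, 7, 8, 7, 3, 2, 1, 4, 3, 2, 5, 4, 3, 7, 3, 8, 7, 9, 6, 5, 4, 3, 2, 1, 0])] 1 0 4,
  .ref [(3, 0, [1, 2, 3, 4, 5, 6, 7, 3, 2, 1, 4, 3, 2, 5, 4, 7, 9, 6, 5], [1, 2, 3, 4, 5, 6, 7, 3, 2, 1, 4, 3, 5, 8, 7, 3, 2, 1, 4, 3, 2, 5, 4, 3, 7, 3, 2, 8, 7, 9, 6, 5, 4, 3, 2, 1])] 1 0 4,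
  .ref [(3, 0, [1, 2, 3, 4, 5, 6, 7, 3, 2, 1, 4, 3, 2, 5, 4, 7, 9, 6, 5], [1, 2, 3, 4, 5, 6, 7, 3, 2, 1, 4, 3, 5, 8, 7, 3, 2, 1, 4, 3, 2, 5, 4, 6, 7, 3, 8, 7, 9, 6, 5, 4, 3, 2, 1, 0])] 1 0 4,
  .ref [(3, 0, [1, 2, 3, 4, 5, 6, 7, 3, 2, 1, 4, 3, 2, 5, 4, 7, 9, 6, 5], [1, 2, 3, 4, 5, 6, 7, 3, 2, 1, 4, 3, 5, 8, 7, 3, 2, 1, 4, 3, 2, 5, 4, 7, 3, 2, 8, 7, 9, 6, 5, 4, 3, 2, 1, 0])] 1 0 4,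
  .ref [(3, 0, [1, 2, 3, 4, 5, 6, 7, 3, 2, 1, 4, 3, 2, 5, 4, 7, 9, 6, 5], [1, 2, 3, 4, 5, 6, 7, 3, 2, 1, 4, 3, 5, 8, 7, 3, 2, 1, 4, 3, 2, 5, 4, 3, 7, 3, 2, 1, 4, 8, 7, 3, 2, 9, 6, 5, 4, 3])] 1 0 4,
  .ref [(3, 0, [1, 2, 3, 4, 5, 6, 7, 3, 2, 1, 4, 3, 2, 5, 4, 7, 9, 6, 5], [1, 2, 3, 4, 5, 6, 7, 3, 2, 1, 4, 3, 2, 5, 8, 7, 3, 2, 1, 4, 3, 2, 5, 4, 3, 7, 3, 4, 5, 8, 7, 3, 2, 9, 6, 5, 4, 3])] 1 0 4,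
  .ref [(3, 0, [1, 2, 3, 4, 5, 6, 7, 3, 2, 1, 4, 3, 2, 5, 4, 7, 9, 6, 5], [1, 2, 3, 4, 5, 6, 7, 3, 2, 1, 4, 3, 2, 5, 8, 7, 3, 2, 1, 4, 3, 2, 5, 4, 6, 7, 3, 4, 5, 8, 7, 3, 2, 9, 6, 5, 4, 3])] 1 0 4,
  .ref [(3, 0, [1, 2, 3, 4, 5, 6, 7, 3, 2, 1, 4, 3, 2, 5, 4, 7, 9, 6, 5], [1, 2, 3, 4, 5, 6, 7, 3, 2, 1, 4, 3, 2, 5, 8, 7, 3, 2, 1, 4, 3, 2, 5, 4, 6, 7, 3, 4, 5, 8, 7, 3, 4, 9, 6, 5, 4, 3])] 1 0 4,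
  .ref [(3, 0, [1, 2, 3, 4, 5, 6, 7, 3, 2, 1, 4, 3, 2, 5, 4, 7, 9, 6, 5], [1, 2, 3, 4, 5, 6, 7, 3, 2, 1, 4, 3, 2, 5, 8, 7, 3, 2, 1, 4, 3, 2, 5, 4, 7, 3, 2, 4, 5, 8, 7, 3, 4, 9, 6, 5, 4, 3])] 1 0 4,
  .ref [(3, 0, [1, 2, 3, 4, 5, 6, 7, 3, 2, 1, 4, 3, 2, 5, 4, 7, 9, 6, 5], [1, 2, 3, 4, 5, 6, 7, 3, 2, 1, 4, 3, 2, 5, 8, 7, 3, 2, 1, 4, 3, 2, 5, 4, 3, 7, 3, 4, 8, 7, 3, 2, 1, 9, 6, 5, 4, 3])] 1 0 4,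
  .ref [(3, 0, [1, 2, 3, 4, 5, 6, 7, 3, 2, 1, 4, 3, 2, 5, 4, 7, 9, 6, 5], [1, 2, 3, 4, 5, 6, 7, 3, 2, 1, 4, 3, 2, 5, 8, 7, 3, 2, 1, 0, 4, 3, 2, 5, 4, 3, 7, 3, 4, 8, 7, 3, 2, 9, 6, 5, 4, 3])] 1 0 4,
  .ref [(3, 0, [1, 2, 3, 4, 5, 6, 7, 3, 2, 1, 4, 3, 2, 5, 4, 7, 9, 6, 5], [1, 2, 3, 4, 5, 6, 7, 3, 2, 1, 4, 3, 2, 5, 8, 7, 3, 2, 1, 0, 4, 3, 2, 5, 4, 7, 3, 2, 4, 8, 7, 3, 2, 9, 6, 5, 4, 3])] 1 0 4,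
  .ref [(3, 0, [1, 2, 3, 4, 5, 6, 7, 3, 2, 1, 4, 3, 2, 5, 4, 7, 9, 6, 5], [1, 2, 3, 4, 5, 6, 7, 3, 2, 1, 4, 3, 5, 8, 7, 3, 2, 1, 4, 3, 2, 5, 4, 3, 7, 3, 8, 7, 9, 6, 5, 4, 3, 2, 1, 0])] 1 0 4,
  .ref [(3, 0, [1, 2, 3, 4, 5, 6, 7, 3, 2, 1, 4, 3, 2, 5, 4, 7, 9, 6, 5], [1, 2, 3, 4, 5, 6, 7, 3, 2, 1, 4, 3, 2, 5, 8, 7, 3, 2, 1, 0, 4, 3, 2, 5, 4, 3, 7, 3, 8, 7, 9, 6, 5, 4, 3, 2, 1, 0])] 1 0 4,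
  .ref [(3, 0, [1, 2, 3, 4, 5, 6, 7, 3, 2, 1, 4, 3, 2, 5, 4, 7, 9, 6, 5], [1, 2, 3, 4, 5, 6, 7, 3, 2, 1, 4, 3, 2, 5, 8, 7, 3, 2, 1, 4, 3, 2, 5, 4, 6, 5, 7, 3, 8, 7, 9, 6, 5, 4, 3, 2, 1, 0])] 1 0 4,
  .ref [(3, 0, [1, 2, 3, 4, 5, 6, 7, 3, 2, 1, 4, 3, 2, 5, 4, 7, 9, 6, 5], [1, 2, 3, 4, 5, 6, 7, 3, 2, 1, 4, 3, 2, 5, 8, 7, 3, 2, 1, 0, 4, 3, 2, 5, 4, 7, 3, 2, 8, 7, 9, 6, 5, 4, 3, 2, 1, 0])] 1 0 4,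
  .ref [(3, 0, [1, 2, 3, 4, 5, 6, 7, 3, 2, 1, 4, 3, 2, 5, 4, 7, 9, 6, 5], [1, 2, 3, 4, 5, 6, 7, 3, 2, 1, 4, 3, 2, 5, 8, 7, 3, 2, 1, 0, 4, 3, 2, 5, 4, 6, 7, 3, 8, 7, 9, 6, 5, 4, 3, 2, 1, 0])] 1 0 4,
  .ref [(3, 0, [1, 2, 3, 4, 5, 6, 7, 3, 2, 1, 4, 3, 2, 5, 4, 7, 9, 6, 5], [1, 2, 3, 4, 5, 6, 7, 3, 2, 1, 4, 3, 2, 5, 8, 7, 3, 2, 1, 4, 3, 2, 5, 4, 3, 7, 3, 8, 7, 9, 6, 5, 4, 3, 2, 1, 0])] 1 0 4,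
  .ref [(3, 0, [1, 2, 3, 4, 5, 6, 7, 3, 2, 1, 4, 3, 2, 5, 4, 7, 9, 6, 5], [1, 2, 3, 4, 5, 6, 7, 3, 2, 1, 4, 3, 2, 5, 8, 7, 3, 2, 1, 4, 3, 2, 5, 4, 7, 3, 2, 8, 7, 9, 6, 5, 4, 3, 2, 1, 0])] 1 0 4,
  .ref [(3, 0, [1, 2, 3, 4, 5, 6, 7, 3, 2, 1, 4, 3, 2, 5, 4, 7, 9, 6, 5], [1, 2, 3, 4, 5, 6, 7, 3, 2, 1, 4, 3, 2, 5, 8, 7, 3, 2, 1, 4, 3, 2, 5, 4, 6, 7, 3, 8, 7, 9, 6, 5, 4, 3, 2, 1, 0])] 1 0 4,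
  .ref [(3, 0, [1, 2, 3, 4, 5, 6, 7, 3, 2, 1, 4, 3, 2, 5, 4, 7, 9, 6, 5], [1, 2, 3, 4, 5, 6, 7, 3, 2, 1, 4, 3, 5, 8, 7, 3, 2, 1, 4, 3, 2, 5, 4, 3, 7, 3, 2, 8, 7, 9, 6, 5, 4, 3, 2, 1, 0])] 1 0 4]

def closures : List (ℕ × List (List ℕ) × List (ℕ × ℕ × ℕ)) := [
  (0, [[], [1, 0], [1, 0, 2, 1, 3, 2], [1, 0, 2, 1, 3, 2, 4, 3], [1, 0, 2, 1, 3, 2, 4, 3, 5, 4, 6, 5], [1, 0, 2, 1, 3, 2, 7, 3, 8, 7], [1, 0, 2, 1, 3, 2, 4, 3, 5, 4, 6, 5, 9, 6], [1, 2, 3, 4, 7, 3, 2, 1, 8, 7, 3, 2, 4, 3, 7], [1, 2, 3, 4, 5, 6, 7, 3, 2, 1, 4, 3, 2, 5, 4, 7, 9, 6, 5], [1, 2, 3, 4, 5, 6, 7, 3, 2, 1, 4, 3, 2, 5, 4, 3, 8, 7, 9, 6, 5], [1, 2, 3, 4, 5, 6, 7,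 3, 2, 1, 4, 3, 2, 5, 4, 3, 8, 7, 3, 4, 5], [1, 2, 3, 4, 5, 6, 7, 3, 2, 4, 3, 5, 4, 8, 7, 3, 2, 9, 6, 5, 4, 3, 7], [1, 2, 3, 4, 5, 6, 7, 3, 2, 1, 4, 3, 5, 8, 7, 3, 2, 1, 4, 3, 2, 5, 4, 7, 3, 8, 7], [1, 2, 3, 4, 5, 6, 7, 3, 2, 1, 4, 5, 8, 7, 3, 2, 1, 4, 3, 2, 5, 7, 3, 4, 9, 6, 5, 4, 3, 2, 7], [1, 0, 2, 3, 4, 5, 6, 7, 3, 2, 4, 3, 5, 4, 7, 3, 2, 1, 9, 6, 5, 4, 3, 2, 7, 3, 4, 5, 6, 9], [1, 2, 3, 4, 5, 6, 7, 3, 2, 1, 4, 3, 2, 5, 7, 3, 8, 7, 3, 2, 1, 4, 3, 2, 9, 6], [1, 2, 3, 4, 5, 6, 7, 3, 2, 1, 4, 3, 5, 4, 8, 7, 3, 2, 1, 4, 3, 2, 5, 4, 7, 3, 2, 8, 7, 3], [1, 2, 3, 4, 5, 6, 7, 3, 2, 1, 4, 3, 2, 5, 8, 7, 3, 2, 1, 0, 4, 3, 2, 5, 4,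 7, 3, 8, 7, 9, 6, 5, 4, 3, 2, 1, 7, 3, 4, 8, 7, 3]], [(0, 6, 1), (1, 11, 3877), (2, 17, 31083), (3, 5, 30692), (4, 14, 30488), (5, 17, 8005), (1, 14, 7999), (7, 16, 17565), (8, 11, 18141), (9, 12, 8001), (1, 9, 1881), (11, 3, 2525), (12, 16, 14999), (13, 8, 11213), (14, 13, 8004)]),
  (3, [[], [1, 0], [1, 0, 2, 1, 3, 2], [1, 0, 2, 1, 3, 2, 4, 3], [1, 0, 2, 1, 3, 2, 4, 3, 5, 4, 6, 5], [1, 0, 2, 1, 3, 2, 7, 3, 8, 7], [1, 0, 2, 1, 3, 2, 4, 3, 5, 4, 6, 5, 9, 6], [1, 2, 3, 4, 7, 3, 2, 1, 8, 7, 3, 2, 4, 3, 7], [1, 2, 3, 4, 5, 6, 7, 3, 2, 1, 4, 3, 2, 5, 4, 7, 9, 6, 5], [1, 2, 3, 4, 5, 6, 7, 3, 2, 1, 4, 3, 2, 5, 4, 3, 8, 7, 9, 6, 5],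 [1, 2, 3, 4, 5, 6, 7, 3, 2, 1, 4, 3, 2, 5, 4, 3, 8, 7, 3, 4, 5], [1, 2, 3, 4, 5, 6, 7, 3, 2, 4, 3, 5, 4, 8, 7, 3, 2, 9, 6, 5, 4, 3, 7], [1, 2, 3, 4, 5, 6, 7, 3, 2, 1, 4, 3, 5, 8, 7, 3, 2, 1, 4, 3, 2, 5, 4, 7, 3, 8, 7], [1, 2, 3, 4, 5, 6, 7, 3, 2, 1, 4, 5, 8, 7, 3, 2, 1, 4, 3, 2, 5, 7, 3, 4, 9, 6, 5, 4, 3, 2, 7], [1, 0, 2, 3, 4, 5, 6, 7, 3, 2, 4, 3, 5, 4, 7, 3, 2, 1, 9, 6, 5, 4, 3, 2, 7, 3, 4], [1, 2, 3, 4, 5, 6, 7, 3, 2, 1, 4, 3, 5, 8, 7, 3, 2, 4, 3, 5, 4, 7, 3, 2, 9, 6, 5, 4, 3, 2, 1, 0, 7], [1, 2, 3, 4, 5, 6, 7, 3, 2, 1, 4, 3, 5, 8, 7, 3, 2, 1, 4, 3, 2, 5, 4, 7, 3, 4, 5, 8, 9, 6, 5, 4, 3, 2], [1, 2, 3, 4, 5, 6, 7, 3, 2, 1,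 4, 3, 5, 7, 8, 7, 3, 2, 4, 3, 7]], [(0, 11, 476), (1, 1, 606), (2, 14, 1648), (3, 13, 14958), (4, 15, 8005), (0, 3, 4), (6, 15, 6492), (7, 3, 7980), (8, 16, 1652), (9, 11, 8001), (6, 7, 357), (11, 9, 8004)]),
  (6, [[], [1, 0], [1, 0, 2, 1, 3, 2], [1, 0, 2, 1, 3, 2, 4, 3], [1, 0, 2, 1, 3, 2, 4, 3, 5, 4, 6, 5], [1, 0, 2, 1, 3, 2, 7, 3, 8, 7], [1, 0, 2, 1, 3, 2, 4, 3, 5, 4, 6, 5, 9, 6], [1, 2, 3, 4, 7, 3, 2, 1, 8, 7, 3, 2, 4, 3, 7], [1, 2, 3, 4, 5, 6, 7, 3, 2, 1, 4, 3, 2, 5, 4, 7, 9, 6, 5], [1, 2, 3, 4, 5, 6, 7, 3, 2, 1, 4, 3, 2, 5, 4, 3, 8, 7, 9, 6, 5], [1, 2, 3, 4, 5, 6, 7, 3, 2, 1, 4, 3, 2, 5, 4, 3, 8, 7, 3, 4, 5], [1, 2,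 3, 4, 5, 6, 7, 3, 2, 4, 3, 5, 4, 8, 7, 3, 2, 9, 6, 5, 4, 3, 7], [1, 2, 3, 4, 5, 6, 7, 3, 2, 1, 4, 3, 5, 8, 7, 3, 2, 1, 4, 3, 2, 5, 4, 7, 3, 8, 7], [1, 2, 3, 4, 5, 6, 7, 3, 2, 1, 4, 5, 8, 7, 3, 2, 1, 4, 3, 2, 5, 7, 3, 4, 9, 6, 5, 4, 3, 2, 7], [1, 0, 2, 3, 4, 5, 6, 7, 3, 2, 4, 3, 5, 4, 7, 3, 2, 1, 9, 6, 5, 4, 3, 7], [1, 2, 3, 4, 5, 6, 7, 3, 2, 4, 3, 5, 4, 8, 7, 3, 2, 1, 0, 4, 3, 7, 9], [1, 2, 3, 4, 5, 6, 7, 3, 2, 1, 4, 3, 2, 5, 8, 7, 3, 2, 1, 4, 3, 2, 5, 4, 3, 7, 3, 4, 8, 7, 3, 9, 6, 5, 4, 3, 2, 1, 0, 7, 3, 2, 4, 5, 6], [1, 2, 3, 4, 5, 6, 7, 3, 2, 1, 4, 3, 5, 8, 7, 3, 2, 1, 4, 3, 2, 5, 4, 7, 9, 6, 5]], [(0, 12, 26429), (1, 0,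 25516), (2, 8, 15398), (3, 15, 31332), (4, 16, 8005), (0, 15, 8697), (6, 17, 16839), (7, 1, 18903), (8, 7, 31637), (9, 16, 8001), (0, 1, 8), (11, 12, 28753), (12, 17, 7956), (13, 11, 8682), (14, 15, 9), (15, 14, 8004)]),
  (9, [[], [1, 0], [1, 0, 2, 1, 3, 2], [1, 0, 2, 1, 3, 2, 4, 3], [1, 0, 2, 1, 3, 2, 4, 3, 5, 4, 6, 5], [1, 0, 2, 1, 3, 2, 7, 3, 8, 7], [1, 0, 2, 1, 3, 2, 4, 3, 5, 4, 6, 5, 9, 6], [1, 2, 3, 4, 7, 3, 2, 1, 8, 7, 3, 2, 4, 3, 7], [1, 2, 3, 4, 5, 6, 7, 3, 2, 1, 4, 3, 2, 5, 4, 7, 9, 6, 5], [1, 2, 3, 4, 5, 6, 7, 3, 2, 1, 4, 3, 2, 5, 4, 3, 8, 7, 9, 6, 5], [1, 2, 3, 4, 5, 6, 7, 3, 2, 1, 4, 3, 2, 5, 4, 3, 8, 7, 3, 4,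 5], [1, 2, 3, 4, 5, 6, 7, 3, 2, 4, 3, 5, 4, 8, 7, 3, 2, 9, 6, 5, 4, 3, 7], [1, 2, 3, 4, 5, 6, 7, 3, 2, 1, 4, 3, 5, 8, 7, 3, 2, 1, 4, 3, 2, 5, 4, 7, 3, 8, 7], [1, 2, 3, 4, 5, 6, 7, 3, 2, 1, 4, 5, 8, 7, 3, 2, 1, 4, 3, 2, 5, 7, 3, 4, 9, 6, 5, 4, 3, 2, 7], [1, 0, 2, 3, 4, 5, 6, 7, 3, 2, 4, 3, 5, 4, 7, 3, 2, 1, 9, 6, 5, 4, 3], [1, 2, 3, 4, 5, 6, 7, 3, 2, 1, 4, 3, 5, 7, 8, 7, 3, 2, 4, 3, 5, 7, 8, 9, 6, 5, 4, 3], [1, 2, 3, 4, 5, 6, 7, 3, 2, 1, 4, 3, 5, 8, 7, 3, 2, 1, 0, 4, 3, 2, 5, 4, 7, 8, 9, 6, 5, 4, 3, 2], [1, 2, 3, 4, 5, 6, 7, 3, 2, 1, 4, 3, 5, 8, 7, 3, 2, 1, 4, 3, 2, 5, 4, 7, 3, 2, 1, 4, 5, 8, 7, 3, 9, 6, 5]], [(0, 5, 14), (1,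 7, 118), (2, 5, 80), (3, 8, 8005), (0, 12, 18601), (5, 1, 20468), (6, 8, 18141), (7, 12, 8001), (0, 16, 23076), (9, 2, 21593), (10, 4, 19850), (11, 5, 17917), (12, 16, 8004)]),
  (54, [[], [1, 0], [1, 0, 2, 1, 3, 2], [1, 0, 2, 1, 3, 2, 4, 3], [1, 0, 2, 1, 3, 2, 4, 3, 5, 4, 6, 5], [1, 0, 2, 1, 3, 2, 7, 3, 8, 7], [1, 0, 2, 1, 3, 2, 4, 3, 5, 4, 6, 5, 9, 6], [1, 2, 3, 4, 7, 3, 2, 1, 8, 7, 3, 2, 4, 3, 7], [1, 2, 3, 4, 5, 6, 7, 3, 2, 1, 4, 3, 2, 5, 4, 7, 9, 6, 5], [1, 2, 3, 4, 5, 6, 7, 3, 2, 1, 4, 3, 2, 5, 4, 3, 8, 7, 9, 6, 5], [1, 2, 3, 4, 5, 6, 7, 3, 2, 1, 4, 3, 2, 5, 4, 3, 8, 7, 3, 4, 5], [1, 2, 3, 4, 5, 6, 7, 3, 2, 4, 3, 5, 4,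 8, 7, 3, 2, 9, 6, 5, 4, 3, 7], [1, 2, 3, 4, 5, 6, 7, 3, 2, 1, 4, 3, 5, 8, 7, 3, 2, 1, 4, 3, 2, 5, 4, 7, 3, 8, 7], [1, 2, 3, 4, 5, 6, 7, 3, 2, 1, 4, 5, 8, 7, 3, 2, 1, 4, 3, 2, 5, 7, 3, 4, 9, 6, 5, 4, 3, 2, 7], [1, 0, 2, 1, 3, 4, 5, 6, 7, 3, 4, 5, 8, 7, 3, 2, 4, 3, 9, 6], [1, 2, 3, 4, 5, 6, 7, 3, 2, 1, 4, 3, 2, 5, 4, 7, 8, 7, 3, 2, 1, 4, 3, 2, 5, 4, 7, 3, 2, 4, 8, 9, 6, 5, 4, 3, 7, 8], [1, 2, 3, 4, 5, 6, 7, 3, 2, 1, 4, 3, 5, 7, 8, 7, 3, 2, 1, 4, 3, 2, 5, 4, 7, 3, 2, 4, 8, 7, 9, 6, 5, 4, 3, 2, 7, 8], [1, 2, 3, 4, 5, 6, 7, 3, 2, 1, 4, 3, 2, 5, 4, 7, 8, 7, 3, 2, 1, 4, 3, 2, 5, 4, 3, 7, 3, 2, 8, 7, 9, 6, 5, 4, 3, 2, 1, 0, 7, 3, 4,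 5]], [(0, 12, 22999), (1, 6, 21500), (2, 4, 22391), (3, 17, 80), (4, 8, 8005), (0, 15, 5093), (6, 8, 1222), (7, 17, 7614), (8, 13, 8001), (0, 1, 74), (10, 4, 106), (11, 16, 24325), (12, 12, 166), (13, 8, 8004)])]


end CfsgLib.Fi23Solv
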