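import Cfsg.Agent.CosetEnum.Check

/-! Generated data for a solvable maximal subgroup of Fi23. -/

set_option autoImplicit false
set_option maxRecDepth 100000

namespace CfsgLib.Fi23Solv

open CfsgLib.CosetEnum (NTree slot16 slot32)

def nodes : ℕ := 610

def nT : ℕ := 14

def nL : ℕ := 17

def tPath : List (List ℕ) := [[], [1, 0], [1, 0, 2, 1, 3, 2], [1, 0, 2, 1, 3, 2, 4, 3], [1, 0, 2, 1, 3, 2, 4, 3, 5, 4, 6, 5], [1, 0, 2, 1, 3, 2, 7, 3, 8, 7], [1, 0, 2, 1, 3, 2, 4, 3, 5, 4, 6, 5, 9, 6], [1, 2, 3, 4, 7, 3, 2, 1, 8, 7, 3, 2, 4, 3, 7], [1, 2, 3, 4, 5, 6, 7, 3, 2, 1, 4, 3, 2, 5, 4, 7, 9, 6, 5], [1, 2, 3, 4, 5, 6, 7, 3, 2, 1, 4, 3, 2, 5, 4, 3, 8, 7, 9, 6, 5], [1, 2, 3, 4,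 5, 6, 7, 3, 2, 1, 4, 3, 2, 5, 4, 3, 8, 7, 3, 4, 5], [1, 2, 3, 4, 5, 6, 7, 3, 2, 4, 3, 5, 4, 8, 7, 3, 2, 9, 6, 5, 4, 3, 7], [1, 2, 3, 4, 5, 6, 7, 3, 2, 1, 4, 3, 5, 8, 7, 3, 2, 1, 4, 3, 2, 5, 4, 7, 3, 8, 7], [1, 2, 3, 4, 5, 6, 7, 3, 2, 1, 4, 5, 8, 7, 3, 2, 1, 4, 3, 2, 5, 7, 3, 4, 9, 6, 5, 4, 3, 2, 7]]

def path0 : List ℕ := []

def letterW : List (List ℕ) := [[0], [1], [3], [4], [6], [8], [9], [7, 3, 4, 2, 3, 7, 8, 1, 2, 3, 7, 4, 3, 2, 1, 0, 1, 2, 3, 4, 7, 3, 2, 1, 8, 7, 3, 2, 4, 3, 7], [5, 6, 9, 7, 4, 5, 2, 3, 4, 1, 2, 3, 7, 6, 5, 4, 3, 2, 1, 0, 1, 2, 3, 4, 5, 6, 7, 3, 2, 1, 4, 3, 2, 5, 4, 7, 9, 6, 5], [5, 6, 9, 7, 8, 3, 4, 5, 2, 3, 4, 1, 2, 3, 7, 6, 5, 4, 3, 2, 1, 0,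 1, 2, 3, 4, 5, 6, 7, 3, 2, 1, 4, 3, 2, 5, 4, 3, 8, 7, 9, 6, 5], [5, 4, 3, 7, 8, 3, 4, 5, 2, 3, 4, 1, 2, 3, 7, 6, 5, 4, 3, 2, 1, 0, 1, 2, 3, 4, 5, 6, 7, 3, 2, 1, 4, 3, 2, 5, 4, 3, 8, 7, 3, 4, 5], [7, 3, 4, 5, 6, 9, 2, 3, 7, 8, 4, 5, 3, 4, 2, 3, 7, 6, 5, 4, 3, 2, 1, 0, 1, 2, 3, 4, 5, 6, 7, 3, 2, 4, 3, 5, 4, 8, 7, 3, 2, 9, 6, 5, 4, 3, 7], [7, 8, 3, 7, 4, 5, 2, 3, 4, 1, 2, 3, 7, 8, 5, 3, 4, 1, 2, 3, 7, 6, 5, 4, 3, 2, 1, 0, 1, 2, 3, 4, 5, 6, 7, 3, 2, 1, 4, 3, 5, 8, 7, 3, 2, 1, 4, 3, 2, 5, 4, 7, 3, 8, 7], [7, 2, 3, 4, 5, 6, 9, 4, 3, 7, 5, 2, 3, 4, 1, 2, 3, 7, 8, 5, 4, 1, 2, 3, 7, 6, 5, 4, 3, 2, 1, 0, 1, 2, 3, 4, 5, 6, 7, 3, 2, 1, 4, 5, 8, 7, 3, 2, 1, 4, 3, 2, 5, 7, 3, 4, 9,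 6, 5, 4, 3, 2, 7], [7, 3, 4, 5, 6, 9, 1, 2, 3, 7, 8, 4, 5, 3, 4, 2, 3, 7, 6, 5, 4, 3, 2, 0, 1, 0, 1, 0, 2, 3, 4, 5, 6, 7, 3, 2, 4, 3, 5, 4, 8, 7, 3, 2, 1, 9, 6, 5, 4, 3, 7, 5, 4, 3, 7, 8, 2, 3, 4, 1, 2, 3, 7, 5, 4, 3, 2, 1, 0, 1, 2, 3, 4, 5, 7, 3, 2, 1, 4, 3, 2, 8, 7, 3, 4, 5, 9, 6, 5, 4, 3, 7, 2, 3, 4, 5, 6, 9, 1, 2, 3, 7, 4, 5, 3, 4, 2, 3, 7, 6, 5, 4, 3, 2, 0, 1, 0, 1, 0, 2, 3, 4, 5, 6, 7, 3, 2, 4, 3, 5, 4, 7, 3, 2, 1, 9, 6, 5, 4, 3, 2, 7, 3, 4, 5, 6, 9, 8, 7, 2, 3, 4, 5, 6, 9, 7, 3, 4, 2, 3, 7, 8, 7, 4, 5, 2, 3, 4, 1, 2, 3, 7, 6, 5, 4, 3, 2, 1, 0, 1, 2, 3, 4, 5, 6, 7, 3, 2, 1, 4, 3, 2, 5, 4, 7, 8, 7, 3, 2, 4, 3, 7, 9, 6, 5, 4, 3, 2, 7, 8, 6, 9, 7, 3, 4, 2, 3, 7, 8,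 5, 4, 3, 7, 6, 5, 4, 3, 1, 2, 0, 1, 0, 1, 0, 2, 1, 3, 4, 5, 6, 7, 3, 4, 5, 8, 7, 3, 2, 4, 3, 7, 9, 6, 6, 5, 4, 3, 7, 8, 3, 7, 4, 5, 3, 4, 1, 2, 3, 7, 6, 5, 4, 3, 2, 1, 0, 1, 2, 3, 4, 5, 6, 7, 3, 2, 1, 4, 3, 5, 4, 7, 3, 8, 7, 3, 4, 5, 6], [2, 3, 4, 5, 6, 9, 7, 8, 3, 7, 4, 5, 2, 3, 4, 0, 1, 2, 3, 7, 8, 5, 2, 3, 4, 1, 2, 3, 7, 6, 5, 4, 3, 2, 1, 0, 1, 2, 3, 4, 5, 6, 7, 3, 2, 1, 4, 3, 2, 5, 8, 7, 3, 2, 1, 0, 4, 3, 2, 5, 4, 7, 3, 8, 7, 9, 6, 5, 4, 3, 2, 7, 3, 4, 2, 3, 7, 8, 1, 2, 3, 7, 4, 3, 2, 1, 0, 1, 2, 3, 4, 7, 3, 2, 1, 8, 7, 3, 2, 4, 3, 7, 7, 3, 4, 5, 6, 9, 8, 7, 5, 6, 4, 5, 3, 4, 2, 3, 7, 8, 5, 2, 3, 4, 1, 2, 3, 7, 6, 5, 4, 3, 2, 1, 0, 1, 2, 3, 4, 5, 6, 7, 3, 2, 1, 4,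 3, 2, 5, 8, 7, 3, 2, 4, 3, 5, 4, 6, 5, 7, 8, 9, 6, 5, 4, 3, 7, 7, 3, 4, 5, 6, 9, 8, 7, 4, 5, 3, 4, 2, 3, 7, 8, 7, 5, 3, 4, 1, 2, 3, 7, 6, 5, 4, 3, 2, 1, 0, 1, 2, 3, 4, 5, 6, 7, 3, 2, 1, 4, 3, 5, 7, 8, 7, 3, 2, 4, 3, 5, 4, 7, 8, 9, 6, 5, 4, 3, 7, 7, 3, 4, 5, 6, 9, 1, 2, 3, 7, 4, 5, 3, 4, 2, 3, 7, 6, 5, 4, 3, 2, 0, 1, 0, 1, 0, 2, 3, 4, 5, 6, 7, 3, 2, 4, 3, 5, 4, 7, 3, 2, 1, 9, 6, 5, 4, 3, 7], [9, 7, 8, 4, 3, 7, 3, 4, 5, 2, 3, 4, 1, 2, 3, 7, 8, 5, 3, 4, 1, 2, 3, 7, 6, 5, 4, 3, 2, 1, 0, 1, 2, 3, 4, 5, 6, 7, 3, 2, 1, 4, 3, 5, 8, 7, 3, 2, 1, 4, 3, 2, 5, 4, 3, 7, 3, 4, 8, 7, 9, 5, 4, 3, 7, 8, 2, 3, 4, 1, 2, 3, 7, 5, 4, 3, 2, 1, 0, 1, 2, 3, 4, 5, 7, 3, 2, 1, 4, 3, 2, 8, 7, 3,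 4, 5, 6, 5, 4, 3, 7, 2, 3, 4, 5, 6, 9, 1, 2, 3, 7, 4, 5, 3, 4, 2, 3, 7, 6, 5, 4, 3, 2, 0, 1, 0, 1, 0, 2, 3, 4, 5, 6, 7, 3, 2, 4, 3, 5, 4, 7, 3, 2, 1, 9, 6, 5, 4, 3, 2, 7, 3, 4, 5, 6, 7, 3, 4, 5, 6, 9, 7, 3, 4, 2, 3, 7, 8, 7, 4, 5, 2, 3, 4, 1, 2, 3, 7, 6, 5, 4, 3, 2, 1, 0, 1, 2, 3, 4, 5, 6, 7, 3, 2, 1, 4, 3, 2, 5, 4, 7, 8, 7, 3, 2, 4, 3, 7, 9, 6, 5, 4, 3, 7, 6, 9, 3, 7, 4, 5, 3, 4, 1, 2, 3, 7, 6, 5, 4, 3, 2, 1, 0, 1, 2, 3, 4, 5, 6, 7, 3, 2, 1, 4, 3, 5, 4, 7, 3, 9, 6, 7, 8, 5, 4, 3, 7, 6, 5, 4, 3, 1, 2, 0, 1, 0, 1, 0, 2, 1, 3, 4, 5, 6, 7, 3, 4, 5, 8, 7]]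

def basB : List ℕ := [11589, 7, 10, 115, 947, 7631, 11046]

def pcs : List ℕ := [535, 540, 521, 545, 546, 548, 552, 554, 557, 559, 564, 568, 573, 576, 578, 580, 584, 589, 593, 597, 602, 605, 607]

def conjW : List (List (List ℕ)) := [[], [[0]], [[0], [1]], [[0], [1], [2]], [[0], [1], [2], [3]], [[0], [1], [2], [3], [4]], [[0], [1], [2], [3], [4], [5]], [[0], [1], [2], [3], [4], [5], [6]], [[0, 0], [1, 1], [2, 2], [3, 3], [4, 4], [5, 5], [6, 6], [7, 7]], [[6, 4, 4, 1, 1], [6, 4, 4, 1, 0], [7, 6, 6, 3, 3, 1, 0], [4, 4, 3, 2, 1], [7, 4, 3, 3, 2, 0, 0], [7, 5, 4, 4, 3, 3, 2, 2], [7, 6, 3, 3, 2, 1, 0], [7, 6, 6, 4, 1, 1], [8, 6, 6, 4, 4, 2, 2, 1, 0]], [[6, 6, 5, 5, 3, 3,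 1, 1, 0], [2, 0], [6, 5, 3, 0, 0], [7, 6, 5, 3, 3, 1, 0, 0], [7, 6, 6, 4, 1, 1, 0], [7, 7, 6, 4, 3, 1, 0], [5, 4, 4, 3, 3, 2, 2, 0], [7, 7, 6, 6, 5, 5, 1, 1], [8, 7, 7, 3, 1, 1], [9, 8, 7, 7, 4, 4, 2, 2, 1]], [[6, 5, 5, 4, 4, 3, 2, 1, 0, 0], [7, 6, 5, 5, 2, 1, 1, 0, 0], [6, 6, 5, 5, 3, 3, 2, 0], [5, 4, 2, 2, 1, 0, 0], [6, 6, 5, 4, 2, 1, 1], [7, 7, 5, 4, 3, 3, 0], [7, 5, 5, 3, 2], [7, 7, 5, 1, 1, 0], [8, 4, 3, 2, 1], [9, 7, 7, 6, 5, 5, 4, 3, 3, 2, 0], [10, 8, 6, 5, 3, 2, 2, 1, 0]], [[6, 6, 5, 5, 4, 3, 2, 0, 0], [7, 5, 5, 4, 2, 1], [7, 7, 5, 4, 4, 3, 3, 2, 0], [7, 7, 6, 6, 3, 3, 2, 2, 1, 1, 0], [7, 7, 6, 1, 0, 0], [5, 4, 3, 3, 2, 2, 1, 1, 0, 0], [6, 5, 3, 1, 0], [7, 6,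 6, 5, 4, 1, 1, 0, 0], [8, 6, 6, 5, 5, 4, 3, 3, 2, 2], [9, 7, 6, 5, 5, 4, 4, 2, 2, 1, 1], [10, 8, 7, 7, 6, 4, 3, 3, 2, 2, 0, 0], [11, 8, 7, 7, 5, 4, 4, 2, 1, 1, 0, 0]], [[7, 6, 4, 2, 1, 1, 0, 0], [5, 4, 4, 1, 0], [5, 5, 4, 4, 1, 1], [7, 7, 6, 3, 3, 0, 0], [7, 7, 6, 6, 4, 4, 1, 1, 0], [7, 6, 5, 5, 4, 4, 2, 2, 0], [7, 6, 6, 5, 2, 1, 1, 0, 0], [7, 5, 4, 4, 0], [8, 7, 7, 6, 5, 4, 2, 2, 1], [9, 8, 7, 7, 6, 4, 4, 3, 3, 1, 1, 0, 0], [10, 6, 5, 4, 4, 3, 3, 2, 2, 0], [11, 7, 7, 5, 5, 4, 1, 1, 0, 0], [12, 7, 7, 6, 6, 4, 2, 2, 1, 0]], [[7, 6, 6, 5, 5, 4, 4, 3, 2, 2, 1, 1, 0], [6, 5, 5, 4, 4, 3, 3, 2, 2, 1], [5, 5, 4, 3, 2, 1, 1], [7, 6, 6, 4, 4, 3, 3, 2, 1, 0], [7, 6, 5, 3, 3, 2,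 0, 0], [7, 7, 6, 6, 5, 4, 2, 2, 1, 1], [7, 6, 5, 5, 4, 4], [7, 7, 6, 4, 4, 3, 3, 1, 1, 0, 0], [8, 7, 7, 6, 5, 5, 1, 1, 0, 0], [9, 7, 7, 5, 5, 2, 1, 1, 0], [10, 8, 5], [11, 7, 7, 5, 5, 3, 2, 0, 0], [12, 7, 7, 6, 5, 3, 3, 2, 1, 1, 0, 0], [13, 6, 6, 4, 3, 3, 2, 1, 0, 0]], [[7, 7, 6, 6, 5, 4, 2, 2, 1, 1, 0], [7, 5, 5, 4, 4, 3, 3], [7, 7, 5, 5, 4, 4, 3, 3, 1, 0, 0], [6, 5, 5, 4, 4, 3, 2, 2, 1, 0], [4, 4, 3, 3, 2, 2, 0, 0], [7, 6, 5, 3, 2, 2, 1, 1, 0, 0], [7, 7, 6, 6, 5, 4, 4, 3], [6, 6, 5, 4, 4, 3, 2, 2, 0], [8, 7, 6, 6, 5, 5, 4, 2, 0], [13, 12, 11, 10, 9, 7, 7, 2, 1, 1, 0, 0], [14, 13, 12, 10, 9, 8, 7, 6, 2], [12, 8, 7, 6, 5, 4, 4, 3, 3, 2, 2, 1, 1, 0, 0], [12, 11, 8, 6,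 6, 5, 4, 4, 1, 0, 0], [14, 13, 12, 11, 10, 8, 7, 6, 6, 4, 4, 3, 1, 0, 0], [14, 12, 11, 10, 9, 8, 6, 6, 5, 4, 4, 3, 2, 2, 1, 1]], [[7, 7, 6, 5, 4, 3, 2, 1, 0, 0], [7, 7, 6, 5, 4, 3, 3, 0, 0], [7, 6, 5, 5, 4, 4, 3, 3, 2], [7, 6, 6, 5, 3, 2, 2, 1, 0, 0], [7, 6, 6, 5, 5, 4, 3, 3, 2, 0], [7, 5, 5, 4, 2, 1, 1, 0, 0], [5, 5, 4, 3, 2, 2, 1, 1], [7, 7, 6, 6, 5, 3, 2, 2, 1], [8, 7, 7, 6, 4, 4, 3, 3, 2, 2, 0, 0], [10, 9, 8, 6, 6, 4, 1, 1, 0], [14, 13, 12, 10, 9, 4, 2, 0], [13, 9, 5, 5, 4, 3, 3, 2, 2, 1, 1], [14, 9, 8, 7, 7, 4, 4, 3, 3, 2, 2], [14, 12, 11, 8, 7, 6, 4, 4, 3, 3, 2, 2, 0], [12, 11, 8, 7, 5, 5, 4, 3, 2, 0], [15, 14, 13, 12, 5, 3, 2, 1, 1, 0]], [[7, 7, 6, 5, 4, 3, 2,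 1, 0, 0], [5, 4, 4, 3, 3, 2, 1, 0], [4, 3, 2, 2, 0], [7, 7, 5, 2, 2, 1], [7, 7, 6, 6, 5, 4, 4, 3, 2, 2, 1, 1, 0, 0], [7, 5, 5, 3, 2, 1, 1, 0, 0], [7, 7, 6, 6, 1, 1, 0], [7, 6, 5, 5, 4, 3, 1, 0], [8, 6, 6, 5, 5, 4, 3, 2, 2, 0, 0], [14, 12, 11, 9, 7, 6, 6, 4, 4, 3], [13, 12, 11, 8, 5, 5, 3, 2, 2, 1, 0], [14, 12, 11, 10, 9, 7, 5, 5, 4, 3, 2, 0, 0], [12, 11, 10, 9, 8, 7, 7, 6, 6, 5, 5, 3, 2, 2, 0], [14, 11, 9, 8, 4, 0, 0], [14, 9, 8, 7, 6, 6, 5, 5, 4, 3, 2, 0], [15, 14, 13, 9, 8, 7, 6, 5, 5, 3, 2, 1, 1, 0, 0], [16, 15, 14, 13, 12, 11, 9, 6, 6, 0, 0]], [[6, 5, 3, 2, 1], [7, 6, 5, 4, 2, 1, 1, 0, 0], [7, 7, 6, 5, 5, 4, 4, 3, 2, 2, 1, 1, 0, 0], [7, 7, 6, 6, 4, 4], [7, 7, 5, 3,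 0, 0], [7, 7, 5, 3, 3, 1, 1, 0, 0], [6, 6, 5, 5, 4, 4, 2, 2, 1, 1, 0, 0], [7, 3, 2, 1, 1, 0], [8, 5, 5, 3, 2, 1, 1, 0], [13, 12, 11, 10, 8, 7, 7, 6, 5, 5, 4, 1], [14, 11, 10, 7, 7, 6, 5, 4, 4, 3, 3, 1, 0], [12, 11, 7, 7, 6, 5, 3, 3, 2, 2, 1, 1, 0], [11, 7, 5, 5, 4, 4, 3, 1, 1, 0, 0], [14, 13, 9, 8, 7, 6, 5, 3, 1, 1, 0, 0], [13, 9, 8, 5, 4, 4, 3, 3, 1], [15, 11, 8, 7, 6, 5, 2, 0], [16, 16, 15, 14, 13, 10, 9, 7, 4, 3, 2, 1, 1, 0], [17, 17, 14, 13, 12, 10, 9, 7, 7, 6, 6, 5, 3, 3, 2, 2, 1, 0]], [[6, 4, 2, 0, 0], [7, 6, 6, 5, 4, 3, 0, 0], [6, 6, 5, 5, 3, 3, 2, 2, 1, 0], [7, 6, 5, 4, 4, 3, 3, 2, 2, 0], [7, 6, 5, 5, 3, 2, 1, 1, 0, 0], [7, 5, 5, 4, 3, 3], [7, 7, 4, 4, 3, 3, 1,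 0], [7, 7, 6, 4, 3, 2, 2, 1], [8, 7, 7, 6, 6, 5, 4, 3, 3, 2, 2, 1, 0], [13, 12, 11, 10, 8, 7, 4, 3, 2, 2, 1, 0], [14, 13, 8, 7, 6, 6, 5, 5, 4, 2, 2, 0], [13, 10, 8, 4, 3, 2, 2, 1, 1, 0, 0], [11, 9, 7, 7, 6, 6, 5, 5, 4, 4, 3, 3, 2, 2, 1, 0], [14, 13, 12, 8, 6, 5, 5, 4, 4, 2, 2, 1, 0, 0], [10, 7, 7, 5, 5, 3, 3, 0, 0], [15, 14, 13, 12, 10, 7, 6, 5, 4, 4, 3, 3, 1, 0, 0], [17, 17, 16, 16, 15, 15, 14, 13, 10, 9, 8, 7, 7, 6, 6, 5, 5, 4, 4, 3, 3, 0], [17, 16, 16, 15, 11, 10, 7, 7, 5, 3, 0, 0], [18, 14, 13, 9, 7, 6, 5, 4, 4, 3, 2, 2]], [[7, 6, 6, 5, 4, 2, 2], [7, 7, 6, 6, 5, 5, 4, 4, 3, 2, 1, 0, 0], [7, 7, 6, 6, 5, 4, 4, 3], [7, 6, 6, 5, 4, 4, 3, 3, 2, 2, 1, 0], [2, 2, 1, 1, 0],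 [7, 7, 6, 6, 5, 4, 3, 2], [6, 6, 4, 4, 3, 2, 2, 1, 1, 0], [7, 7, 6, 6, 5, 5, 4, 4, 3, 2, 1, 0], [8, 7, 6, 4, 4, 3, 0, 0], [13, 12, 11, 10, 8, 6, 5, 4, 2], [14, 12, 10, 7, 6, 5, 4, 4, 3, 1, 1, 0, 0], [13, 10, 9, 8, 5, 5, 3, 3, 2, 1, 0], [13, 12, 10, 8, 7, 6, 6, 4, 4, 2, 1, 1, 0, 0], [14, 13, 12, 11, 8, 6, 6, 5, 5, 4, 3, 3, 1, 1, 0, 0], [12, 10, 8, 4, 4, 2, 2, 1], [15, 12, 9, 8, 7, 7, 6, 6, 1, 1, 0], [17, 15, 15, 12, 9, 6, 6, 3, 1, 1, 0, 0], [16, 16, 15, 15, 13, 11, 10, 9, 7, 6, 6, 5, 5, 3, 2], [18, 11, 8, 7, 7, 6, 5, 5, 1, 1, 0], [19, 18, 15, 14, 13, 11, 7, 6, 6, 5, 2, 2, 1, 0]], [[0, 0], [7, 7, 6, 6, 3, 1, 1, 0], [7, 7, 6, 5, 5, 3, 3, 1, 1], [7, 6, 4, 1, 1], [7, 7, 6,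 6, 5, 5, 4, 3, 3, 2, 1, 0, 0], [7, 6, 6, 5, 4, 4, 3, 3, 2, 1, 1, 0, 0], [7, 5, 5, 4, 4, 2, 1], [7, 7, 5, 4, 4, 3, 2, 2, 1], [8, 0], [9, 6, 6, 2, 1], [12, 11, 10, 9, 8, 6, 6, 5, 4, 4, 3, 3, 2, 1, 0], [12, 11, 9, 8, 7, 7, 6, 6, 5, 5, 4, 2, 0], [13, 12, 10, 9, 7, 5, 4, 3, 3, 2, 1], [11, 10, 9, 8, 7, 7, 4, 4, 2, 1, 1, 0], [14, 13, 10, 8, 7, 6, 6, 5, 4, 4, 3, 3, 1, 1, 0, 0], [15, 13, 12, 11, 10, 7, 7, 3, 3, 2, 2, 1], [17, 16, 15, 11, 9, 4, 3, 3, 2, 2, 1, 1], [16, 16, 15, 15, 12, 10, 9, 6, 6, 5, 4, 4, 1, 0, 0], [18, 12, 8, 6, 6, 4, 3, 2, 0], [20, 19, 18, 15, 15, 14, 10, 8, 7, 7, 3, 3, 1, 1, 0, 0], [19, 18, 15, 14, 13, 11, 10, 7, 7, 6, 5, 3, 3, 2]], [[5, 4, 4, 0], [6, 5, 4,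 1, 0], [7, 7, 6, 6, 5, 2, 1, 0, 0], [7, 6, 6, 5, 4, 4, 3, 2, 1], [7, 7, 6, 5, 5, 2, 1, 1, 0], [7, 7, 4, 4, 3, 2, 2, 1, 1], [7, 7, 5, 4, 2, 2, 1, 1], [5, 4, 2, 1, 1, 0, 0], [8, 7, 7, 6, 5, 2, 0], [9, 6, 6, 5, 1, 0], [14, 10, 8, 7, 7, 6, 6, 5, 5, 4, 3, 2, 2, 0], [13, 12, 10, 9, 6, 6, 5, 4, 2, 2, 1, 1], [12, 11, 9, 8, 6, 6, 5, 5, 4, 3, 2, 1], [14, 12, 10, 9, 8, 6, 5, 2, 1, 1, 0], [14, 13, 10, 9, 7, 7, 6, 6, 5, 4, 4, 3], [15, 15, 9, 7, 6, 6, 5, 4, 4, 2, 0, 0], [17, 16, 16, 15, 15, 11, 10, 9, 6, 6, 4, 4, 3, 2], [16, 15, 12, 8, 7, 5, 4, 4, 3, 3, 2, 1], [18, 15, 15, 12, 11, 9, 7, 6, 6, 4, 2, 1, 0], [19, 15, 15, 13, 12, 11, 8, 7, 6, 6, 5, 5, 4, 4, 3, 3, 2, 1, 1, 0], [20, 19,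 14, 7, 7, 5, 5, 4, 3, 2, 0, 0], [21, 21, 20, 19, 15, 15, 14, 12, 10, 9, 7, 7, 6, 6, 4, 4, 3, 0]]]

def reps : List ℕ := [0, 3, 6, 9, 54]

def cL : List ℕ := [2, 9]
def cL' : List ℕ := [2, 3]
def mv : ℕ := 0
def xNode : ℕ := 608
def yNode : ℕ := 609

def orbLow : List (List (ℕ × List ℕ)) := [[(947, []), (1186, [9]), (1648, [19, 15, 11, 10, 9, 7, 4, 4, 3, 3, 1, 1]), (2262, [19, 15, 11, 10, 6, 6, 4, 2, 1, 1, 0]), (1322, [20, 15, 13, 11, 10, 8, 6, 4, 4, 2, 2, 1, 1, 0, 0]), (1817, [20, 15, 13, 11, 10, 9, 8, 7, 7, 6, 4, 3, 2, 2, 1, 1]), (8006, [20, 19, 15, 15, 14, 12, 11, 10, 9, 8, 6, 6, 5, 4, 4, 3, 2, 2, 1, 1]), (9592, [20, 19, 15, 15, 14, 12, 11, 10, 8, 7, 6, 6, 5, 4, 4,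 1])], [(7631, []), (11377, [4, 2, 2]), (11367, [4, 4, 2]), (11344, [6, 2, 2, 1, 1]), (14958, [6, 4, 2, 1, 1]), (11379, [6, 4, 4, 1, 1]), (11373, [6, 6, 2, 1]), (10568, [6, 6, 4, 1]), (14965, [6, 6, 4, 4, 2, 2, 1]), (10566, [13, 12, 11, 10, 9, 8, 6, 6, 4, 3, 3, 2, 2, 1, 0]), (14955, [13, 12, 11, 10, 9, 8, 6, 6, 4, 4, 3, 3, 2, 1, 0]), (10558, [13, 12, 11, 10, 9, 8, 6, 6, 3, 3, 1, 0]), (14929, [13, 12, 11, 10, 9, 8, 4, 3, 3, 2, 0]), (11368, [13, 12, 11, 10, 9, 8, 4, 4, 3, 3, 0]), (11375, [13, 12, 11, 10, 9, 8, 3, 3, 2, 2, 0]), (14956, [13, 12, 11, 10, 9, 8, 6, 4, 3, 3, 1, 1, 0]), (14961, [13, 12, 11, 10, 9, 8, 6, 4, 4, 3, 3, 2, 2, 1, 1, 0]), (14952, [13, 12, 11, 10, 9, 8,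 6, 3, 3, 2, 1, 1, 0]), (12695, [18, 15, 12, 11, 9, 8, 7, 7, 5, 5, 4, 4, 2]), (12704, [18, 15, 12, 11, 9, 8, 7, 7, 5, 5]), (13534, [18, 15, 12, 11, 9, 8, 7, 7, 5, 5, 4, 2, 2]), (8673, [18, 15, 12, 11, 9, 8, 7, 7, 6, 5, 5, 4, 4, 1, 1]), (12699, [18, 15, 12, 11, 9, 8, 7, 7, 6, 5, 5, 2, 2, 1, 1]), (12690, [18, 15, 12, 11, 9, 8, 7, 7, 6, 5, 5, 4, 2, 1, 1]), (12667, [18, 15, 12, 11, 9, 8, 7, 7, 6, 6, 5, 5, 4, 4, 2, 2, 1]), (13562, [18, 15, 12, 11, 9, 8, 7, 7, 6, 6, 5, 5, 2, 1]), (9372, [18, 15, 12, 11, 9, 8, 7, 7, 6, 6, 5, 5, 4, 1]), (13533, [18, 15, 13, 10, 8, 5, 4, 3, 3, 1, 0, 0]), (13563, [18, 15, 13, 10, 8, 5, 4, 4, 3, 3, 2, 2, 1, 0, 0]), (12697, [18, 15, 13, 10, 8, 5,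 3, 3, 2, 1, 0, 0]), (12691, [18, 15, 13, 10, 8, 6, 5, 4, 3, 3, 2, 2, 0, 0]), (12701, [18, 15, 13, 10, 8, 6, 5, 4, 4, 3, 3, 2, 0, 0]), (13558, [18, 15, 13, 10, 8, 6, 5, 3, 3, 0, 0]), (9370, [18, 15, 13, 10, 8, 6, 6, 5, 4, 3, 3, 2, 1, 1, 0, 0]), (13561, [18, 15, 13, 10, 8, 6, 6, 5, 4, 4, 3, 3, 1, 1, 0, 0]), (9362, [18, 15, 13, 10, 8, 6, 6, 5, 3, 3, 2, 2, 1, 1, 0, 0])], [(11046, []), (15007, [0]), (15365, [0, 0]), (15463, [5, 4, 3, 3, 2, 1]), (19265, [5, 4, 3, 3, 2, 1, 0]), (19548, [5, 4, 3, 3, 2, 1, 0, 0]), (15488, [5, 5, 4, 4, 3, 2, 2, 1, 1]), (19267, [5, 5, 4, 4, 3, 2, 2, 1, 1, 0]), (19549, [5, 5, 4, 4, 3, 2, 2, 1, 1, 0, 0])]]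

def genPath : List (List ℕ) := [[], [1, 0], [1, 0, 2, 1], [1, 0, 2, 1, 3, 2], [1, 0, 2, 1, 3, 2, 4, 3], [1, 0, 2, 1, 3, 2, 4, 3, 5, 4], [1, 0, 2, 1, 3, 2, 4, 3, 5, 4, 6, 5], [1, 0, 2, 1, 3, 2, 7, 3], [1, 0, 2, 1, 3, 2, 7, 3, 8, 7], [1, 0, 2, 1, 3, 2, 4, 3, 5, 4, 6, 5, 9, 6]]


end CfsgLib.Fi23Solv
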